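/-
What is to be checked about the table of the outer involution.
-/
import Cfsg.Agent.Lib.Spor.Fi22OuterInv.TableData
import Cfsg.Agent.Lib.Spor.PairAut.CheckBase

set_option autoImplicit false
set_option maxRecDepth 100000
set_option maxHeartbeats 0

namespace CfsgLib.Spor.Fi22OuterInv

open CfsgLib.Spor.TC CfsgLib.Spor.Fi22

/-- The table respects a generator at a point. -/
noncomputable def stepAt (i c : ℕ) : Bool :=
  Nat.beq (tauN (ActH.act.T i c)) (ActH.act.wact (PairAut.trW (genImgW.getD i [])) (tauN c))

theorem table_root : tauN 0 = PairAut.partner ∧ PairAut.same (PairAut.tW [0]) (PairAut.trW PairAut.partnerW) = true ∧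
    allFrom (fun c => Nat.blt (tauN c) 3510 && Nat.beq (tauN (tauN c)) c) 0 3510 = true := by decide +kernel

theorem gen_img_ok : ((List.range 9).all fun i => allBelow 9 (genImgW.getD i []) &&
    PairAut.same (PairAut.tW [i]) (PairAut.trW (genImgW.getD i []))) = true := by decide +kernel

end CfsgLib.Spor.Fi22OuterInv
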