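/-
The table of the outer involution respects three of the generators, by kernel evaluation.
-/
import Cfsg.Agent.Lib.Spor.Fi22OuterInv.TableBase

set_option autoImplicit false
set_option maxRecDepth 100000
set_option maxHeartbeats 0

namespace CfsgLib.Spor.Fi22OuterInv

open CfsgLib.Spor.TC CfsgLib.Spor.Fi22

theorem step_ok2 : ((List.range' 6 3).all fun i => allFrom (stepAt i) 0 3510) = true := by decide +kernel

end CfsgLib.Spor.Fi22OuterInv
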