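/-
The table respects the generators, collected.
-/
import Cfsg.Agent.Lib.Spor.Fi22OuterInv.TableCheck0
import Cfsg.Agent.Lib.Spor.Fi22OuterInv.TableCheck1
import Cfsg.Agent.Lib.Spor.Fi22OuterInv.TableCheck2

set_option autoImplicit false

namespace CfsgLib.Spor.Fi22OuterInv

open CfsgLib.Spor.TC

theorem step_ok {i c : ℕ} (hi : i < 9) (hc : c < 3510) : stepAt i c = true := by
  have key : ∀ {a : ℕ}, ((List.range' a 3).all fun i => allFrom (stepAt i) 0 3510) = true → a ≤ i → i < a + 3 →
      stepAt i c = true := fun h h1 h2 =>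
    allFrom_spec (List.all_eq_true.1 h i (List.mem_range'_1.2 ⟨h1, h2⟩)) c (Nat.zero_le c) (by omega)
  by_cases h0 : i < 3
  · exact key step_ok0 (Nat.zero_le _) (by omega)
  · by_cases h1 : i < 6
    · exact key step_ok1 (by omega) (by omega)
    · exact key step_ok2 (by omega) (by omega)

end CfsgLib.Spor.Fi22OuterInv
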