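/-
The outer involution on the transpositions is the table; automorphisms given by tables and their fixed subgroups.
-/
import Cfsg.Agent.Lib.Spor.Fi22OuterInv.TableChecks
import Cfsg.Agent.Lib.Spor.PairAut.Basic

set_option autoImplicit false

namespace CfsgLib.Spor.Fi22OuterInv

open CfsgLib.Spor.TC CfsgLib.Spor.Fi22 CfsgLib.Spor.Fi22Out MulAction

noncomputable section

attribute [local instance] actionH

theorem tauN_spec {c : ℕ} (hc : c < 3510) : tauN c < 3510 ∧ tauN (tauN c) = c := by
  have h := allFrom_spec table_root.2.2 c (Nat.zero_le c) (by omega)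
  simp only [Bool.and_eq_true] at h
  exact ⟨Nat.le_of_ble_eq_true h.1, Nat.eq_of_beq_eq_true h.2⟩

/-- The table as a map of points. -/
def tauP (x : Pt) : Pt := ⟨tauN x.1, (tauN_spec x.2).1⟩

theorem tauP_tauP (x : Pt) : tauP (tauP x) = x := Fin.ext (tauN_spec x.2).2

/-- An element is a product of the generators. -/
theorem exists_el (g : Gp) : ∃ w : List ℕ, (∀ x ∈ w, x < 9) ∧ el w = g := by
  have hg : g ∈ Subgroup.closure (presGen ActH.act.k relsG '' Set.Iio ActH.act.k) := by
    rw [closure_presGen]; trivial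
  induction hg using Subgroup.closure_induction with
  | mem z hz =>
    obtain ⟨x, hx, rfl⟩ := hz
    refine ⟨[x], fun y hy => List.mem_singleton.1 hy ▸ (show x < 9 from hx), ?_⟩
    rw [PairAut.el_single, let', Act.letters_of_lt (show x < ActH.act.k from hx)]
  | one => exact ⟨[], by simp, rfl⟩
  | mul u v _ _ hu hv =>
    obtain ⟨a, ha, rfl⟩ := hu
    obtain ⟨b, hb, rfl⟩ := hv
    exact ⟨a ++ b, fun x hx => (List.mem_append.1 hx).elim (ha x) (hb x), PairAut.el_app a b⟩
  | inv u _ hu =>
    obtain ⟨a, ha, rfl⟩ := hu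
    exact ⟨a.reverse, fun x hx => ha x (List.mem_reverse.1 hx), el_reverse ha⟩

/-- The table is the outer involution on the transpositions. -/
theorem tau_trp (x : Pt) : PairAut.tau (trp x) = trp (tauP x) := by
  obtain ⟨g, rfl⟩ := trans_pt x
  obtain ⟨w, hw, rfl⟩ := exists_el g
  induction w with
  | nil =>
    rw [show el [] = 1 from rfl, one_smul, trp_pt0, show zee = el [0] by rw [PairAut.el_single, PairAut.let_zero],
      PairAut.tau_el (by simp), PairAut.eq_of_same table_root.2.1, ← PairAut.trp_pp]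
    refine congrArg trp (Fin.ext ?_)
    exact table_root.1.symm
  | cons a w ih =>
    have ha : a < 9 := hw a List.mem_cons_self
    have ha' : ∀ y ∈ [a], y < 9 := by simpa using ha
    rw [show (a :: w) = [a] ++ w from rfl, PairAut.el_app, mul_smul]
    set y := el w • pt0
    rw [← conj_trp, map_mul, map_mul, map_inv, ih fun z hz => hw z (List.mem_cons_of_mem _ hz),
      PairAut.tau_el ha']
    have hg := List.all_eq_true.1 gen_img_ok a (List.mem_range.2 ha)
    simp only [Bool.and_eq_true] at hg
    have hl := allBelow_spec hg.1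
    rw [PairAut.eq_of_same hg.2, conj_trp]
    refine congrArg trp (Fin.ext ?_)
    rw [el_smul (below_K (PairAut.trW_lt hl))]
    show _ = tauN ((el [a] • y : Pt) : ℕ)
    rw [el_smul (below_K ha')]
    exact (Nat.eq_of_beq_eq_true (step_ok ha y.2)).symm

theorem trp_ext {α β : MulAut Gp} (h : ∀ x : Pt, α (trp x) = β (trp x)) : α = β :=
  aut_ext fun x hx => by rw [letters_trp x hx]; exact h _

/-- An automorphism given by a map of points. -/
def HasTable (α : MulAut Gp) (f : Pt → Pt) : Prop := ∀ x, α (trp x) = trp (f x)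

theorem image_trp (α : MulAut Gp) (x : Pt) : ∃ y, α (trp x) = trp y := by
  obtain ⟨u, rfl⟩ := trans_pt x
  obtain ⟨p, hp⟩ := Fi22Out.image_zee α
  exact ⟨α u • p, by rw [trp_eq rfl, map_mul, map_mul, map_inv, hp, conj_trp]⟩

theorem HasTable.surjective {α : MulAut Gp} {f : Pt → Pt} (hf : HasTable α f) (y : Pt) : ∃ x, f x = y := by
  obtain ⟨x, hx⟩ := image_trp α⁻¹ y
  refine ⟨x, trp_inj ?_⟩
  rw [← hf, ← hx, MulAut.apply_inv_self]

theorem HasTable.fix_iff {α : MulAut Gp} {f : Pt → Pt} (hf : HasTable α f) (g : Gp) :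
    α g = g ↔ ∀ x, f (g • x) = g • f x := by
  constructor
  · intro h x
    refine trp_inj ?_
    rw [← hf, ← conj_trp, map_mul, map_mul, map_inv, h, hf, conj_trp]
  · intro h
    refine PairAut.conj_inj (trp_ext fun y => ?_)
    obtain ⟨x, rfl⟩ := hf.surjective y
    rw [MulAut.conj_apply, MulAut.conj_apply, conj_trp g, ← h, ← hf (g • x), ← conj_trp, map_mul, map_mul, map_inv, hf x]

end

end CfsgLib.Spor.Fi22OuterInv
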