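/-
Points whose pointwise stabiliser meets the fixed subgroup of an outer involution trivially.
-/
import Cfsg.Agent.Lib.Spor.Fi22OuterInv.Table

set_option autoImplicit false

namespace CfsgLib.Spor.Fi22OuterInv

open CfsgLib.Spor.TC CfsgLib.Spor.Fi22 CfsgLib.Spor.Fi22Out MulAction

noncomputable section

attribute [local instance] actionH

/-- The action of the transposition named by a word. -/
def act1 (w : List ℕ) (y : ℕ) : ℕ := ActH.act.wact (w ++ 0 :: w.reverse) y

theorem act1_smul {p : Pt} {w : List ℕ} (hw : ∀ x ∈ w, x < 9) (h0 : ActH.act.wact w 0 = p) (y : Pt) :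
    ((trp p • y : Pt) : ℕ) = act1 w y := by
  rw [trp_word (p := p) hw h0, ← PairAut.trW, el_smul (below_K (PairAut.trW_lt hw))]
  rfl

/-- A point named by a word. -/
def wordPt (w : List ℕ) (q : ℕ) : Bool := allBelow 9 w && Nat.blt q 3510 && Nat.beq (ActH.act.wact w 0) q

theorem wordPt_spec {w : List ℕ} {q : ℕ} (h : wordPt w q = true) :
    ∃ p : Pt, p.1 = q ∧ (∀ x ∈ w, x < 9) ∧ ActH.act.wact w 0 = p := by
  simp only [wordPt, Bool.and_eq_true] at h
  exact ⟨⟨q, Nat.le_of_ble_eq_true h.1.2⟩, rfl, allBelow_spec h.1.1, Nat.eq_of_beq_eq_true h.2⟩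

/-- The numbers for a rigid set. -/
structure RigidData where
  pts : List ℕ
  words : List (List ℕ)
  qs : List ℕ
  qsW : List (List ℕ)
  links : List ℕ
  gens : List (ℕ × List ℕ)
  pat : List (List ℕ × List ℕ)
  fN : ℕ → ℕ

/-- Whether a member commutes with a point. -/
def RigidData.com (D : RigidData) (i x : ℕ) : Bool := Nat.beq (act1 (D.words.getD i []) x) x

/-- Whether two of the chosen points commute, the second replaced by any point. -/
def RigidData.qcom (D : RigidData) (l x : ℕ) : Bool := Nat.beq (act1 (D.qsW.getD l []) x) x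

/-- The separation of one point. -/
def RigidData.sepOK (D : RigidData) (j : ℕ) : Bool :=
  let q := D.qs.getD j 0
  let ys := (D.pat.getD j ([], [])).1
  let ns := (D.pat.getD j ([], [])).2
  (ys.all fun i => Nat.blt i D.pts.length && D.com i q) && (ns.all fun i => Nat.blt i D.pts.length && !D.com i q) &&
  allFrom (fun x => Nat.beq x q || Nat.beq x (D.fN q) || ys.any (fun i => !D.com i x) || ns.any (fun i => D.com i x))
    0 3510

/-- All checks. -/
def RigidData.ok (D : RigidData) : Bool :=
  ((List.range D.pts.length).all fun i => wordPt (D.words.getD i []) (D.pts.getD i 0)) &&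
  ((List.range D.qs.length).all fun j => wordPt (D.qsW.getD j []) (D.qs.getD j 0) && D.sepOK j) &&
  ((List.range D.qs.length).all fun j => Nat.beq j 0 ||
    let l := D.links.getD (j - 1) 0
    Nat.blt l j && !(D.qcom l (D.qs.getD j 0) == D.qcom l (D.fN (D.qs.getD j 0)))) &&
  ((List.range 9).all fun i => let e := D.gens.getD i (0, [])
    Nat.blt e.1 D.qs.length && (e.2.all fun k => Nat.blt k D.qs.length) &&
    Nat.beq (List.foldr (fun k y => act1 (D.qsW.getD k []) y) (D.qs.getD e.1 0) e.2) (ptN i))

theorem RigidData.generates (D : RigidData) (h : D.ok = true) {β : MulAut Gp}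
    (hβ : ∀ j < D.qs.length, ∀ p : Pt, p.1 = D.qs.getD j 0 → β (trp p) = trp p) : β = 1 := by
  simp only [RigidData.ok, Bool.and_eq_true, List.all_eq_true, List.mem_range] at h
  obtain ⟨⟨⟨-, hq⟩, -⟩, hg⟩ := h
  refine aut_ext fun x hx => ?_
  rw [letters_trp x hx, MulAut.one_apply]
  obtain ⟨⟨h1, h2⟩, h3⟩ := hg x hx
  have h1' := Nat.le_of_ble_eq_true h1
  have key : ∀ l : List ℕ, (∀ k ∈ l, k < D.qs.length) → ∃ p : Pt,
      p.1 = List.foldr (fun k y => act1 (D.qsW.getD k []) y) (D.qs.getD (D.gens.getD x (0, [])).1 0) l ∧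
        β (trp p) = trp p := by
    intro l
    induction l with
    | nil =>
      intro _
      obtain ⟨p, ep, -, -⟩ := wordPt_spec (hq _ h1').1
      exact ⟨p, ep, hβ _ h1' p ep⟩
    | cons k l ih =>
      intro hl
      obtain ⟨p, ep, hp⟩ := ih fun i hi => hl i (List.mem_cons_of_mem _ hi)
      have hk := hl k List.mem_cons_self
      obtain ⟨pk, ek, hw, hw0⟩ := wordPt_spec (hq k hk).1
      refine ⟨trp pk • p, by rw [act1_smul hw hw0, ep, List.foldr_cons], ?_⟩
      rw [← conj_trp, map_mul, map_mul, map_inv, hβ k hk pk ek, hp]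
  obtain ⟨p, ep, hp⟩ := key _ fun k hk => Nat.le_of_ble_eq_true (h2 k hk)
  rwa [show p = gpt x from Fin.ext (ep.trans (Nat.eq_of_beq_eq_true h3))] at hp

theorem com_iff {p : Pt} {w : List ℕ} (hw : ∀ x ∈ w, x < 9) (h0 : ActH.act.wact w 0 = p) (y : Pt) :
    Nat.beq (act1 w y) y = true ↔ trp p • y = y := by
  rw [← act1_smul hw h0, Fin.ext_iff]
  exact ⟨Nat.eq_of_beq_eq_true, fun r => by rw [r]; exact Nat.beq_refl _⟩

/-- Fixing the members and commuting with the outer involution leaves the identity only. -/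
theorem RigidData.rigid (D : RigidData) (h : D.ok = true) {α : MulAut Gp} {f : Pt → Pt} (hf : HasTable α f)
    (hfN : ∀ x : Pt, (f x).1 = D.fN x.1) (hff : ∀ x, f (f x) = x)
    (hα : ∀ k : Gp, MulAut.conj k ≠ α) {g : Gp} (hg : α g = g)
    (hfix : ∀ i < D.pts.length, ∀ p : Pt, p.1 = D.pts.getD i 0 → g • p = p) : g = 1 := by
  have hall := h
  simp only [RigidData.ok, Bool.and_eq_true, List.all_eq_true, List.mem_range] at hall
  obtain ⟨⟨⟨hP, hQ⟩, hL⟩, -⟩ := hall
  have hgf := (hf.fix_iff g).1 hg
  -- each point is fixed or replaced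
  have hcase : ∀ j < D.qs.length, ∀ p : Pt, p.1 = D.qs.getD j 0 → g • p = p ∨ g • p = f p := by
    intro j hj p hp
    have hs := (hQ j hj).2
    simp only [RigidData.sepOK, Bool.and_eq_true, List.all_eq_true] at hs
    obtain ⟨⟨hy, hn⟩, hx⟩ := hs
    have hcom : ∀ i < D.pts.length, D.com i (g • p : Pt).1 = D.com i p.1 := by
      intro i hi
      obtain ⟨pi, ei, hw, hw0⟩ := wordPt_spec (hP i hi)
      have hgi := hfix i hi pi ei
      have e : trp pi • (g • p) = g • p ↔ trp pi • p = p := by
        have := trp_fix_smul g pi p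
        rwa [hgi] at this
      rw [Bool.eq_iff_iff, RigidData.com, RigidData.com, com_iff hw hw0, com_iff hw hw0]
      exact e
    have hr := allFrom_spec hx (g • p : Pt).1 (Nat.zero_le _) (by have := (g • p : Pt).2; exact lt_of_lt_of_le this (by rfl))
    simp only [Bool.or_eq_true, List.any_eq_true, Bool.not_eq_true'] at hr
    rcases hr with ((r | r) | ⟨i, hi, r⟩) | ⟨i, hi, r⟩
    · exact Or.inl (Fin.ext ((Nat.eq_of_beq_eq_true r).trans hp.symm))
    · exact Or.inr (Fin.ext ((Nat.eq_of_beq_eq_true r).trans (by rw [hfN, hp])))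
    · obtain ⟨a, b⟩ := hy i hi
      rw [hcom i (Nat.le_of_ble_eq_true a), hp, b] at r
      exact absurd r (by simp)
    · obtain ⟨a, b⟩ := hn i hi
      rw [hcom i (Nat.le_of_ble_eq_true a), hp] at r
      rw [r] at b
      exact absurd b (by simp)
  -- alike along the links
  have hsame : ∀ j < D.qs.length, ∀ p : Pt, p.1 = D.qs.getD j 0 → ∀ p0 : Pt, p0.1 = D.qs.getD 0 0 →
      (g • p = p ↔ g • p0 = p0) := by
    intro j
    induction j using Nat.strong_induction_on with
    | _ j ih =>
      intro hj p hp p0 hp0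
      by_cases hj0 : j = 0
      · subst hj0
        rw [show p = p0 from Fin.ext (hp.trans hp0.symm)]
      have hl := hL j hj
      simp only [Bool.or_eq_true, Bool.and_eq_true, Bool.not_eq_true', beq_eq_false_iff_ne] at hl
      obtain ⟨hlt, hne⟩ := hl.resolve_left (fun r => hj0 (Nat.eq_of_beq_eq_true r))
      have hlt' := Nat.le_of_ble_eq_true hlt
      obtain ⟨pl, el', hw, hw0⟩ := wordPt_spec (hQ _ (lt_trans hlt' hj)).1
      rw [← ih _ hlt' (lt_trans hlt' hj) pl el' p0 hp0]
      have hd : ¬ (trp pl • p = p ↔ trp pl • f p = f p) := by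
        intro hiff
        refine hne ?_
        rw [Bool.eq_iff_iff, RigidData.qcom, RigidData.qcom, ← hp, ← hfN, com_iff hw hw0, com_iff hw hw0]
        exact hiff
      have hmove := trp_fix_smul g pl p
      have hsym : trp (f pl) • p = p ↔ trp pl • f p = f p := by
        rw [← commute_trp_iff, ← commute_trp_iff]
        constructor
        · intro r
          have := r.map α.toMonoidHom
          rwa [MulEquiv.coe_toMonoidHom, hf, hf, hff] at this
        · intro r
          have := r.map α.toMonoidHom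
          rwa [MulEquiv.coe_toMonoidHom, hf, hf, hff] at this
      rcases hcase _ (lt_trans hlt' hj) pl el' with q | q
      · have hp' : g • p = p := (hcase j hj p hp).resolve_right fun r => by
          rw [q, r] at hmove
          exact hd hmove.symm
        exact iff_of_true hp' q
      · by_cases r : g • p = p
        · rw [q, r] at hmove
          exact absurd (hmove.symm.trans hsym) hd
        · refine iff_of_false r fun e => ?_
          rw [e, (hcase j hj p hp).resolve_left r] at hmove
          exact hd hmove.symm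
  by_cases hz : ∀ p0 : Pt, p0.1 = D.qs.getD 0 0 → g • p0 = p0
  · refine PairAut.conj_inj (Eq.trans (D.generates h fun j hj p hp => ?_) (map_one _).symm)
    rw [MulAut.conj_apply, conj_trp]
    by_cases h0 : 0 < D.qs.length
    · obtain ⟨p0, e0, -, -⟩ := wordPt_spec (hQ 0 h0).1
      rw [(hsame j hj p hp p0 e0).2 (hz p0 e0)]
    · exact absurd hj (by omega)
  · push Not at hz
    obtain ⟨p0, e0, hne0⟩ := hz
    refine absurd ?_ (hα g)
    refine inv_mul_eq_one.1 (D.generates h fun j hj p hp => ?_)
    rw [MulAut.mul_apply, ← map_inv, MulAut.conj_apply, hf, conj_trp]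
    refine congrArg trp ?_
    rcases hcase j hj p hp with r | r
    · exact absurd ((hsame j hj p hp p0 e0).1 r) hne0
    · rw [← r, inv_smul_smul]

end

end CfsgLib.Spor.Fi22OuterInv
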