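/-
Blocks of common transpositions as numbers, and permutations of them as numbers.
-/
import Cfsg.Agent.Lib.Spor.Fi22OuterInv.BlockValues
import Cfsg.Agent.Lib.Spor.Fi22OuterInv.TableBase
import Cfsg.Agent.Lib.Spor.Fi22OuterInv.Rigid

set_option autoImplicit false

namespace CfsgLib.Spor.Fi22OuterInv

open CfsgLib.Spor.TC CfsgLib.Spor.Fi22 CfsgLib.Spor.Fi22Out
open CfsgLib.Spor.PairAut (commonPts commonW partner)

noncomputable section

/-- The place of a common point, plus one. -/
def posN (c : ℕ) : ℕ := commonTbl.get 16 c

/-- The block of a common point. -/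
def blkN (c : ℕ) : ℕ := blkList.getD (posN c - 1) 0

/-- An image in a permutation given by six bits for each block. -/
def dig (c b : ℕ) : ℕ := (c >>> (6 * b)) &&& 63

/-- The permutation of an element of the stabiliser. -/
def stabP (t : ℕ) : ℕ := stabPermTbl.get 288 t

/-- Whether it interchanges the pair. -/
def stabO (t : ℕ) : Bool := Nat.beq (stabOddTbl.get 16 t) 1

/-- An earlier element giving it. -/
def stabPar (t : ℕ) : ℕ := stabParTbl.get 16 t

/-- The generator doing so. -/
def stabGen (t : ℕ) : ℕ := stabGenTbl.get 16 t

/-- The element at a place. -/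
def stabOrd (r : ℕ) : ℕ := stabOrdTbl.get 16 r

/-- The place of an element. -/
def stabRank (t : ℕ) : ℕ := stabRankTbl.get 16 t

/-- A product of generators, applied to a block. -/
def permW (l : List ℕ) (b : ℕ) : ℕ := l.foldr (fun i x => dig (genPerm.getD i 0) x) b

/-- The word of a product of generators. -/
def genWord (l : List ℕ) : List ℕ := l.flatMap fun i => genW.getD i []

end

end CfsgLib.Spor.Fi22OuterInv
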