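/-
The permutations of the blocks, by kernel evaluation.
-/
import Cfsg.Agent.Lib.Spor.Fi22OuterInv.BlockDefs
import Cfsg.Agent.Lib.Spor.TC.Strict

set_option autoImplicit false
set_option maxRecDepth 100000
set_option maxHeartbeats 0

namespace CfsgLib.Spor.Fi22OuterInv

open CfsgLib.Spor.TC CfsgLib.Spor.Fi22 CfsgLib.Spor.Fi22Out
open CfsgLib.Spor.PairAut (commonPts commonW partner eW)

theorem pos_ok : allFrom (fun c => Nat.beq (posN c) 0 || (Nat.ble (posN c) 180 &&
      Nat.beq (commonPts.getD (posN c - 1) 0) c)) 0 3510 = true ∧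
    ((List.range 180).all fun a => Nat.beq (posN (commonPts.getD a 0)) (a + 1) && Nat.blt (blkList.getD a 0) 45 &&
      Nat.blt (blkRows.getD a 0) (2 ^ 180)) = true := by decide +kernel

theorem rows_blk : ((List.range 180).all fun a => Nat.beq (blkRows.getD a 0) (blkRowRep.getD (blkList.getD a 0) 0)) = true ∧
    ((List.range 45).all fun b => strict (blkRowRep.getD b 0) fun m =>
      (List.range 45).all fun c => Nat.beq b c || !Nat.beq m (blkRowRep.getD c 0)) = true := by
  decide +kernel

theorem reps_ok : ((List.range 45).all fun b => !Nat.beq (posN (blkReps.getD b 0)) 0 &&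
    Nat.beq (blkN (blkReps.getD b 0)) b) = true := by decide +kernel

theorem gens_perm : ((List.range 6).all fun i => allBelow 9 (genW.getD i []) &&
    ((Nat.beq (ActH.act.wact (genW.getD i []) 0) 0 && Nat.beq (ActH.act.wact (genW.getD i []) partner) partner) ||
      (Nat.beq (ActH.act.wact (genW.getD i []) 0) partner && Nat.beq (ActH.act.wact (genW.getD i []) partner) 0)) &&
    (List.range 45).all fun b => Nat.beq (blkN (ActH.act.wact (genW.getD i []) (blkReps.getD b 0)))
      (dig (genPerm.getD i 0) b)) = true := by decide +kernel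

theorem stab_gens : ((List.range 2).all fun g => (stabGenL.getD g []).all (fun i => Nat.blt i 6) &&
    (ActH.act.wact (genWord (stabGenL.getD g [])) 0 == if stabGenOdd.getD g false then partner else 0) &&
    (List.range 45).all fun b => Nat.beq (permW (stabGenL.getD g []) b) (dig (stabGenPerm.getD g 0) b)) = true := by
  decide +kernel

/-- The step of one element of the stabiliser. -/
noncomputable def treeAt (t : ℕ) : Bool :=
  Nat.ble (stabPar (t + 1)) t && Nat.blt (stabGen (t + 1)) 2 &&
    (stabO (t + 1) == (stabGenOdd.getD (stabGen (t + 1)) false ^^ stabO (stabPar (t + 1)))) &&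
    strict (stabP (t + 1)) fun c => strict (stabGenPerm.getD (stabGen (t + 1)) 0) fun g =>
      strict (stabP (stabPar (t + 1))) fun p => (List.range 45).all fun b => Nat.beq (dig c b) (dig g (dig p b))

theorem stab_tree : allFromS treeAt 0 1151 = true := by decide +kernel

theorem stab_root : ((List.range 45).all fun b => Nat.beq (dig (stabP 0) b) b) = true ∧
    stabO 0 = false ∧
    allFromS (fun t => Nat.beq (dig (stabP t) 0) 0 && Nat.beq (stabOrd (stabRank t)) t && Nat.blt (stabRank t) 1152 &&
      Nat.blt (stabP t) (2 ^ 270)) 0 1152 = true ∧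
    allFromS (fun r => Nat.blt (stabP (stabOrd r)) (stabP (stabOrd (r + 1)))) 0 1151 = true := by decide +kernel

/-- An element is not an odd involution, or is conjugate to one of the two. -/
noncomputable def conjAt (t : ℕ) : Bool :=
  !stabO t || strict (stabP t) fun c =>
    ((List.range 45).any fun b => !Nat.beq (dig c (dig c b)) b) ||
    stabConj.any fun e => Nat.beq e.1 t && Nat.blt e.2.1 2 && e.2.2.all (fun i => Nat.blt i 6) &&
      (List.range 45).all fun b => Nat.beq (permW e.2.2 (dig c b)) (permW (repL.getD e.2.1 []) (permW e.2.2 b))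

theorem stab_conj : allFromS conjAt 0 1152 = true := by decide +kernel

theorem moves_ok : blkMoves.length = 44 ∧ ((List.range 44).all fun t => let e := blkMoves.getD t (0, 0, 0)
      Nat.blt e.1 45 && Nat.blt e.2.1 6 && Nat.blt e.2.2 45 && Nat.beq (dig (genPerm.getD e.2.1 0) e.2.2) e.1 &&
        (Nat.beq e.2.2 0 || ((blkMoves.take t).map Prod.fst).contains e.2.2)) = true ∧
    ((List.range 45).all fun b => Nat.beq b 0 || (blkMoves.map Prod.fst).contains b) = true := by decide +kernel

theorem rep_ok : ((List.range 2).all fun j => (repL.getD j []).all (fun i => Nat.blt i 6) &&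
    Nat.beq (ActH.act.wact (genWord (repL.getD j [])) 0) partner) = true := by decide +kernel

theorem tau_blocks : ((List.range 180).all fun a =>
    Nat.beq (blkN (tauN (commonPts.getD a 0))) (blkList.getD a 0)) = true ∧ tauN 0 = partner ∧ tauN partner = 0 := by
  decide +kernel

theorem kernel_blocks : ((List.range 10).all fun k => allBelow 9 (eW.getD k []) &&
    Nat.beq (ActH.act.wact (eW.getD k []) 0) 0 && Nat.beq (ActH.act.wact (eW.getD k []) partner) partner &&
    (List.range 45).all fun b => Nat.beq (blkN (ActH.act.wact (eW.getD k []) (blkReps.getD b 0))) b) = true ∧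
    ((List.range 45).any fun b => !Nat.beq (blkN (ActH.act.wact (PairAut.witW) (blkReps.getD b 0))) b) = true := by
  decide +kernel

theorem neighbours : allFrom (fun c => Nat.beq c 0 || !Nat.beq (ActH.act.T 0 c) c || cand [0] 6 c) 0 3510 = true ∧
    ((List.range 3510).filter fun c => !Nat.beq c 0 && Nat.beq (ActH.act.T 0 c) c).length = 693 := by
  decide +kernel

end CfsgLib.Spor.Fi22OuterInv
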