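/-
The rows of the blocks, by kernel evaluation.
-/
import Cfsg.Agent.Lib.Spor.Fi22OuterInv.BlockDefs

set_option autoImplicit false
set_option maxRecDepth 100000
set_option maxHeartbeats 0

namespace CfsgLib.Spor.Fi22OuterInv

open CfsgLib.Spor.TC CfsgLib.Spor.Fi22 CfsgLib.Spor.Fi22Out
open CfsgLib.Spor.PairAut (commonPts commonW partner)

theorem rows_ok : ((List.range 180).all fun a => (List.range 180).all fun b =>
    (!Nat.beq (act1 (commonW.getD a []) (commonPts.getD b 0)) (commonPts.getD b 0)) == (blkRows.getD b 0).testBit a)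
      = true := by decide +kernel

end CfsgLib.Spor.Fi22OuterInv
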