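/-
The action on the blocks of common transpositions of the elements keeping a commuting pair.
-/
import Cfsg.Agent.Lib.Spor.Fi22OuterInv.BlockRows
import Cfsg.Agent.Lib.Spor.Fi22OuterInv.BlockChecks
import Cfsg.Agent.Lib.Spor.PairAut.Above

set_option autoImplicit false

namespace CfsgLib.Spor.Fi22OuterInv

open CfsgLib.Spor.TC CfsgLib.Spor.Fi22 CfsgLib.Spor.Fi22Out MulAction
open CfsgLib.Spor.PairAut (common commonPts commonW partner pp)

noncomputable section

attribute [local instance] actionH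

theorem pt_lt (x : Pt) : x.1 < 3510 := x.2

/-- The elements keeping the pair. -/
def P2 : Subgroup Gp where
  carrier := {g | (g • pt0 = pt0 ∧ g • pp = pp) ∨ (g • pt0 = pp ∧ g • pp = pt0)}
  one_mem' := Or.inl ⟨one_smul _ _, one_smul _ _⟩
  mul_mem' := by
    rintro x y (⟨a, b⟩ | ⟨a, b⟩) (⟨c, d⟩ | ⟨c, d⟩) <;> simp [mul_smul, a, b, c, d]
  inv_mem' := by
    rintro x (⟨a, b⟩ | ⟨a, b⟩)
    · exact Or.inl ⟨inv_smul_eq_iff.2 a.symm, inv_smul_eq_iff.2 b.symm⟩
    · exact Or.inr ⟨inv_smul_eq_iff.2 b.symm, inv_smul_eq_iff.2 a.symm⟩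

theorem flips_mul {a b : Gp} (ha : a ∈ P2) (hb : b ∈ P2) :
    (a * b) • pt0 = pp ↔ ¬(a • pt0 = pp ↔ b • pt0 = pp) := by
  have hne : pp ≠ pt0 := PairAut.pp_ne
  rcases ha with ⟨h1, h2⟩ | ⟨h1, h2⟩ <;> rcases hb with ⟨h3, h4⟩ | ⟨h3, h4⟩ <;> simp [mul_smul, h1, h2, h3, hne.symm]

theorem mem_P2_of_pt0 {g : Gp} (h : (g • pt0 = pt0 ∧ g • pp = pp)) : g ∈ P2 := Or.inl h

theorem common_smul {g : Gp} (hg : g ∈ P2) {x : Pt} (hx : x ∈ common) : g • x ∈ common := by
  obtain ⟨q0, q1, q2, q3⟩ := hx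
  have k0 : trp pt0 • x = x := by rw [trp_pt0]; exact q2
  have key : ∀ q : Pt, trp q • x = x → trp (g • q) • g • x = g • x := fun q hq => (trp_fix_smul g q x).2 hq
  rcases hg with ⟨a, b⟩ | ⟨a, b⟩
  · refine ⟨fun r => q0 (smul_left_cancel g (r.trans a.symm)), fun r => q1 (smul_left_cancel g (r.trans b.symm)), ?_, ?_⟩
    · rw [← trp_pt0]; simpa only [a] using key pt0 k0
    · simpa only [b] using key pp q3
  · refine ⟨fun r => q1 (smul_left_cancel g (r.trans b.symm)), fun r => q0 (smul_left_cancel g (r.trans a.symm)), ?_, ?_⟩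
    · rw [← trp_pt0]; simpa only [b] using key pp q3
    · simpa only [a] using key pt0 k0

theorem pts_common {a : ℕ} (ha : a < 180) :
    ∃ p : Pt, p.1 = commonPts.getD a 0 ∧ p ∈ common ∧ ∀ y : Pt, ((trp p • y : Pt) : ℕ) = act1 (commonW.getD a []) y := by
  obtain ⟨p, hp, he⟩ := PairAut.tv_trp ha
  obtain ⟨h1, h2⟩ := PairAut.common_pts
  have h := List.all_eq_true.1 h2 a (List.mem_range.2 (h1.symm ▸ ha))
  let q : Pt := ⟨commonPts.getD a 0, by
    have h3 := List.all_eq_true.1 PairAut.common_in _ (PairAut.common_lt ha)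
    simp only [Bool.and_eq_true] at h3
    exact Nat.le_of_ble_eq_true h3.1.1.1.1⟩
  have hw0 : ActH.act.wact (commonW.getD a []) 0 = q := Nat.eq_of_beq_eq_true h
  have e : p = q := trp_inj (he.symm.trans (trp_word (PairAut.commonW_lt a) hw0).symm)
  exact ⟨p, e ▸ rfl, hp, fun y => e ▸ act1_smul (p := q) (PairAut.commonW_lt a) hw0 y⟩

theorem pos_common {x : Pt} (hx : x ∈ common) :
    ∃ a, a < 180 ∧ commonPts.getD a 0 = x.1 ∧ posN x.1 = a + 1 := by
  obtain ⟨a, ha, he⟩ := PairAut.trp_common hx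
  obtain ⟨p, ep, -, hact⟩ := pts_common ha
  obtain ⟨p', hp', he'⟩ := PairAut.tv_trp ha
  obtain ⟨h1, h2⟩ := PairAut.common_pts
  have h := List.all_eq_true.1 h2 a (List.mem_range.2 (h1.symm ▸ ha))
  have e : p = x := trp_inj ((trp_word (p := p) (PairAut.commonW_lt a)
    ((Nat.eq_of_beq_eq_true h).trans ep.symm)).trans he)
  have hp := List.all_eq_true.1 pos_ok.2 a (List.mem_range.2 ha)
  simp only [Bool.and_eq_true] at hp
  refine ⟨a, ha, by rw [← ep, e], ?_⟩
  rw [← e, ep]
  exact Nat.eq_of_beq_eq_true hp.1.1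

theorem common_of_pos {x : Pt} (hx : posN x.1 ≠ 0) : x ∈ common := by
  have h := allFrom_spec pos_ok.1 x.1 (Nat.zero_le _) (by have := pt_lt x; omega)
  simp only [Bool.or_eq_true, Bool.and_eq_true] at h
  obtain ⟨h1, h2⟩ := h.resolve_left fun r => hx (Nat.eq_of_beq_eq_true r)
  obtain ⟨p, ep, hp, -⟩ := pts_common (a := posN x.1 - 1) (by have := Nat.le_of_ble_eq_true h1; omega)
  exact (show p = x from Fin.ext (ep.trans (Nat.eq_of_beq_eq_true h2))) ▸ hp

/-- The block of a common point. -/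
def bix {x : Pt} (hx : x ∈ common) : Fin 45 := ⟨blkN x.1, by
  obtain ⟨a, ha, -, he⟩ := pos_common hx
  have h := List.all_eq_true.1 pos_ok.2 a (List.mem_range.2 ha)
  simp only [Bool.and_eq_true] at h
  rw [blkN, he, Nat.add_sub_cancel]
  exact Nat.le_of_ble_eq_true h.1.2⟩

theorem row_spec {x z : Pt} (hx : x ∈ common) {a b : ℕ} (ha : a < 180) (hb : b < 180) (ea : commonPts.getD a 0 = z.1)
    (eb : commonPts.getD b 0 = x.1) : (blkRows.getD b 0).testBit a = false ↔ trp z • x = x := by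
  have h := List.all_eq_true.1 (List.all_eq_true.1 rows_ok a (List.mem_range.2 ha)) b (List.mem_range.2 hb)
  simp only [beq_iff_eq] at h
  obtain ⟨p, ep, -, hact⟩ := pts_common ha
  have e : p = z := Fin.ext (ep.trans ea)
  subst e
  rw [← h, eb, ← hact, Bool.not_eq_false', Nat.beq_eq, Fin.ext_iff]

/-- Two common points are in one block exactly when they commute with the same ones. -/
theorem bix_eq_iff {x y : Pt} (hx : x ∈ common) (hy : y ∈ common) :
    bix hx = bix hy ↔ ∀ z ∈ common, (trp z • x = x ↔ trp z • y = y) := by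
  obtain ⟨b, hb, eb, pb⟩ := pos_common hx
  obtain ⟨c, hc, ec, pc⟩ := pos_common hy
  have hiff : bix hx = bix hy ↔ blkRows.getD b 0 = blkRows.getD c 0 := by
    have er : ∀ a, a < 180 → blkRows.getD a 0 = blkRowRep.getD (blkList.getD a 0) 0 := fun a ha =>
      Nat.eq_of_beq_eq_true (List.all_eq_true.1 rows_blk.1 a (List.mem_range.2 ha))
    have ej : ∀ u v, u < 45 → v < 45 → blkRowRep.getD u 0 = blkRowRep.getD v 0 → u = v := fun u v hu hv he => by
      have h := List.all_eq_true.1 rows_blk.2 u (List.mem_range.2 hu)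
      rw [strict_eq] at h
      have h2 := List.all_eq_true.1 h v (List.mem_range.2 hv)
      simp only [Bool.or_eq_true, Bool.not_eq_true'] at h2
      rcases h2 with r | r
      · exact Nat.eq_of_beq_eq_true r
      · rw [he, Nat.beq_refl] at r
        exact absurd r (by decide)
    rw [Fin.ext_iff]
    show blkN x.1 = blkN y.1 ↔ _
    rw [blkN, blkN, pb, pc, Nat.add_sub_cancel, Nat.add_sub_cancel, er b hb, er c hc]
    refine ⟨fun h => by rw [h], fun h => ej _ _ ?_ ?_ h⟩
    · have h := List.all_eq_true.1 pos_ok.2 b (List.mem_range.2 hb)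
      simp only [Bool.and_eq_true] at h
      exact Nat.le_of_ble_eq_true h.1.2
    · have h := List.all_eq_true.1 pos_ok.2 c (List.mem_range.2 hc)
      simp only [Bool.and_eq_true] at h
      exact Nat.le_of_ble_eq_true h.1.2
  rw [hiff]
  constructor
  · intro h z hz
    obtain ⟨a, ha, ea, -⟩ := pos_common hz
    rw [← row_spec hx ha hb ea eb, ← row_spec hy ha hc ea ec, h]
  · intro h
    refine Nat.eq_of_testBit_eq fun a => ?_
    by_cases ha : a < 180
    · obtain ⟨z, ez, hz, -⟩ := pts_common ha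
      have h2 := h z hz
      rw [← row_spec hx ha hb ez.symm eb, ← row_spec hy ha hc ez.symm ec] at h2
      revert h2
      cases (blkRows.getD b 0).testBit a <;> cases (blkRows.getD c 0).testBit a <;> simp
    · have hp : (2 : ℕ) ^ 180 ≤ 2 ^ a := Nat.pow_le_pow_right (by norm_num) (Nat.not_lt.1 ha)
      have h1 := List.all_eq_true.1 pos_ok.2 b (List.mem_range.2 hb)
      have h2 := List.all_eq_true.1 pos_ok.2 c (List.mem_range.2 hc)
      simp only [Bool.and_eq_true] at h1 h2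
      rw [Nat.testBit_lt_two_pow (lt_of_lt_of_le (Nat.le_of_ble_eq_true h1.2) hp),
        Nat.testBit_lt_two_pow (lt_of_lt_of_le (Nat.le_of_ble_eq_true h2.2) hp)]

theorem bix_smul {g : Gp} (hg : g ∈ P2) {x y : Pt} (hx : x ∈ common) (hy : y ∈ common) (h : bix hx = bix hy) :
    bix (common_smul hg hx) = bix (common_smul hg hy) := by
  rw [bix_eq_iff] at h ⊢
  intro z hz
  have h2 := h (g⁻¹ • z) (common_smul (inv_mem hg) hz)
  rwa [← trp_fix_smul g, ← trp_fix_smul g (g⁻¹ • z), smul_inv_smul] at h2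

/-- A point in each block. -/
def blkPt (b : Fin 45) : Pt := ⟨blkReps.getD b.1 0, by
  have h : ∀ c : Fin 45, blkReps.getD c.1 0 < 3510 := by decide +kernel
  exact h b⟩

theorem blkPt_spec (b : Fin 45) : ∃ h : blkPt b ∈ common, bix h = b := by
  have h := List.all_eq_true.1 reps_ok b.1 (List.mem_range.2 b.2)
  simp only [Bool.and_eq_true, Bool.not_eq_true'] at h
  have hm : blkPt b ∈ common := common_of_pos (x := blkPt b) (Nat.ne_of_beq_eq_false h.1)
  exact ⟨hm, Fin.ext (Nat.eq_of_beq_eq_true h.2)⟩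

/-- The map of blocks of an element. -/
def blockMap (g : P2) (b : Fin 45) : Fin 45 := bix (common_smul g.2 (blkPt_spec b).fst)

theorem blockMap_bix (g : P2) {x : Pt} (hx : x ∈ common) : blockMap g (bix hx) = bix (common_smul g.2 hx) :=
  bix_smul g.2 _ hx (blkPt_spec _).snd

theorem bix_congr {x y : Pt} (h : x = y) (hx : x ∈ common) (hy : y ∈ common) : bix hx = bix hy := by
  subst h; rfl

theorem blockMap_mul (g h : P2) (b : Fin 45) : blockMap (g * h) b = blockMap g (blockMap h b) := by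
  conv_rhs => rw [show blockMap h b = bix (common_smul h.2 (blkPt_spec b).fst) from rfl, blockMap_bix]
  exact bix_congr (mul_smul (g : Gp) (h : Gp) _) _ _

theorem blockMap_one (b : Fin 45) : blockMap 1 b = b :=
  (bix_congr (one_smul Gp _) _ (blkPt_spec b).fst).trans (blkPt_spec b).snd

/-- The action on the blocks. -/
def blockHom : P2 →* Equiv.Perm (Fin 45) where
  toFun g := ⟨blockMap g, blockMap g⁻¹, fun b => by rw [← blockMap_mul, inv_mul_cancel, blockMap_one],
    fun b => by rw [← blockMap_mul, mul_inv_cancel, blockMap_one]⟩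
  map_one' := Equiv.ext blockMap_one
  map_mul' g h := Equiv.ext (blockMap_mul g h)

theorem tauP_pair : tauP pt0 = pp ∧ tauP pp = pt0 :=
  ⟨Fin.ext tau_blocks.2.1, Fin.ext tau_blocks.2.2⟩

theorem tau_common {x : Pt} (hx : x ∈ common) : ∃ h : tauP x ∈ common, bix h = bix hx := by
  have hm : tauP x ∈ common := by
    obtain ⟨q0, q1, q2, q3⟩ := hx
    obtain ⟨e0, e1⟩ := tauP_pair
    have key : ∀ q : Pt, trp q • x = x → trp (tauP q) • tauP x = tauP x := fun q hq => by
      refine trp_inj ?_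
      rw [← conj_trp, ← tau_trp, ← tau_trp, ← map_inv, ← map_mul, ← map_mul, conj_trp, hq]
    have k0 : trp pt0 • x = x := by rw [trp_pt0]; exact q2
    refine ⟨fun r => q1 ?_, fun r => q0 ?_, ?_, ?_⟩
    · rw [← tauP_tauP x, r, e0]
    · rw [← tauP_tauP x, r, e1]
    · rw [← trp_pt0]; simpa only [e1] using key pp q3
    · simpa only [e0] using key pt0 k0
  obtain ⟨a, ha, ea, pa⟩ := pos_common hx
  refine ⟨hm, Fin.ext ?_⟩
  show blkN (tauN x.1) = blkN x.1
  rw [← ea, Nat.eq_of_beq_eq_true (List.all_eq_true.1 tau_blocks.1 a (List.mem_range.2 ha)), blkN, ea, pa,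
    Nat.add_sub_cancel]

theorem tau_smul (g : Gp) (x : Pt) : PairAut.tau g • tauP x = tauP (g • x) := by
  refine trp_inj ?_
  rw [← conj_trp, ← tau_trp, ← tau_trp, ← map_inv, ← map_mul, ← map_mul, conj_trp]

theorem tau_P2 {g : Gp} (hg : g ∈ P2) : PairAut.tau g ∈ P2 := by
  obtain ⟨e0, e1⟩ := tauP_pair
  rcases hg with ⟨a, b⟩ | ⟨a, b⟩
  · exact Or.inl ⟨by rw [← e1, tau_smul, b], by rw [← e0, tau_smul, a]⟩
  · exact Or.inr ⟨by rw [← e1, tau_smul, b, e0], by rw [← e0, tau_smul, a, e1]⟩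

/-- The outer involution fixes every block. -/
theorem blockHom_tau (g : P2) : blockHom ⟨PairAut.tau g, tau_P2 g.2⟩ = blockHom g := by
  refine Equiv.ext fun b => ?_
  obtain ⟨hm, hb⟩ := blkPt_spec b
  obtain ⟨h1, e1⟩ := tau_common hm
  obtain ⟨h2, e2⟩ := tau_common (common_smul g.2 hm)
  show blockMap _ b = blockMap g b
  conv_lhs => rw [← hb, ← e1, blockMap_bix]
  exact (bix_congr (tau_smul (g : Gp) _) _ h2).trans e2

end

end CfsgLib.Spor.Fi22OuterInv
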