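/-
A permutation of a set of vectors respecting the transvections they define is linear.
-/
import Mathlib

set_option autoImplicit false

namespace CfsgLib.Spor.Fi22OuterInv

/-- A set of vectors closed under its transvections, reached from some of them containing a basis. -/
structure Frame (V : Type*) [AddCommGroup V] [Module (ZMod 2) V] (k : ℕ) where
  form : V →ₗ[ZMod 2] V →ₗ[ZMod 2] ZMod 2
  vec : Fin k → V
  op : Fin k → Fin k → Fin k
  d : ℕ
  basis : Module.Basis (Fin d) (ZMod 2) V
  idx : Fin d → Fin k
  vec_idx : ∀ c, vec (idx c) = basis c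
  nondeg : ∀ x, (∀ y, form x y = 0) → x = 0
  op_spec : ∀ i j, vec (op i j) = vec j + form (vec i) (vec j) • vec i
  vec_inj : Function.Injective vec
  /-- Every vector is a start, or an image of an earlier one. -/
  starts : List (Fin k)
  tree : List (Fin k × Fin k × Fin k)

variable {V : Type*} [AddCommGroup V] [Module (ZMod 2) V] {k : ℕ} (M : Frame V k)

theorem Frame.op_eq_iff (i j : Fin k) (hi : M.vec i ≠ 0) : M.op i j = j ↔ M.form (M.vec i) (M.vec j) = 0 := by
  constructor
  · intro h
    have h2 := M.op_spec i j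
    rw [h] at h2
    by_contra hne
    have h1 : M.form (M.vec i) (M.vec j) = 1 := by
      revert hne
      generalize M.form (M.vec i) (M.vec j) = x
      revert x
      decide
    rw [h1, one_smul, left_eq_add] at h2
    exact hi h2
  · intro h
    exact M.vec_inj (by rw [M.op_spec, h, zero_smul, add_zero])

/-- The tree reaches everything from the starts. -/
def Frame.Reaches : Prop :=
  ∀ S : Set (Fin k), (∀ i ∈ M.starts, i ∈ S) → (∀ e ∈ M.tree, e.2.1 ∈ S → e.2.2 ∈ S → e.1 ∈ S) → ∀ i, i ∈ S

/-- The tree is checked. -/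
def Frame.TreeOK : Prop := ∀ e ∈ M.tree, e.1 = M.op e.2.1 e.2.2

variable {M} (hR : M.Reaches) (hT : M.TreeOK) (hne : ∀ i, M.vec i ≠ 0) (π : Fin k → Fin k)
  (hπ : ∀ i j, π (M.op i j) = M.op (π i) (π j))

include hπ hne in
theorem Frame.form_perm (hi : Function.Injective π) (i j : Fin k) :
    M.form (M.vec (π i)) (M.vec (π j)) = M.form (M.vec i) (M.vec j) := by
  have h1 := M.op_eq_iff i j (hne i)
  have h2 := M.op_eq_iff (π i) (π j) (hne _)
  rw [← hπ, hi.eq_iff] at h2
  have h3 := h1.symm.trans h2
  revert h3
  generalize M.form (M.vec (π i)) (M.vec (π j)) = x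
  generalize M.form (M.vec i) (M.vec j) = y
  revert x y
  decide

include hπ hne hR hT in
/-- The linear map of a permutation. -/
theorem Frame.exists_linear (hi : Function.Injective π) :
    ∃ L : V →ₗ[ZMod 2] V, (∀ i, L (M.vec i) = M.vec (π i)) ∧ (∀ x y, M.form (L x) (L y) = M.form x y) := by
  let L : V →ₗ[ZMod 2] V := M.basis.constr (ZMod 2) fun c => M.vec (π (M.idx c))
  have hL : ∀ c, L (M.basis c) = M.vec (π (M.idx c)) := fun c => M.basis.constr_basis (ZMod 2) _ c
  have hB : ∀ x y, M.form (L x) (L y) = M.form x y := by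
    have e : M.form.compl₁₂ L L = M.form := by
      refine M.basis.ext fun a => M.basis.ext fun c => ?_
      rw [LinearMap.compl₁₂_apply, hL, hL, M.form_perm hne π hπ hi, M.vec_idx, M.vec_idx]
    intro x y
    exact LinearMap.congr_fun (LinearMap.congr_fun e x) y
  have hinj : Function.Injective L := by
    rw [← LinearMap.ker_eq_bot, LinearMap.ker_eq_bot']
    intro x hx
    refine M.nondeg x fun y => ?_
    rw [← hB, hx, map_zero]
    rfl
  haveI : FiniteDimensional (ZMod 2) V := Module.Finite.of_basis M.basis
  have hsurj : Function.Surjective L := LinearMap.injective_iff_surjective.1 hinj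
  refine ⟨L, ?_, hB⟩
  have key : ∀ i, L (M.vec i) = M.vec (π i) := by
    refine hR {i | L (M.vec i) = M.vec (π i)} (fun s _ => ?_) fun e he h1 h2 => ?_
    · refine sub_eq_zero.1 (M.nondeg _ fun y => ?_)
      obtain ⟨y, rfl⟩ := hsurj y
      rw [map_sub, LinearMap.sub_apply, sub_eq_zero]
      induction M.basis.mem_span y using Submodule.span_induction with
      | mem z hz =>
        obtain ⟨c, rfl⟩ := hz
        rw [hB, hL, M.form_perm hne π hπ hi, M.vec_idx]
      | zero => simp
      | add x z _ _ hx hz => rw [map_add, map_add, map_add, hx, hz]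
      | smul a x _ hx => rw [map_smul, map_smul, map_smul, hx]
    · show L (M.vec e.1) = M.vec (π e.1)
      rw [hT e he, M.op_spec, map_add, map_smul, h1, h2, hπ, M.op_spec, M.form_perm hne π hπ hi]
  exact key

theorem Frame.linear_unique {L L' : V →ₗ[ZMod 2] V} (h : ∀ i, L (M.vec i) = L' (M.vec i)) : L = L' :=
  M.basis.ext fun c => by rw [← M.vec_idx]; exact h _

end CfsgLib.Spor.Fi22OuterInv
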