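/-
Sets of points mapped onto vectors so that transpositions become transvections: the linear action of their stabilisers.
-/
import Cfsg.Agent.Lib.Spor.Fi22OuterInv.Linear
import Cfsg.Agent.Lib.Spor.Fi22Out.Points

set_option autoImplicit false

namespace CfsgLib.Spor.Fi22OuterInv

open CfsgLib.Spor.TC CfsgLib.Spor.Fi22 CfsgLib.Spor.Fi22Out MulAction
open scoped MatrixGroups

noncomputable section

attribute [local instance] actionH

variable {ι : Type} [Fintype ι] [DecidableEq ι]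

/-- A vector from its code. -/
def decV (pos : ι → ℕ) (c : ℕ) : ι → ZMod 2 := fun i => if c.testBit (pos i) then 1 else 0

/-- The numbers describing a set of points and its vectors. -/
structure SysData where
  k : ℕ
  pts : List ℕ
  words : List (List ℕ)
  ixN : ℕ → ℕ
  reps : List ℕ
  codes : List ℕ

/-- The index of the image of a member under the transposition of another, and the vector rule. -/
def SysData.pairOK (D : SysData) (formN : ℕ → ℕ → Bool) (u v : ℕ) : Bool :=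
  let x := ActH.act.wact (D.words.getD u [] ++ 0 :: (D.words.getD u []).reverse) (D.pts.getD v 0)
  let cu := D.codes.getD (D.ixN (D.pts.getD u 0) - 1) 0
  let cv := D.codes.getD (D.ixN (D.pts.getD v 0) - 1) 0
  !Nat.beq (D.ixN x) 0 && Nat.beq (D.codes.getD (D.ixN x - 1) 0) (if formN cu cv then cv ^^^ cu else cv)

/-- The elementary checks. -/
def SysData.basicOK (D : SysData) (bound : ℕ) : Bool :=
  Nat.beq D.words.length D.pts.length && Nat.beq D.reps.length D.k && Nat.beq D.codes.length D.k &&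
  ((List.range D.pts.length).all fun u => allBelow 9 (D.words.getD u []) &&
    Nat.beq (ActH.act.wact (D.words.getD u []) 0) (D.pts.getD u 0) && Nat.blt (D.pts.getD u 0) 3510) &&
  ((List.range 3510).all fun c => Nat.ble (D.ixN c) D.k && (Nat.beq (D.ixN c) 0 || D.pts.contains c)) &&
  ((List.range D.pts.length).all fun u => !Nat.beq (D.ixN (D.pts.getD u 0)) 0) &&
  ((List.range D.k).all fun i => Nat.beq (D.ixN (D.reps.getD i 0)) (i + 1) && Nat.blt (D.reps.getD i 0) 3510 &&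
    Nat.blt (D.codes.getD i 0) bound && !Nat.beq (D.codes.getD i 0) 0 &&
    (List.range D.k).all fun j => Nat.beq i j || !Nat.beq (D.codes.getD i 0) (D.codes.getD j 0))

/-- A system of points with its vectors. -/
structure Sys (ι : Type) [Fintype ι] [DecidableEq ι] where
  D : SysData
  dim : ℕ
  pos : ι → ℕ
  pos_lt : ∀ i, pos i < dim
  pos_surj : ∀ b < dim, ∃ i, pos i = b
  formN : ℕ → ℕ → Bool
  form : (ι → ZMod 2) →ₗ[ZMod 2] (ι → ZMod 2) →ₗ[ZMod 2] ZMod 2
  form_ok : ∀ i < D.k, ∀ j < D.k, form (decV pos (D.codes.getD i 0)) (decV pos (D.codes.getD j 0)) =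
    if formN (D.codes.getD i 0) (D.codes.getD j 0) then 1 else 0
  nondeg : ∀ x, (∀ y, form x y = 0) → x = 0
  basic : D.basicOK (2 ^ dim) = true
  pairs : ((List.range D.pts.length).all fun u => (List.range D.pts.length).all fun v => D.pairOK formN u v) = true

theorem decV_xor (pos : ι → ℕ) (a b : ℕ) : decV pos (a ^^^ b) = decV pos a + decV pos b := by
  funext i
  simp only [decV, Pi.add_apply, Nat.testBit_xor]
  cases a.testBit (pos i) <;> cases b.testBit (pos i) <;> decide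

variable (S : Sys ι)

theorem Sys.facts :
    S.D.words.length = S.D.pts.length ∧
    (∀ u < S.D.pts.length, (∀ x ∈ S.D.words.getD u [], x < 9) ∧
      ActH.act.wact (S.D.words.getD u []) 0 = S.D.pts.getD u 0 ∧ S.D.pts.getD u 0 < 3510) ∧
    (∀ c < 3510, S.D.ixN c ≤ S.D.k ∧ (S.D.ixN c = 0 ∨ c ∈ S.D.pts)) ∧
    (∀ u < S.D.pts.length, S.D.ixN (S.D.pts.getD u 0) ≠ 0) ∧
    (∀ i < S.D.k, S.D.ixN (S.D.reps.getD i 0) = i + 1 ∧ S.D.reps.getD i 0 < 3510 ∧ S.D.codes.getD i 0 < 2 ^ S.dim ∧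
      S.D.codes.getD i 0 ≠ 0 ∧ ∀ j < S.D.k, S.D.codes.getD i 0 = S.D.codes.getD j 0 → i = j) := by
  have hb := S.basic
  simp only [SysData.basicOK, Bool.and_eq_true, List.all_eq_true, List.mem_range] at hb
  obtain ⟨⟨⟨⟨⟨⟨h1, -⟩, -⟩, h4⟩, h5⟩, h6⟩, h7⟩ := hb
  refine ⟨Nat.eq_of_beq_eq_true h1, fun u hu => ?_, fun c hc => ?_, fun u hu => ?_, fun i hi => ?_⟩
  · obtain ⟨⟨a, b⟩, c⟩ := h4 u hu
    exact ⟨allBelow_spec a, Nat.eq_of_beq_eq_true b, Nat.le_of_ble_eq_true c⟩
  · obtain ⟨a, b⟩ := h5 c hc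
    simp only [Bool.or_eq_true, List.contains_eq_mem, decide_eq_true_eq] at b
    exact ⟨Nat.le_of_ble_eq_true a, b.imp Nat.eq_of_beq_eq_true id⟩
  · intro h
    have := h6 u hu
    rw [h] at this
    exact absurd this (by decide)
  · obtain ⟨⟨⟨⟨a, b⟩, c⟩, d⟩, e⟩ := h7 i hi
    refine ⟨Nat.eq_of_beq_eq_true a, Nat.le_of_ble_eq_true b, Nat.le_of_ble_eq_true c, fun h => ?_, fun j hj h => ?_⟩
    · rw [h] at d
      exact absurd d (by decide)
    · have := e j hj
      rw [h] at this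
      simp only [Nat.beq_refl, Bool.not_true, Bool.or_eq_true] at this
      exact this.elim Nat.eq_of_beq_eq_true (by simp)

/-- The members. -/
def Sys.carrier : Set Pt := {x | S.D.ixN x.1 ≠ 0}

/-- The index of a member. -/
def Sys.ix (x : S.carrier) : Fin S.D.k :=
  ⟨S.D.ixN x.1.1 - 1, by
    have h1 : S.D.ixN x.1.1 ≠ 0 := x.2
    have h2 := (S.facts.2.2.1 _ x.1.2).1
    omega⟩

/-- A representative of an index. -/
def Sys.rep (i : Fin S.D.k) : S.carrier :=
  ⟨⟨S.D.reps.getD i.1 0, (S.facts.2.2.2.2 i.1 i.2).2.1⟩, by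
    show S.D.ixN (S.D.reps.getD i.1 0) ≠ 0
    rw [(S.facts.2.2.2.2 i.1 i.2).1]; exact Nat.succ_ne_zero _⟩

theorem Sys.ix_rep (i : Fin S.D.k) : S.ix (S.rep i) = i := Fin.ext (by
  show S.D.ixN (S.D.reps.getD i.1 0) - 1 = i.1
  rw [(S.facts.2.2.2.2 i.1 i.2).1, Nat.add_sub_cancel])

/-- The vector of an index. -/
def Sys.vec (i : Fin S.D.k) : ι → ZMod 2 := decV S.pos (S.D.codes.getD i.1 0)

theorem Sys.vec_inj : Function.Injective S.vec := by
  intro i j h
  refine Fin.ext ((S.facts.2.2.2.2 i.1 i.2).2.2.2.2 j.1 j.2 (Nat.eq_of_testBit_eq fun b => ?_))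
  by_cases hb : b < S.dim
  · obtain ⟨c, rfl⟩ := S.pos_surj b hb
    have := congrFun h c
    simp only [Sys.vec, decV] at this
    revert this
    cases (S.D.codes.getD i.1 0).testBit (S.pos c) <;> cases (S.D.codes.getD j.1 0).testBit (S.pos c) <;> simp
  · rw [Nat.testBit_lt_two_pow ((S.facts.2.2.2.2 i.1 i.2).2.2.1.trans_le (Nat.pow_le_pow_right (by norm_num) (Nat.not_lt.1 hb))),
      Nat.testBit_lt_two_pow ((S.facts.2.2.2.2 j.1 j.2).2.2.1.trans_le (Nat.pow_le_pow_right (by norm_num) (Nat.not_lt.1 hb)))]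

theorem Sys.vec_ne (i : Fin S.D.k) : S.vec i ≠ 0 := by
  intro h
  refine (S.facts.2.2.2.2 i.1 i.2).2.2.2.1 (Nat.eq_of_testBit_eq fun b => ?_)
  rw [Nat.zero_testBit]
  by_cases hb : b < S.dim
  · obtain ⟨c, rfl⟩ := S.pos_surj b hb
    have := congrFun h c
    simp only [Sys.vec, decV] at this
    revert this
    cases (S.D.codes.getD i.1 0).testBit (S.pos c) <;> simp
  · exact Nat.testBit_lt_two_pow
      ((S.facts.2.2.2.2 i.1 i.2).2.2.1.trans_le (Nat.pow_le_pow_right (by norm_num) (Nat.not_lt.1 hb)))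

theorem Sys.form_vec (i j : Fin S.D.k) : S.form (S.vec i) (S.vec j) =
    if S.formN (S.D.codes.getD i.1 0) (S.D.codes.getD j.1 0) then 1 else 0 := S.form_ok _ i.2 _ j.2

theorem Sys.mem_pts {x : Pt} (hx : x ∈ S.carrier) :
    ∃ u, u < S.D.pts.length ∧ S.D.pts.getD u 0 = x.1 := by
  obtain ⟨u, hu, h⟩ := List.mem_iff_getElem.1 ((S.facts.2.2.1 x.1 x.2).2.resolve_left hx)
  exact ⟨u, hu, (List.getD_eq_getElem _ _ hu).trans h⟩

/-- A transposition of a member maps members to members by the transvection of its vector. -/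
theorem Sys.transvection {x y : Pt} (hx : x ∈ S.carrier) (hy : y ∈ S.carrier) :
    ∃ h : trp x • y ∈ S.carrier, S.vec (S.ix ⟨_, h⟩) =
      S.vec (S.ix ⟨y, hy⟩) + S.form (S.vec (S.ix ⟨x, hx⟩)) (S.vec (S.ix ⟨y, hy⟩)) • S.vec (S.ix ⟨x, hx⟩) := by
  obtain ⟨u, hu, eu⟩ := S.mem_pts hx
  obtain ⟨v, hv, ev⟩ := S.mem_pts hy
  obtain ⟨hw, hw0, -⟩ := S.facts.2.1 u hu
  have hP := S.pairs
  simp only [List.all_eq_true, List.mem_range] at hP
  have hp := hP u hu v hv
  have ht : ((trp x • y : Pt) : ℕ) =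
      ActH.act.wact (S.D.words.getD u [] ++ 0 :: (S.D.words.getD u []).reverse) y.1 := by
    rw [trp_word (p := x) hw (hw0.trans eu), el_smul]
    refine below_K fun z hz => ?_
    rcases List.mem_append.1 hz with h | h
    · exact hw z h
    · rcases List.mem_cons.1 h with rfl | h
      · norm_num
      · exact hw z (List.mem_reverse.1 h)
  simp only [SysData.pairOK, eu, ev, ← ht, Bool.and_eq_true] at hp
  have hm : trp x • y ∈ S.carrier := by
    intro h0
    have h2 := hp.1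
    rw [h0] at h2
    exact absurd h2 (by decide)
  refine ⟨hm, ?_⟩
  have e := Nat.eq_of_beq_eq_true hp.2
  rw [S.form_vec]
  show decV S.pos (S.D.codes.getD (S.D.ixN (trp x • y : Pt).1 - 1) 0) = _
  rw [e]
  change decV S.pos (if S.formN (S.D.codes.getD (S.ix ⟨x, hx⟩).1 0) (S.D.codes.getD (S.ix ⟨y, hy⟩).1 0) = true
      then S.D.codes.getD (S.ix ⟨y, hy⟩).1 0 ^^^ S.D.codes.getD (S.ix ⟨x, hx⟩).1 0
      else S.D.codes.getD (S.ix ⟨y, hy⟩).1 0) = _
  cases S.formN (S.D.codes.getD (S.ix ⟨x, hx⟩).1 0) (S.D.codes.getD (S.ix ⟨y, hy⟩).1 0) <;>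
    simp [decV_xor, Sys.vec]

/-- The operation on indices. -/
def Sys.op (i j : Fin S.D.k) : Fin S.D.k :=
  S.ix ⟨_, (S.transvection (S.rep i).2 (S.rep j).2).fst⟩

theorem Sys.op_vec (i j : Fin S.D.k) : S.vec (S.op i j) = S.vec j + S.form (S.vec i) (S.vec j) • S.vec i := by
  have h := (S.transvection (S.rep i).2 (S.rep j).2).snd
  simpa only [Sys.op, S.ix_rep, Subtype.coe_eta] using h

theorem Sys.op_ix (x y : S.carrier) (h : trp x.1 • y.1 ∈ S.carrier) : S.ix ⟨_, h⟩ = S.op (S.ix x) (S.ix y) :=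
  S.vec_inj (by rw [S.op_vec]; exact (S.transvection x.2 y.2).snd)

/-- The group respects the system. -/
structure Sys.Acts (K : Subgroup Gp) : Prop where
  mem : ∀ g ∈ K, ∀ x ∈ S.carrier, g • x ∈ S.carrier
  same : ∀ g (hg : g ∈ K) (x y : S.carrier), S.ix x = S.ix y →
    S.ix ⟨g • x.1, mem g hg x.1 x.2⟩ = S.ix ⟨g • y.1, mem g hg y.1 y.2⟩

variable {S} {K : Subgroup Gp} (hK : S.Acts K)

/-- The permutation of indices of an element. -/
def Sys.perm (g : K) (i : Fin S.D.k) : Fin S.D.k :=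
  S.ix ⟨(g : Gp) • (S.rep i).1, hK.mem g g.2 _ (S.rep i).2⟩

include hK in
theorem Sys.perm_ix (g : K) (x : S.carrier) :
    Sys.perm hK g (S.ix x) = S.ix ⟨(g : Gp) • x.1, hK.mem g g.2 _ x.2⟩ :=
  hK.same g g.2 _ _ (S.ix_rep _)

include hK in
theorem Sys.perm_mul (g h : K) (i : Fin S.D.k) : Sys.perm hK (g * h) i = Sys.perm hK g (Sys.perm hK h i) := by
  conv_rhs => rw [show Sys.perm hK h i = S.ix ⟨(h : Gp) • (S.rep i).1, hK.mem h h.2 _ (S.rep i).2⟩ from rfl,
    Sys.perm_ix hK]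
  simp only [Sys.perm, Subgroup.coe_mul, mul_smul]

include hK in
theorem Sys.perm_inj (g : K) : Function.Injective (Sys.perm hK g) := by
  intro i j h
  have e : ∀ i, Sys.perm hK g⁻¹ (Sys.perm hK g i) = i := fun i => by
    rw [← Sys.perm_mul, inv_mul_cancel]
    simp only [Sys.perm, Subgroup.coe_one, one_smul]
    exact S.ix_rep i
  rw [← e i, ← e j, h]

include hK in
theorem Sys.perm_op (g : K) (i j : Fin S.D.k) :
    Sys.perm hK g (S.op i j) = S.op (Sys.perm hK g i) (Sys.perm hK g j) := by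
  have hm := (S.transvection (S.rep i).2 (S.rep j).2).fst
  have hm' : trp ((g : Gp) • (S.rep i).1) • ((g : Gp) • (S.rep j).1) ∈ S.carrier :=
    (S.transvection (hK.mem g g.2 _ (S.rep i).2) (hK.mem g g.2 _ (S.rep j).2)).fst
  rw [Sys.op, Sys.perm_ix hK g ⟨_, hm⟩]
  have e := S.op_ix ⟨_, hK.mem g g.2 _ (S.rep i).2⟩ ⟨_, hK.mem g g.2 _ (S.rep j).2⟩ hm'
  refine Eq.trans (congrArg S.ix (Subtype.ext ?_)) e
  show (g : Gp) • trp (S.rep i).1 • (S.rep j).1 = trp ((g : Gp) • (S.rep i).1) • (g : Gp) • (S.rep j).1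
  rw [← conj_trp, mul_smul, mul_smul, inv_smul_smul]

variable (S) in
/-- A basis among the vectors and a tree of the others. -/
structure Sys.Span where
  basis : Module.Basis (Fin S.dim) (ZMod 2) (ι → ZMod 2)
  idx : Fin S.dim → Fin S.D.k
  vec_idx : ∀ c, S.vec (idx c) = basis c
  starts : List ℕ
  tree : List (ℕ × ℕ × ℕ)
  starts_lt : ∀ i ∈ starts, i < S.D.k
  reach : (List.range S.D.k).all (fun i => starts.contains i || tree.any fun e => e.1 == i) = true
  order : ∀ p : ℕ, ∀ e, tree[p]? = some e → e.1 < S.D.k ∧ e.2.1 < S.D.k ∧ e.2.2 < S.D.k ∧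
    (e.2.1 ∈ starts ∨ e.2.1 ∈ (tree.take p).map Prod.fst) ∧ (e.2.2 ∈ starts ∨ e.2.2 ∈ (tree.take p).map Prod.fst) ∧
    S.D.codes.getD e.1 0 =
      if S.formN (S.D.codes.getD e.2.1 0) (S.D.codes.getD e.2.2 0) then
        S.D.codes.getD e.2.2 0 ^^^ S.D.codes.getD e.2.1 0 else S.D.codes.getD e.2.2 0

variable (S) in
/-- The frame of a system. -/
def Sys.frame (T : Sys.Span S) : Frame (ι → ZMod 2) S.D.k where
  form := S.form
  vec := S.vec
  op := S.op
  d := S.dim
  basis := T.basis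
  idx := T.idx
  vec_idx := T.vec_idx
  nondeg := S.nondeg
  op_spec := S.op_vec
  vec_inj := S.vec_inj
  starts := T.starts.filterMap fun i => if h : i < S.D.k then some ⟨i, h⟩ else none
  tree := T.tree.filterMap fun e =>
    if h : e.1 < S.D.k ∧ e.2.1 < S.D.k ∧ e.2.2 < S.D.k then some (⟨_, h.1⟩, ⟨_, h.2.1⟩, ⟨_, h.2.2⟩) else none

theorem Sys.frame_tree (T : Sys.Span S) : (S.frame T).TreeOK := by
  intro e he
  obtain ⟨e', he', h⟩ := List.mem_filterMap.1 he
  obtain ⟨p, hp, hpe⟩ := List.mem_iff_getElem.1 he'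
  obtain ⟨h1, h2, h3, -, -, h6⟩ := T.order p e' (by rw [List.getElem?_eq_getElem hp, hpe])
  rw [dif_pos ⟨h1, h2, h3⟩] at h
  obtain rfl := Option.some.inj h
  refine S.vec_inj ?_
  show decV S.pos (S.D.codes.getD e'.1 0) = S.vec (S.op ⟨_, h2⟩ ⟨_, h3⟩)
  rw [S.op_vec, h6, S.form_vec]
  cases S.formN (S.D.codes.getD e'.2.1 0) (S.D.codes.getD e'.2.2 0) <;> simp [decV_xor, Sys.vec]

theorem Sys.frame_reach (T : Sys.Span S) : (S.frame T).Reaches := by
  intro P hs ht i
  have hst : ∀ j (hj : j < S.D.k), j ∈ T.starts → (⟨j, hj⟩ : Fin S.D.k) ∈ P := fun j hj h =>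
    hs _ (List.mem_filterMap.2 ⟨j, h, dif_pos hj⟩)
  have key : ∀ (p : ℕ) (e : ℕ × ℕ × ℕ), T.tree[p]? = some e → ∀ h : e.1 < S.D.k, (⟨e.1, h⟩ : Fin S.D.k) ∈ P := by
    intro p
    induction p using Nat.strong_induction_on with
    | _ p ih =>
      intro e he h
      obtain ⟨h1, h2, h3, h4, h5, -⟩ := T.order p e he
      have sub : ∀ j (hj : j < S.D.k), (j ∈ T.starts ∨ j ∈ (T.tree.take p).map Prod.fst) → (⟨j, hj⟩ : Fin S.D.k) ∈ P := by
        intro j hj hm
        rcases hm with hm | hm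
        · exact hst j hj hm
        · obtain ⟨e', he', rfl⟩ := List.mem_map.1 hm
          obtain ⟨q, hq, hqe⟩ := List.mem_iff_getElem.1 he'
          rw [List.length_take] at hq
          rw [List.getElem_take] at hqe
          exact ih q (by omega) e' (by rw [List.getElem?_eq_getElem (by omega), hqe]) hj
      exact ht (⟨_, h1⟩, ⟨_, h2⟩, ⟨_, h3⟩)
        (List.mem_filterMap.2 ⟨e, List.mem_of_getElem? he, dif_pos ⟨h1, h2, h3⟩⟩) (sub _ h2 h4) (sub _ h3 h5)
  have hr := List.all_eq_true.1 T.reach i.1 (List.mem_range.2 i.2)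
  simp only [Bool.or_eq_true, List.contains_eq_mem, decide_eq_true_eq, List.any_eq_true, beq_iff_eq] at hr
  rcases hr with h | ⟨e, he, h⟩
  · exact hst i.1 i.2 h
  · obtain ⟨p, hp, hpe⟩ := List.mem_iff_getElem.1 he
    have := key p e (by rw [List.getElem?_eq_getElem hp, hpe]) (h ▸ i.2)
    rwa [show (⟨e.1, h ▸ i.2⟩ : Fin S.D.k) = i from Fin.ext h] at this

include hK in
/-- The linear representation. -/
theorem Sys.exists_rep (T : Sys.Span S) : ∃ ρ : K →* GL ι (ZMod 2),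
    (∀ g i, Matrix.mulVec (ρ g : Matrix ι ι (ZMod 2)) (S.vec i) = S.vec (Sys.perm hK g i)) ∧
    (∀ g x y, S.form (Matrix.mulVec (ρ g : Matrix ι ι (ZMod 2)) x) (Matrix.mulVec (ρ g : Matrix ι ι (ZMod 2)) y) =
      S.form x y) ∧
    ∀ g, ρ g = 1 ↔ ∀ i, Sys.perm hK g i = i := by
  choose L hL hB using fun g : K => Frame.exists_linear (M := S.frame T) (S.frame_reach T) (S.frame_tree T) S.vec_ne
    (Sys.perm hK g) (Sys.perm_op hK g) (Sys.perm_inj hK g)
  have hmul : ∀ g h, L (g * h) = (L g).comp (L h) := fun g h => (S.frame T).linear_unique fun i => by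
    rw [LinearMap.comp_apply, hL, hL, hL, Sys.perm_mul]
  have hperm1 : ∀ i, Sys.perm hK (1 : K) i = i := fun i => by
    simp only [Sys.perm, Subgroup.coe_one, one_smul]; exact S.ix_rep i
  have hone : L 1 = LinearMap.id := (S.frame T).linear_unique fun i => by
    rw [hL, hperm1]; rfl
  let f : K →* Matrix ι ι (ZMod 2) :=
    { toFun := fun g => LinearMap.toMatrix' (L g)
      map_one' := by rw [hone, LinearMap.toMatrix'_id]
      map_mul' := fun g h => by rw [hmul, LinearMap.toMatrix'_comp] }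
  have hmv : ∀ g x, Matrix.mulVec (LinearMap.toMatrix' (L g)) x = L g x := fun g x => LinearMap.toMatrix'_mulVec _ _
  refine ⟨f.toHomUnits, fun g i => ?_, fun g x y => ?_, fun g => ⟨fun h i => ?_, fun h => ?_⟩⟩
  · exact (hmv g _).trans (hL g i)
  · show S.form (Matrix.mulVec (LinearMap.toMatrix' (L g)) x) (Matrix.mulVec (LinearMap.toMatrix' (L g)) y) = _
    rw [hmv, hmv]; exact hB g x y
  · refine S.vec_inj ?_
    show (S.frame T).vec _ = (S.frame T).vec _
    rw [← hL g i, ← hmv]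
    have : LinearMap.toMatrix' (L g) = 1 := congrArg Units.val h
    rw [this, Matrix.one_mulVec]
  · refine Units.ext ?_
    show LinearMap.toMatrix' (L g) = 1
    rw [show L g = LinearMap.id from (S.frame T).linear_unique fun i => by rw [hL, h i]; rfl, LinearMap.toMatrix'_id]

end

end CfsgLib.Spor.Fi22OuterInv
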