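/-
The three systems as numbers, with their forms.
-/
import Cfsg.Agent.Lib.Spor.Fi22OuterInv.SysValues
import Cfsg.Agent.Lib.Spor.Fi22OuterInv.System

set_option autoImplicit false

namespace CfsgLib.Spor.Fi22OuterInv

open CfsgLib.Spor.TC

noncomputable section

/-- The system of a class of fixed transpositions. -/
def plusD : SysData := ⟨120, plus_pts, plus_words, plus_tbl.get 16, plus_reps, plus_codes⟩

/-- The system of the fixed transpositions commuting with one. -/
def sympD : SysData := ⟨63, symp_pts, symp_words, symp_tbl.get 16, symp_reps, symp_codes⟩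

/-- The system of the pairs fixed by the third involution. -/
def minusD : SysData := ⟨36, minus_pts, minus_words, minus_tbl.get 16, minus_reps, minus_codes⟩

/-- A product of two bits of two codes. -/
def bb (a b i j : ℕ) : Bool := a.testBit i && b.testBit j

/-- The polar form of plus type on codes. -/
def plusB (a b : ℕ) : Bool :=
  ((((((bb a b 0 4 ^^ bb a b 4 0) ^^ bb a b 1 5) ^^ bb a b 5 1) ^^ bb a b 2 6) ^^ bb a b 6 2) ^^ bb a b 3 7) ^^ bb a b 7 3

/-- The symplectic form on codes. -/
def sympB (a b : ℕ) : Bool :=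
  ((((bb a b 0 3 ^^ bb a b 3 0) ^^ bb a b 1 4) ^^ bb a b 4 1) ^^ bb a b 2 5) ^^ bb a b 5 2

/-- The polar form of minus type on codes. -/
def minusB (a b : ℕ) : Bool :=
  ((((bb a b 0 2 ^^ bb a b 2 0) ^^ bb a b 1 3) ^^ bb a b 3 1) ^^ bb a b 4 5) ^^ bb a b 5 4

end

end CfsgLib.Spor.Fi22OuterInv
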