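/-
The fixed points of the outer involution and their classes, by kernel evaluation.
-/
import Cfsg.Agent.Lib.Spor.Fi22OuterInv.CentValues
import Cfsg.Agent.Lib.Spor.Fi22OuterInv.SysDefs
import Cfsg.Agent.Lib.Spor.Fi22OuterInv.Rigid

set_option autoImplicit false
set_option maxRecDepth 100000
set_option maxHeartbeats 0

namespace CfsgLib.Spor.Fi22OuterInv

open CfsgLib.Spor.TC CfsgLib.Spor.Fi22 CfsgLib.Spor.Fi22Out

/-- The rigid set of one class. -/
noncomputable def rigidOne : RigidData :=
  ⟨plus_pts, plus_words, qsOne, qsWOne, qsLinkOne, qsGensOne, qsPatOne, tauN⟩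

theorem rigidOne_ok : rigidOne.ok = true := by decide +kernel

/-- The classes are those of the fixed points. -/
noncomputable def compShape (c : ℕ) : Bool :=
  Nat.ble (compN c) 3 && (Nat.beq (compN c) 0 == !Nat.beq (tauN c) c) &&
    (Nat.beq (compN c) 1 == !Nat.beq (plus_tbl.get 16 c) 0)

theorem comp_shape : allFrom compShape 0 3510 = true := by decide +kernel

theorem named_ok : wordPt aW aPt = true ∧ wordPt bW bPt = true ∧ compReps.length = 3 ∧
    ((List.range 3).all fun l => Nat.blt (compReps.getD l 0) 3510 && Nat.beq (compN (compReps.getD l 0)) (l + 1)) = true ∧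
    compReps.getD 0 0 = aPt ∧ compTree.length = 357 ∧ fixGens.length = 9 ∧ fixMoves.length = 359 := by
  decide +kernel

/-- The trees of the classes. -/
noncomputable def compTreeAt (t : ℕ) : Bool :=
  let e := compTree.getD t (0, 0)
  wordPt (compTreeW.getD t []) e.1 && Nat.blt e.2 3510 && Nat.beq (act1 (compTreeW.getD t []) e.2) e.2 &&
    !Nat.beq (compN e.1) 0 && Nat.beq (compN e.2) (compN e.1) &&
    (compReps.contains e.2 || ((compTree.take t).map Prod.fst).contains e.2)

theorem comp_tree : ((List.range 357).all compTreeAt) = true ∧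
    allFrom (fun c => Nat.beq (compN c) 0 || compReps.contains c || (compTree.map Prod.fst).contains c) 0 3510 = true := by
  decide +kernel

theorem a_commuting : allFrom (fun c => Nat.beq (compN c) 0 || !Nat.beq (act1 aW c) c || Nat.beq (compN c) 1) 0 3510 = true := by
  decide +kernel

theorem fix_gens : ((List.range 9).all fun i => wordPt (fixGensW.getD i []) (fixGens.getD i 0) &&
    !Nat.beq (compN (fixGens.getD i 0)) 0 &&
    allFrom (fun c => Nat.beq (compN c) 0 || Nat.beq (compN (act1 (fixGensW.getD i []) c))
      ((fixPerm.getD i []).getD (compN c - 1) 0)) 0 3510) = true := by decide +kernel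

theorem fix_moves : ((List.range 359).all fun t => let e := fixMoves.getD t (0, 0, 0)
    Nat.blt e.2.1 9 && Nat.blt e.2.2 3510 && Nat.beq (act1 (fixGensW.getD e.2.1 []) e.2.2) e.1 &&
      (Nat.beq e.2.2 aPt || ((fixMoves.take t).map Prod.fst).contains e.2.2)) = true ∧
    allFrom (fun c => Nat.beq (compN c) 0 || Nat.beq c aPt || (fixMoves.map Prod.fst).contains c) 0 3510 = true := by
  decide +kernel

/-- The pairs singling out a basis member among the fixed points. -/
noncomputable def innerAt (c : ℕ) : Bool :=
  let q := plus_pts.getD (plus_bidx.getD c 0) 0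
  let l := innerPairs.getD c []
  (l.all fun e => Nat.blt e.1 120 && Nat.blt e.2 120 &&
      Nat.beq (act1 (plus_words.getD e.1 []) (act1 (plus_words.getD e.2 []) q)) q) &&
  allFrom (fun x => Nat.beq x q || Nat.beq (compN x) 0 || l.any fun e =>
    !Nat.beq (act1 (plus_words.getD e.1 []) (act1 (plus_words.getD e.2 []) x)) x) 0 3510

theorem inner_ok : ((List.range 8).all innerAt) = true := by decide +kernel

end CfsgLib.Spor.Fi22OuterInv
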