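/-
The systems, by kernel evaluation.
-/
import Cfsg.Agent.Lib.Spor.Fi22OuterInv.SysDefs

set_option autoImplicit false
set_option maxRecDepth 100000
set_option maxHeartbeats 0

namespace CfsgLib.Spor.Fi22OuterInv

theorem plus_basic : plusD.basicOK (2 ^ 8) = true ∧ plusD.pts.length = 120 := by decide +kernel

theorem symp_basic : sympD.basicOK (2 ^ 6) = true := by decide +kernel

theorem minus_basic : minusD.basicOK (2 ^ 6) = true := by decide +kernel

theorem symp_pairs : ((List.range sympD.pts.length).all fun u => (List.range sympD.pts.length).all fun v =>
    sympD.pairOK sympB u v) = true := by decide +kernel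

theorem minus_pairs : ((List.range minusD.pts.length).all fun u => (List.range minusD.pts.length).all fun v =>
    minusD.pairOK minusB u v) = true := by decide +kernel

end CfsgLib.Spor.Fi22OuterInv
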