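/-
The first half of the pairs of the large system, by kernel evaluation.
-/
import Cfsg.Agent.Lib.Spor.Fi22OuterInv.SysDefs

set_option autoImplicit false
set_option maxRecDepth 100000
set_option maxHeartbeats 0

namespace CfsgLib.Spor.Fi22OuterInv

theorem plus_pairs0 : ((List.range' 0 60).all fun u => (List.range plusD.pts.length).all fun v =>
    plusD.pairOK plusB u v) = true := by decide +kernel

end CfsgLib.Spor.Fi22OuterInv
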