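/-
The three systems of points with their vector spaces.
-/
import Cfsg.Agent.Lib.Spor.Fi22OuterInv.SysCheck
import Cfsg.Agent.Lib.Spor.Fi22OuterInv.SysCheckPlus0
import Cfsg.Agent.Lib.Spor.Fi22OuterInv.SysCheckPlus1

set_option autoImplicit false
set_option maxRecDepth 100000

namespace CfsgLib.Spor.Fi22OuterInv

open CfsgLib.Spor.Fi22

noncomputable section

/-- A bit as a scalar. -/
def bit2 (b : Bool) : ZMod 2 := if b then 1 else 0

theorem bit2_mul (a b : Bool) : bit2 a * bit2 b = bit2 (a && b) := by cases a <;> cases b <;> decide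

theorem bit2_add (a b : Bool) : bit2 a + bit2 b = bit2 (a ^^ b) := by cases a <;> cases b <;> decide

theorem decV_apply {ι : Type} (pos : ι → ℕ) (c : ℕ) (i : ι) : decV pos c i = bit2 (c.testBit (pos i)) := rfl

/-- The coordinates of the large space. -/
def plusPos : Fin 4 ⊕ Fin 4 → ℕ := Sum.elim (fun i => i.1) (fun i => 4 + i.1)

/-- The coordinates of the symplectic space. -/
def sympPos : Fin 3 ⊕ Fin 3 → ℕ := Sum.elim (fun i => i.1) (fun i => 3 + i.1)

/-- The coordinates of the space of minus type. -/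
def minusPos : (Fin 2 ⊕ Fin 2) ⊕ Fin 2 → ℕ :=
  Sum.elim (Sum.elim (fun i => i.1) (fun i => 2 + i.1)) (fun i => 4 + i.1)

/-- The form of the large space. -/
def plusForm : (Fin 4 ⊕ Fin 4 → ZMod 2) →ₗ[ZMod 2] (Fin 4 ⊕ Fin 4 → ZMod 2) →ₗ[ZMod 2] ZMod 2 :=
  LinearMap.mk₂ (ZMod 2)
    (fun x y => ∑ i : Fin 4, (x (.inl i) * y (.inr i) + x (.inr i) * y (.inl i)))
    (fun x x' y => by simp only [Pi.add_apply, add_mul, Finset.sum_add_distrib]; abel)
    (fun c x y => by simp only [Pi.smul_apply, smul_eq_mul, Finset.mul_sum, mul_add, mul_assoc])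
    (fun x y y' => by simp only [Pi.add_apply, mul_add, Finset.sum_add_distrib]; abel)
    (fun c x y => by simp only [Pi.smul_apply, smul_eq_mul, Finset.mul_sum, mul_add, mul_left_comm _ c _])

/-- The form of the symplectic space. -/
def sympForm6 : (Fin 3 ⊕ Fin 3 → ZMod 2) →ₗ[ZMod 2] (Fin 3 ⊕ Fin 3 → ZMod 2) →ₗ[ZMod 2] ZMod 2 :=
  LinearMap.mk₂ (ZMod 2)
    (fun x y => ∑ i : Fin 3, (x (.inl i) * y (.inr i) + x (.inr i) * y (.inl i)))
    (fun x x' y => by simp only [Pi.add_apply, add_mul, Finset.sum_add_distrib]; abel)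
    (fun c x y => by simp only [Pi.smul_apply, smul_eq_mul, Finset.mul_sum, mul_add, mul_assoc])
    (fun x y y' => by simp only [Pi.add_apply, mul_add, Finset.sum_add_distrib]; abel)
    (fun c x y => by simp only [Pi.smul_apply, smul_eq_mul, Finset.mul_sum, mul_add, mul_left_comm _ c _])

/-- The form of the space of minus type. -/
def minusForm : ((Fin 2 ⊕ Fin 2) ⊕ Fin 2 → ZMod 2) →ₗ[ZMod 2] ((Fin 2 ⊕ Fin 2) ⊕ Fin 2 → ZMod 2) →ₗ[ZMod 2] ZMod 2 :=
  LinearMap.mk₂ (ZMod 2)
    (fun x y => (∑ i : Fin 2, (x (.inl (.inl i)) * y (.inl (.inr i)) + x (.inl (.inr i)) * y (.inl (.inl i)))) +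
      (x (.inr 0) * y (.inr 1) + x (.inr 1) * y (.inr 0)))
    (fun x x' y => by simp only [Pi.add_apply, add_mul, Finset.sum_add_distrib]; abel)
    (fun c x y => by simp only [Pi.smul_apply, smul_eq_mul, Finset.mul_sum, mul_add, mul_assoc])
    (fun x y y' => by simp only [Pi.add_apply, mul_add, Finset.sum_add_distrib]; abel)
    (fun c x y => by simp only [Pi.smul_apply, smul_eq_mul, Finset.mul_sum, mul_add, mul_left_comm _ c _])

theorem plusForm_dec (a b : ℕ) : plusForm (decV plusPos a) (decV plusPos b) = bit2 (plusB a b) := by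
  simp only [plusForm, LinearMap.mk₂_apply, decV_apply, plusPos, Sum.elim_inl, Sum.elim_inr, Fin.sum_univ_four,
    bit2_mul, bit2_add, plusB, bb]
  congr 1
  simp [Bool.xor_assoc]

theorem sympForm6_dec (a b : ℕ) : sympForm6 (decV sympPos a) (decV sympPos b) = bit2 (sympB a b) := by
  simp only [sympForm6, LinearMap.mk₂_apply, decV_apply, sympPos, Sum.elim_inl, Sum.elim_inr, Fin.sum_univ_three,
    bit2_mul, bit2_add, sympB, bb]
  congr 1
  simp [Bool.xor_assoc]

theorem minusForm_dec (a b : ℕ) : minusForm (decV minusPos a) (decV minusPos b) = bit2 (minusB a b) := by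
  simp only [minusForm, LinearMap.mk₂_apply, decV_apply, minusPos, Sum.elim_inl, Sum.elim_inr, Fin.sum_univ_two,
    bit2_mul, bit2_add, minusB, bb]
  congr 1
  simp [Bool.xor_assoc]

theorem plus_nondeg (x : Fin 4 ⊕ Fin 4 → ZMod 2) (h : ∀ y, plusForm x y = 0) : x = 0 := by
  funext i
  rcases i with i | i
  · have := h (Pi.single (.inr i) 1)
    simpa [plusForm, Pi.single_apply] using this
  · have := h (Pi.single (.inl i) 1)
    simpa [plusForm, Pi.single_apply] using this

theorem symp_nondeg (x : Fin 3 ⊕ Fin 3 → ZMod 2) (h : ∀ y, sympForm6 x y = 0) : x = 0 := by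
  funext i
  rcases i with i | i
  · have := h (Pi.single (.inr i) 1)
    simpa [sympForm6, Pi.single_apply] using this
  · have := h (Pi.single (.inl i) 1)
    simpa [sympForm6, Pi.single_apply] using this

theorem minus_nondeg (x : (Fin 2 ⊕ Fin 2) ⊕ Fin 2 → ZMod 2) (h : ∀ y, minusForm x y = 0) : x = 0 := by
  funext i
  rcases i with (i | i) | i
  · have := h (Pi.single (.inl (.inr i)) 1)
    fin_cases i <;> simpa [minusForm, Pi.single_apply] using this
  · have := h (Pi.single (.inl (.inl i)) 1)
    fin_cases i <;> simpa [minusForm, Pi.single_apply] using this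
  · fin_cases i
    · have := h (Pi.single (.inr 1) 1)
      simpa [minusForm, Pi.single_apply] using this
    · have := h (Pi.single (.inr 0) 1)
      simpa [minusForm, Pi.single_apply] using this

/-- The large system. -/
def plusSys : Sys (Fin 4 ⊕ Fin 4) where
  D := plusD
  dim := 8
  pos := plusPos
  pos_lt := by decide
  pos_surj := by decide
  formN := plusB
  form := plusForm
  form_ok i _ j _ := plusForm_dec _ _
  nondeg := plus_nondeg
  basic := plus_basic.1
  pairs := by
    rw [List.all_eq_true]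
    intro u hu
    rw [List.mem_range, plus_basic.2] at hu
    by_cases h : u < 60
    · exact List.all_eq_true.1 plus_pairs0 u (List.mem_range'_1.2 ⟨Nat.zero_le _, by omega⟩)
    · exact List.all_eq_true.1 plus_pairs1 u (List.mem_range'_1.2 ⟨by omega, by omega⟩)

/-- The symplectic system. -/
def sympSys : Sys (Fin 3 ⊕ Fin 3) where
  D := sympD
  dim := 6
  pos := sympPos
  pos_lt := by decide
  pos_surj := by decide
  formN := sympB
  form := sympForm6
  form_ok i _ j _ := sympForm6_dec _ _
  nondeg := symp_nondeg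
  basic := symp_basic
  pairs := symp_pairs

/-- The system of minus type. -/
def minusSys : Sys ((Fin 2 ⊕ Fin 2) ⊕ Fin 2) where
  D := minusD
  dim := 6
  pos := minusPos
  pos_lt := by decide
  pos_surj := by decide
  formN := minusB
  form := minusForm
  form_ok i _ j _ := minusForm_dec _ _
  nondeg := minus_nondeg
  basic := minus_basic
  pairs := minus_pairs

/-- The vectors chosen for a basis, as columns. -/
def colMat {ι : Type} (d : ℕ) (pos : ι → ℕ) (codes bidx : List ℕ) : Matrix ι (Fin d) (ZMod 2) :=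
  Matrix.of fun i c => bit2 ((codes.getD (bidx.getD c.1 0) 0).testBit (pos i))

/-- Their inverse. -/
def invMat {ι : Type} (d : ℕ) (pos : ι → ℕ) (binv : List ℕ) : Matrix (Fin d) ι (ZMod 2) :=
  Matrix.of fun c i => bit2 ((binv.getD (pos i) 0).testBit c.1)

/-- The basis of chosen vectors. -/
def colBasis {ι : Type} [Fintype ι] [DecidableEq ι] {d : ℕ} (A : Matrix ι (Fin d) (ZMod 2))
    (B : Matrix (Fin d) ι (ZMod 2)) (h1 : A * B = 1) (h2 : B * A = 1) : Module.Basis (Fin d) (ZMod 2) (ι → ZMod 2) :=
  Module.Basis.ofEquivFun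
    { toFun := fun x => Matrix.mulVec B x
      invFun := fun y => Matrix.mulVec A y
      map_add' := fun x y => Matrix.mulVec_add _ _ _
      map_smul' := fun c x => Matrix.mulVec_smul _ _ _
      left_inv := fun x => by simp [Matrix.mulVec_mulVec, h1]
      right_inv := fun y => by simp [Matrix.mulVec_mulVec, h2] }

theorem colBasis_apply {ι : Type} [Fintype ι] [DecidableEq ι] {d : ℕ} (A : Matrix ι (Fin d) (ZMod 2))
    (B : Matrix (Fin d) ι (ZMod 2)) (h1 : A * B = 1) (h2 : B * A = 1) (c : Fin d) :
    colBasis A B h1 h2 c = fun i => A i c := by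
  rw [colBasis, Module.Basis.coe_ofEquivFun]
  funext i
  show Matrix.mulVec A (Pi.single c 1) i = _
  simp [Matrix.mulVec_single]

/-- The order of a tree, checked. -/
def treeOK (k : ℕ) (formN : ℕ → ℕ → Bool) (codes starts : List ℕ) : List (ℕ × ℕ × ℕ) → List ℕ → Bool
  | [], _ => true
  | e :: rest, seen => Nat.blt e.1 k && Nat.blt e.2.1 k && Nat.blt e.2.2 k && seen.contains e.2.1 && seen.contains e.2.2 &&
      Nat.beq (codes.getD e.1 0)
        (if formN (codes.getD e.2.1 0) (codes.getD e.2.2 0) then codes.getD e.2.2 0 ^^^ codes.getD e.2.1 0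
          else codes.getD e.2.2 0) &&
      treeOK k formN codes starts rest (seen ++ [e.1])

theorem treeOK_spec (k : ℕ) (formN : ℕ → ℕ → Bool) (codes starts : List ℕ) :
    ∀ (t : List (ℕ × ℕ × ℕ)) (seen : List ℕ), treeOK k formN codes starts t seen = true →
    ∀ (p : ℕ) (e : ℕ × ℕ × ℕ), t[p]? = some e → e.1 < k ∧ e.2.1 < k ∧ e.2.2 < k ∧
      (e.2.1 ∈ seen ∨ e.2.1 ∈ (t.take p).map Prod.fst) ∧ (e.2.2 ∈ seen ∨ e.2.2 ∈ (t.take p).map Prod.fst) ∧
      codes.getD e.1 0 = if formN (codes.getD e.2.1 0) (codes.getD e.2.2 0) then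
        codes.getD e.2.2 0 ^^^ codes.getD e.2.1 0 else codes.getD e.2.2 0
  | [], _, _, p, e, h => by simp at h
  | e0 :: rest, seen, hok, p, e, h => by
    simp only [treeOK, Bool.and_eq_true, List.contains_eq_mem, decide_eq_true_eq] at hok
    obtain ⟨⟨⟨⟨⟨⟨a, b⟩, c⟩, d1⟩, d2⟩, d3⟩, hr⟩ := hok
    cases p with
    | zero =>
      rw [List.getElem?_cons_zero] at h
      obtain rfl := Option.some.inj h
      exact ⟨Nat.le_of_ble_eq_true a, Nat.le_of_ble_eq_true b, Nat.le_of_ble_eq_true c, Or.inl d1, Or.inl d2,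
        Nat.eq_of_beq_eq_true d3⟩
    | succ p =>
      rw [List.getElem?_cons_succ] at h
      obtain ⟨q1, q2, q3, q4, q5, q6⟩ := treeOK_spec k formN codes starts rest _ hr p e h
      refine ⟨q1, q2, q3, ?_, ?_, q6⟩
      all_goals
        simp only [List.take_succ_cons, List.map_cons, List.mem_cons]
      · rcases q4 with h | h
        · rcases List.mem_append.1 h with h | h
          · exact Or.inl h
          · exact Or.inr (Or.inl (List.mem_singleton.1 h))
        · exact Or.inr (Or.inr h)
      · rcases q5 with h | h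
        · rcases List.mem_append.1 h with h | h
          · exact Or.inl h
          · exact Or.inr (Or.inl (List.mem_singleton.1 h))
        · exact Or.inr (Or.inr h)

theorem plus_span_ok : treeOK 120 plusB plus_codes plus_starts plus_tree plus_starts = true ∧
    ((∀ i ∈ plus_starts, i < 120) ∧ ∀ c : Fin 8, plus_bidx.getD c.1 0 < 120) ∧
    (List.range 120).all (fun i => plus_starts.contains i || plus_tree.any fun e => e.1 == i) = true := by
  decide +kernel

theorem plus_mat_ok : colMat 8 plusPos plus_codes plus_bidx * invMat 8 plusPos plus_binv = 1 ∧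
    invMat 8 plusPos plus_binv * colMat 8 plusPos plus_codes plus_bidx = 1 := by
  decide +kernel

theorem symp_span_ok : treeOK 63 sympB symp_codes symp_starts symp_tree symp_starts = true ∧
    ((∀ i ∈ symp_starts, i < 63) ∧ ∀ c : Fin 6, symp_bidx.getD c.1 0 < 63) ∧
    (List.range 63).all (fun i => symp_starts.contains i || symp_tree.any fun e => e.1 == i) = true := by
  decide +kernel

theorem symp_mat_ok : colMat 6 sympPos symp_codes symp_bidx * invMat 6 sympPos symp_binv = 1 ∧
    invMat 6 sympPos symp_binv * colMat 6 sympPos symp_codes symp_bidx = 1 := by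
  decide +kernel

theorem minus_span_ok : treeOK 36 minusB minus_codes minus_starts minus_tree minus_starts = true ∧
    ((∀ i ∈ minus_starts, i < 36) ∧ ∀ c : Fin 6, minus_bidx.getD c.1 0 < 36) ∧
    (List.range 36).all (fun i => minus_starts.contains i || minus_tree.any fun e => e.1 == i) = true := by
  decide +kernel

theorem minus_mat_ok : colMat 6 minusPos minus_codes minus_bidx * invMat 6 minusPos minus_binv = 1 ∧
    invMat 6 minusPos minus_binv * colMat 6 minusPos minus_codes minus_bidx = 1 := by
  decide +kernel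

/-- The span of the large system. -/
def plusSpan : Sys.Span plusSys where
  basis := colBasis _ _ plus_mat_ok.1 plus_mat_ok.2
  idx c := ⟨plus_bidx.getD c.1 0, plus_span_ok.2.1.2 c⟩
  vec_idx c := ((colBasis_apply _ _ plus_mat_ok.1 plus_mat_ok.2 c).trans rfl).symm
  starts := plus_starts
  tree := plus_tree
  starts_lt := plus_span_ok.2.1.1
  reach := plus_span_ok.2.2
  order p e h := treeOK_spec 120 plusB plus_codes plus_starts plus_tree plus_starts plus_span_ok.1 p e h

/-- The span of the symplectic system. -/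
def sympSpan : Sys.Span sympSys where
  basis := colBasis _ _ symp_mat_ok.1 symp_mat_ok.2
  idx c := ⟨symp_bidx.getD c.1 0, symp_span_ok.2.1.2 c⟩
  vec_idx c := ((colBasis_apply _ _ symp_mat_ok.1 symp_mat_ok.2 c).trans rfl).symm
  starts := symp_starts
  tree := symp_tree
  starts_lt := symp_span_ok.2.1.1
  reach := symp_span_ok.2.2
  order p e h := treeOK_spec 63 sympB symp_codes symp_starts symp_tree symp_starts symp_span_ok.1 p e h

/-- The span of the system of minus type. -/
def minusSpan : Sys.Span minusSys where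
  basis := colBasis _ _ minus_mat_ok.1 minus_mat_ok.2
  idx c := ⟨minus_bidx.getD c.1 0, minus_span_ok.2.1.2 c⟩
  vec_idx c := ((colBasis_apply _ _ minus_mat_ok.1 minus_mat_ok.2 c).trans rfl).symm
  starts := minus_starts
  tree := minus_tree
  starts_lt := minus_span_ok.2.1.1
  reach := minus_span_ok.2.2
  order p e h := treeOK_spec 36 minusB minus_codes minus_starts minus_tree minus_starts minus_span_ok.1 p e h

end

end CfsgLib.Spor.Fi22OuterInv
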