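/-
The fixed subgroup of the outer involution and its three classes of fixed transpositions.
-/
import Cfsg.Agent.Lib.Spor.Fi22OuterInv.CentChecks
import Cfsg.Agent.Lib.Spor.Fi22OuterInv.Systems
import Mathlib.GroupTheory.GroupAction.Quotient

set_option autoImplicit false

namespace CfsgLib.Spor.Fi22OuterInv

open CfsgLib.Spor.TC CfsgLib.Spor.Fi22 CfsgLib.Spor.Fi22Out MulAction

noncomputable section

attribute [local instance] actionH

/-- The subgroup fixed by an automorphism. -/
def fixSub (α : MulAut Gp) : Subgroup Gp where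
  carrier := {g | α g = g}
  one_mem' := map_one α
  mul_mem' {x y} hx hy := show α (x * y) = x * y by rw [map_mul, hx, hy]
  inv_mem' {x} hx := show α x⁻¹ = x⁻¹ by rw [map_inv, hx]

/-- The subgroup fixed by the outer involution. -/
abbrev CS : Subgroup Gp := fixSub PairAut.tau

theorem tau_table : HasTable PairAut.tau tauP := tau_trp

theorem pt_n : ∀ x : Pt, x.1 < 3510 := fun x => x.2

theorem shape (x : Pt) : compN x.1 ≤ 3 ∧ (compN x.1 ≠ 0 ↔ tauP x = x) ∧ (compN x.1 = 1 ↔ x ∈ plusSys.carrier) := by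
  have h := allFrom_spec comp_shape x.1 (Nat.zero_le _) (by have := pt_n x; omega)
  simp only [compShape, Bool.and_eq_true, beq_iff_eq] at h
  obtain ⟨⟨h1, h2⟩, h3⟩ := h
  refine ⟨Nat.le_of_ble_eq_true h1, ?_, ?_⟩
  · rw [Fin.ext_iff]
    show compN x.1 ≠ 0 ↔ tauN x.1 = x.1
    constructor
    · intro hne
      by_contra hc
      have e1 : Nat.beq (tauN x.1) x.1 = false := Bool.eq_false_iff.2 fun r => hc (Nat.eq_of_beq_eq_true r)
      rw [e1] at h2
      exact hne (Nat.eq_of_beq_eq_true h2)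
    · intro e hc
      rw [e, hc] at h2
      simp [Nat.beq_refl] at h2
  · show compN x.1 = 1 ↔ plusSys.D.ixN x.1 ≠ 0
    constructor
    · intro e hc
      rw [e, show plus_tbl.get 16 x.1 = 0 from hc] at h3
      simp [Nat.beq_refl] at h3
    · intro hne
      have e1 : Nat.beq (plus_tbl.get 16 x.1) 0 = false := Bool.eq_false_iff.2 fun r => hne (Nat.eq_of_beq_eq_true r)
      rw [e1] at h3
      exact Nat.eq_of_beq_eq_true h3

theorem mem_CS_iff (g : Gp) : g ∈ CS ↔ ∀ x, tauP (g • x) = g • tauP x := tau_table.fix_iff g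

theorem fixed_smul {g : Gp} (hg : g ∈ CS) {x : Pt} (hx : compN x.1 ≠ 0) : compN (g • x : Pt).1 ≠ 0 := by
  rw [(shape _).2.1, (mem_CS_iff g).1 hg, (shape x).2.1.1 hx]

theorem trp_mem_CS {x : Pt} (hx : compN x.1 ≠ 0) : trp x ∈ CS := by
  show PairAut.tau (trp x) = trp x
  rw [tau_trp, (shape x).2.1.1 hx]

/-- The chosen fixed point. -/
def ptA : Pt := Classical.choose (wordPt_spec named_ok.1)

theorem ptA_val : ptA.1 = aPt := (Classical.choose_spec (wordPt_spec named_ok.1)).1

theorem ptA_act (y : Pt) : ((trp ptA • y : Pt) : ℕ) = act1 aW y :=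
  act1_smul (Classical.choose_spec (wordPt_spec named_ok.1)).2.1 (Classical.choose_spec (wordPt_spec named_ok.1)).2.2 y

theorem comp_a : compN ptA.1 = 1 := by
  have h := List.all_eq_true.1 named_ok.2.2.2.1 0 (List.mem_range.2 (by norm_num))
  simp only [Bool.and_eq_true] at h
  rw [ptA_val, ← named_ok.2.2.2.2.1]
  exact Nat.eq_of_beq_eq_true h.2

theorem fix_gen {i : ℕ} (hi : i < 9) : ∃ t : Pt, compN t.1 ≠ 0 ∧ (∀ y : Pt, ((trp t • y : Pt) : ℕ) = act1 (fixGensW.getD i []) y) ∧
    ∀ y : Pt, compN y.1 ≠ 0 → compN (trp t • y : Pt).1 = (fixPerm.getD i []).getD (compN y.1 - 1) 0 := by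
  have h := List.all_eq_true.1 fix_gens i (List.mem_range.2 hi)
  simp only [Bool.and_eq_true, Bool.not_eq_true'] at h
  obtain ⟨t, et, hw, hw0⟩ := wordPt_spec h.1.1
  have ha : ∀ y : Pt, ((trp t • y : Pt) : ℕ) = act1 (fixGensW.getD i []) y := act1_smul hw hw0
  refine ⟨t, fun e => ?_, ha, fun y hy => ?_⟩
  · rw [et] at e
    rw [e] at h
    exact absurd h.1.2 (by decide)
  · have h2 := allFrom_spec h.2 y.1 (Nat.zero_le _) (by have := pt_n y; omega)
    simp only [Bool.or_eq_true] at h2
    rw [ha]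
    exact Nat.eq_of_beq_eq_true (h2.resolve_left fun r => hy (Nat.eq_of_beq_eq_true r))

/-- Elements of the fixed subgroup respecting the classes reach every fixed point. -/
theorem exists_move {x : Pt} (hx : compN x.1 ≠ 0) :
    ∃ g ∈ CS, g • ptA = x ∧ ∀ y z : Pt, compN y.1 ≠ 0 → compN z.1 ≠ 0 → compN y.1 = compN z.1 →
      compN (g • y : Pt).1 = compN (g • z : Pt).1 := by
  obtain ⟨hm, hall⟩ := fix_moves
  have key : ∀ t, t < 359 → ∀ x : Pt, x.1 = (fixMoves.getD t (0, 0, 0)).1 →
      ∃ g ∈ CS, g • ptA = x ∧ ∀ y z : Pt, compN y.1 ≠ 0 → compN z.1 ≠ 0 → compN y.1 = compN z.1 →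
        compN (g • y : Pt).1 = compN (g • z : Pt).1 := by
    intro t
    induction t using Nat.strong_induction_on with
    | _ t ih =>
      intro ht x hx
      have he := List.all_eq_true.1 hm t (List.mem_range.2 ht)
      simp only [Bool.and_eq_true, Bool.or_eq_true, List.contains_eq_mem, decide_eq_true_eq] at he
      obtain ⟨⟨⟨he1, he0⟩, he2⟩, he3⟩ := he
      obtain ⟨s, hs0, hsa, hsp⟩ := fix_gen (Nat.le_of_ble_eq_true he1)
      have hy : (trp s • x : Pt).1 = (fixMoves.getD t (0, 0, 0)).2.2 := by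
        let y : Pt := ⟨_, Nat.le_of_ble_eq_true he0⟩
        have e : trp s • y = x := Fin.ext (by rw [hsa, hx]; exact Nat.eq_of_beq_eq_true he2)
        rw [← e, ← mul_smul, trp_sq, one_smul]
      obtain ⟨g, hg, hga, hgc⟩ : ∃ g ∈ CS, g • ptA = trp s • x ∧ ∀ y z : Pt, compN y.1 ≠ 0 → compN z.1 ≠ 0 →
          compN y.1 = compN z.1 → compN (g • y : Pt).1 = compN (g • z : Pt).1 := by
        rcases he3 with r | r
        · exact ⟨1, one_mem _, by rw [one_smul]; exact Fin.ext (ptA_val.trans ((Nat.eq_of_beq_eq_true r).symm.trans hy.symm)),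
            fun y z _ _ e => by simpa only [one_smul] using e⟩
        · obtain ⟨e', he', r'⟩ := List.mem_map.1 r
          obtain ⟨q, hq, rfl⟩ := List.mem_iff_getElem.1 he'
          rw [List.length_take] at hq
          refine ih q (by omega) (by omega) _ ?_
          rw [hy, ← r', List.getElem_take, List.getD_eq_getElem _ _ (by omega)]
      refine ⟨trp s * g, mul_mem (trp_mem_CS hs0) hg, by rw [mul_smul, hga, ← mul_smul, trp_sq, one_smul],
        fun y z hy hz e => ?_⟩
      rw [mul_smul, mul_smul, hsp _ (fixed_smul hg hy), hsp _ (fixed_smul hg hz), hgc y z hy hz e]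
  have h := allFrom_spec hall x.1 (Nat.zero_le _) (by have := pt_n x; omega)
  simp only [Bool.or_eq_true, List.contains_eq_mem, decide_eq_true_eq] at h
  rcases h with (r | r) | r
  · exact absurd (Nat.eq_of_beq_eq_true r) hx
  · exact ⟨1, one_mem _, by rw [one_smul]; exact Fin.ext (ptA_val.trans (Nat.eq_of_beq_eq_true r).symm),
      fun y z _ _ e => by simpa only [one_smul] using e⟩
  · obtain ⟨e', he', r'⟩ := List.mem_map.1 r
    obtain ⟨q, hq, rfl⟩ := List.mem_iff_getElem.1 he'
    refine key q (named_ok.2.2.2.2.2.2.2 ▸ hq) x ?_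
    rw [← r', List.getD_eq_getElem _ _ hq]

/-- Commuting fixed transpositions are in the same class. -/
theorem comp_of_commute {x y : Pt} (hx : compN x.1 ≠ 0) (hy : compN y.1 ≠ 0) (h : trp x • y = y) :
    compN y.1 = compN x.1 := by
  obtain ⟨g, hg, rfl, hgc⟩ := exists_move hx
  have hy' : compN (g⁻¹ • y : Pt).1 ≠ 0 := fixed_smul (inv_mem hg) hy
  have ha : compN ptA.1 ≠ 0 := by rw [comp_a]; exact one_ne_zero
  have hcom : trp ptA • (g⁻¹ • y) = g⁻¹ • y := by
    rw [← trp_fix_smul g, smul_inv_smul]; exact h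
  have h2 := allFrom_spec a_commuting (g⁻¹ • y : Pt).1 (Nat.zero_le _) (by have := pt_n (g⁻¹ • y); omega)
  simp only [Bool.or_eq_true, Bool.not_eq_true'] at h2
  rcases h2 with (r | r) | r
  · exact absurd (Nat.eq_of_beq_eq_true r) hy'
  · rw [← ptA_act, hcom] at r
    simp [Nat.beq_refl] at r
  · have := hgc _ _ hy' ha ((Nat.eq_of_beq_eq_true r).trans comp_a.symm)
    rwa [smul_inv_smul] at this

/-- A representative of a class. -/
def compRep (l : Fin 3) : Pt := ⟨compReps.getD l.1 0, by
  have h := List.all_eq_true.1 named_ok.2.2.2.1 l.1 (List.mem_range.2 l.2)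
  simp only [Bool.and_eq_true] at h
  exact Nat.le_of_ble_eq_true h.1⟩

theorem comp_rep (l : Fin 3) : compN (compRep l).1 = l.1 + 1 := by
  have h := List.all_eq_true.1 named_ok.2.2.2.1 l.1 (List.mem_range.2 l.2)
  simp only [Bool.and_eq_true] at h
  exact Nat.eq_of_beq_eq_true h.2

/-- The class of a fixed point. -/
def label {x : Pt} (hx : compN x.1 ≠ 0) : Fin 3 := ⟨compN x.1 - 1, by have := (shape x).1; omega⟩

/-- The fixed subgroup respects the classes. -/
theorem class_smul {g : Gp} (hg : g ∈ CS) {x : Pt} (hx : compN x.1 ≠ 0) :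
    compN (g • x : Pt).1 = compN (g • compRep (label hx) : Pt).1 := by
  obtain ⟨htree, hcov⟩ := comp_tree
  have hrep : ∀ z : Pt, compN z.1 ≠ 0 → ∀ hz : z.1 ∈ compReps, ∀ h0 : compN z.1 ≠ 0, z = compRep (label h0) := by
    intro z _ hz h0
    obtain ⟨q, hq, e⟩ := List.mem_iff_getElem.1 hz
    have hq3 : q < 3 := named_ok.2.2.1 ▸ hq
    have hc : compN z.1 = q + 1 := by
      rw [← e, ← List.getD_eq_getElem _ 0 hq]; exact comp_rep ⟨q, hq3⟩
    refine Fin.ext ?_
    show z.1 = compReps.getD (compN z.1 - 1) 0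
    rw [hc, Nat.add_sub_cancel, List.getD_eq_getElem _ _ hq, e]
  have key : ∀ t, t < 357 → ∀ z : Pt, z.1 = (compTree.getD t (0, 0)).1 → ∀ h0 : compN z.1 ≠ 0,
      compN (g • z : Pt).1 = compN (g • compRep (label h0) : Pt).1 := by
    intro t
    induction t using Nat.strong_induction_on with
    | _ t ih =>
      intro ht z hz h0
      have he := List.all_eq_true.1 htree t (List.mem_range.2 ht)
      simp only [compTreeAt, Bool.and_eq_true, Bool.or_eq_true, List.contains_eq_mem, decide_eq_true_eq] at he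
      obtain ⟨⟨⟨⟨⟨he1, he2⟩, he3⟩, -⟩, he5⟩, he6⟩ := he
      obtain ⟨p, ep, hw, hw0⟩ := wordPt_spec he1
      obtain rfl : p = z := Fin.ext (ep.trans hz.symm)
      let y : Pt := ⟨(compTree.getD t (0, 0)).2, Nat.le_of_ble_eq_true he2⟩
      have hcy : compN y.1 = compN p.1 := by rw [ep]; exact Nat.eq_of_beq_eq_true he5
      have hy0 : compN y.1 ≠ 0 := hcy ▸ h0
      have hcom : trp p • y = y := (com_iff hw hw0 y).1 he3
      have h1 : compN (g • y : Pt).1 = compN (g • p : Pt).1 :=
        comp_of_commute (fixed_smul hg h0) (fixed_smul hg hy0) ((trp_fix_smul g p y).2 hcom)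
      have hl : label h0 = label hy0 := Fin.ext (congrArg (fun k => k - 1) hcy.symm)
      rw [← h1, hl]
      rcases he6 with r | r
      · rw [← hrep y hy0 r hy0]
      · obtain ⟨e', he', r'⟩ := List.mem_map.1 r
        obtain ⟨q, hq, rfl⟩ := List.mem_iff_getElem.1 he'
        rw [List.length_take] at hq
        refine ih q (by omega) (by omega) y ?_ hy0
        show (compTree.getD t (0, 0)).2 = _
        rw [← r', List.getElem_take, List.getD_eq_getElem _ _ (by omega)]
  have h := allFrom_spec hcov x.1 (Nat.zero_le _) (by have := pt_n x; omega)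
  simp only [Bool.or_eq_true, List.contains_eq_mem, decide_eq_true_eq] at h
  rcases h with (r | r) | r
  · exact absurd (Nat.eq_of_beq_eq_true r) hx
  · rw [← hrep x hx r hx]
  · obtain ⟨e', he', r'⟩ := List.mem_map.1 r
    obtain ⟨q, hq, rfl⟩ := List.mem_iff_getElem.1 he'
    exact key q (named_ok.2.2.2.2.2.1 ▸ hq) x (by rw [← r', List.getD_eq_getElem _ _ hq]) hx

/-- The permutation of the classes. -/
def classMap (g : CS) (l : Fin 3) : Fin 3 :=
  label (x := (g : Gp) • compRep l) (fixed_smul g.2 (by rw [comp_rep]; exact Nat.succ_ne_zero _))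

theorem classMap_mul (g h : CS) (l : Fin 3) : classMap (g * h) l = classMap g (classMap h l) := by
  refine Fin.ext ?_
  show compN (((g : Gp) * h) • compRep l : Pt).1 - 1 = compN ((g : Gp) • compRep (classMap h l) : Pt).1 - 1
  rw [mul_smul, class_smul g.2 (fixed_smul h.2 (by rw [comp_rep]; exact Nat.succ_ne_zero _))]
  rfl

theorem classMap_one (l : Fin 3) : classMap 1 l = l := by
  refine Fin.ext ?_
  show compN (((1 : CS) : Gp) • compRep l : Pt).1 - 1 = l.1
  rw [Subgroup.coe_one, one_smul, comp_rep, Nat.add_sub_cancel]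

/-- The action on the classes. -/
def classHom : CS →* Equiv.Perm (Fin 3) where
  toFun g := ⟨classMap g, classMap g⁻¹, fun l => by rw [← classMap_mul, inv_mul_cancel, classMap_one],
    fun l => by rw [← classMap_mul, mul_inv_cancel, classMap_one]⟩
  map_one' := Equiv.ext classMap_one
  map_mul' g h := Equiv.ext (classMap_mul g h)

theorem classHom_apply (g : CS) {x : Pt} (hx : compN x.1 ≠ 0) :
    classHom g (label hx) = label (fixed_smul g.2 hx) :=
  Fin.ext (congrArg (fun k => k - 1) (class_smul g.2 hx).symm)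

theorem label_a (h : compN ptA.1 ≠ 0) : label h = 0 := Fin.ext (show compN ptA.1 - 1 = 0 by rw [comp_a])

/-- The stabiliser of the first class. -/
def H1 : Subgroup CS := (MulAction.stabilizer (Equiv.Perm (Fin 3)) (0 : Fin 3)).comap classHom

theorem mem_H1 {g : CS} : g ∈ H1 ↔ classHom g 0 = 0 := Iff.rfl

theorem h1_index : H1.index = 3 := by
  letI : MulAction CS (Fin 3) := MulAction.compHom (Fin 3) classHom
  haveI : MulAction.IsPretransitive CS (Fin 3) := by
    refine ⟨fun i j => ?_⟩
    suffices key : ∀ i : Fin 3, ∃ g : CS, classHom g 0 = i by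
      obtain ⟨g, hg⟩ := key i
      obtain ⟨k, hk⟩ := key j
      refine ⟨k * g⁻¹, ?_⟩
      show classHom (k * g⁻¹) i = j
      rw [map_mul, map_inv, Equiv.Perm.mul_apply, ← hg, Equiv.Perm.inv_def, Equiv.symm_apply_apply, hk]
    intro i
    obtain ⟨g, hg, hga, -⟩ := exists_move (x := compRep i) (by rw [comp_rep]; exact Nat.succ_ne_zero _)
    have ha : compN ptA.1 ≠ 0 := by rw [comp_a]; exact one_ne_zero
    refine ⟨⟨g, hg⟩, ?_⟩
    rw [← label_a ha, classHom_apply]
    refine Fin.ext ?_
    show compN (g • ptA : Pt).1 - 1 = i.1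
    rw [hga, comp_rep, Nat.add_sub_cancel]
  have : H1 = MulAction.stabilizer CS (0 : Fin 3) := rfl
  rw [this, MulAction.index_stabilizer_of_transitive, Nat.card_fin]

end

end CfsgLib.Spor.Fi22OuterInv
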