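/-
The three systems against their quadratic forms, by kernel evaluation.
-/
import Cfsg.Agent.Lib.Spor.Fi22OuterInv.Systems
import Cfsg.Prelude.Def_Classical

set_option autoImplicit false
set_option maxRecDepth 100000
set_option maxHeartbeats 0

namespace CfsgLib.Spor.Fi22OuterInv

open CfsgLib.Spor.TC

theorem plus_inj : allFrom (fun c => Nat.beq (plus_tbl.get 16 c) 0 ||
    Nat.beq (plus_reps.getD (plus_tbl.get 16 c - 1) 0) c) 0 3510 = true := by decide +kernel

theorem symp_inj : allFrom (fun c => Nat.beq (symp_tbl.get 16 c) 0 ||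
    Nat.beq (symp_reps.getD (symp_tbl.get 16 c - 1) 0) c) 0 3510 = true := by decide +kernel

theorem plus_quad : ∀ i : Fin 120,
    Cfsg.quadFormPlus 4 (ZMod 2) (decV plusPos (plus_codes.getD i.1 0)) = 1 := by decide +kernel

theorem plus_all : ∀ v : Fin 4 ⊕ Fin 4 → ZMod 2, Cfsg.quadFormPlus 4 (ZMod 2) v ≠ 0 →
    ∃ i : Fin 120, decV plusPos (plus_codes.getD i.1 0) = v := by decide +kernel

theorem basis_reps : ∀ c : Fin 8,
    plus_reps.getD (plus_bidx.getD c.1 0) 0 = plus_pts.getD (plus_bidx.getD c.1 0) 0 := by decide +kernel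

theorem minus_quad : ∀ i : Fin 36,
    Cfsg.quadFormMinus 2 (ZMod 2) 1 1 (decV minusPos (minus_codes.getD i.1 0)) = 1 := by decide +kernel

theorem minus_all : ∀ v : (Fin 2 ⊕ Fin 2) ⊕ Fin 2 → ZMod 2, Cfsg.quadFormMinus 2 (ZMod 2) 1 1 v ≠ 0 →
    ∃ i : Fin 36, decV minusPos (minus_codes.getD i.1 0) = v := by decide +kernel

end CfsgLib.Spor.Fi22OuterInv
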