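/-
The linear representation of a system with a quadratic form is onto the isometry group.
-/
import Cfsg.Agent.Lib.Spor.Fi22OuterInv.System
import Cfsg.Agent.Lib.Perm.Trans.QuadTransitive

set_option autoImplicit false

namespace CfsgLib.Spor.Fi22OuterInv

open CfsgLib.Spor.TC CfsgLib.Spor.Fi22 CfsgLib.Spor.Fi22Out MulAction CfsgLib.Perm.Trans CfsgLib.Perm.Trans.Quad
open scoped MatrixGroups

noncomputable section

attribute [local instance] actionH

variable {ι : Type} [Fintype ι] [DecidableEq ι] {S : Sys ι} {K : Subgroup Gp}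
  {Q : (ι → ZMod 2) → ZMod 2} (hadd : ∀ x y, Q (x + y) = Q x + Q y + S.form x y) (hvec : ∀ i, Q (S.vec i) = 1)

/-- The representation into the isometry group. -/
theorem Sys.exists_iso_rep (hK : S.Acts K) (T : Sys.Span S)
    (hadd : ∀ x y, Q (x + y) = Q x + Q y + S.form x y) (hvec : ∀ i, Q (S.vec i) = 1) :
    ∃ ρ : K →* ↥(Cfsg.isometryGroup (ZMod 2) Q),
      (∀ g i, Matrix.mulVec ((ρ g : GL ι (ZMod 2)) : Matrix ι ι (ZMod 2)) (S.vec i) = S.vec (Sys.perm hK g i)) ∧
      ∀ g, ρ g = 1 ↔ ∀ i, Sys.perm hK g i = i := by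
  obtain ⟨ρ, h1, h2, h3⟩ := Sys.exists_rep hK T
  have h0 : Q 0 = 0 := by
    have h := hadd 0 0
    simp only [add_zero, map_zero, LinearMap.zero_apply] at h
    revert h
    generalize Q 0 = q
    revert q
    decide
  have hmem : ∀ g, ρ g ∈ Cfsg.isometryGroup (ZMod 2) Q := fun g => by
    refine mem_iso.2 fun x => ?_
    induction T.basis.mem_span x using Submodule.span_induction with
    | mem z hz =>
      obtain ⟨c, rfl⟩ := hz
      rw [← T.vec_idx, h1, hvec, hvec]
    | zero => rw [Matrix.mulVec_zero]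
    | add x y _ _ hx hy => rw [Matrix.mulVec_add, hadd, hadd, hx, hy, h2]
    | smul a x _ hx =>
      rw [Matrix.mulVec_smul]
      rcases (by decide : ∀ a : ZMod 2, a = 0 ∨ a = 1) a with rfl | rfl
      · rw [zero_smul, zero_smul]
      · rw [one_smul, one_smul, hx]
  refine ⟨ρ.codRestrict _ hmem, h1, fun g => ?_⟩
  rw [← h3, Subtype.ext_iff]
  rfl

include hadd hvec in
/-- With all non-singular vectors present it is onto. -/
theorem Sys.rep_surjective (hK : S.Acts K) (T : Sys.Span S) (hQ : Cfsg.Geo.IsNondegenerateQuadraticForm Q)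
    (hn : 3 ≤ Fintype.card ι) (hd : Fintype.card ι ≠ 4) (hall : ∀ v, Q v ≠ 0 → ∃ i, S.vec i = v)
    (hin : ∀ i, trp (S.rep i).1 ∈ K) (ρ : K →* ↥(Cfsg.isometryGroup (ZMod 2) Q))
    (hρ : ∀ g i, Matrix.mulVec ((ρ g : GL ι (ZMod 2)) : Matrix ι ι (ZMod 2)) (S.vec i) = S.vec (Sys.perm hK g i)) :
    Function.Surjective ρ := by
  intro y
  have hr := iso_le_refl_closure hQ hn (Or.inr hd) y.2
  suffices hsuff : ∀ z ∈ Subgroup.closure
      {g | g ∈ Cfsg.isometryGroup (ZMod 2) Q ∧ ∃ v, Q v ≠ 0 ∧ IsRefl Q v g}, ∃ x : K, (ρ x : GL ι (ZMod 2)) = z by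
    obtain ⟨x, hx⟩ := hsuff _ hr
    exact ⟨x, Subtype.ext hx⟩
  intro z hz
  induction hz using Subgroup.closure_induction with
  | mem g hg =>
    obtain ⟨-, v, hv, hg⟩ := hg
    obtain ⟨i, rfl⟩ := hall v hv
    refine ⟨⟨_, hin i⟩, Units.ext (Matrix.ext_iff_mulVec.2 fun x => ?_)⟩
    have hlin : ∀ u, (g : Matrix ι ι (ZMod 2)).mulVec u = u + S.form u (S.vec i) • S.vec i := fun u => by
      rw [hg u, hvec, inv_one, one_mul, QuadraticMap.polar, hadd]
      rw [show Q u + Q (S.vec i) + S.form u (S.vec i) - Q u - Q (S.vec i) = S.form u (S.vec i) by ring]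
      rw [sub_eq_add_neg, ← neg_smul, ZModModule.neg_eq_self]
    induction T.basis.mem_span x using Submodule.span_induction with
    | mem w hw =>
      obtain ⟨c, rfl⟩ := hw
      rw [← T.vec_idx, hρ, hlin]
      have e : Sys.perm hK ⟨_, hin i⟩ (T.idx c) = S.op i (T.idx c) := rfl
      have sym : S.form (S.vec (T.idx c)) (S.vec i) = S.form (S.vec i) (S.vec (T.idx c)) := by
        have a1 := hadd (S.vec (T.idx c)) (S.vec i)
        have a2 := hadd (S.vec i) (S.vec (T.idx c))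
        rw [add_comm (S.vec i), add_comm (Q (S.vec i)), a1] at a2
        exact add_left_cancel a2
      rw [e, S.op_vec, sym]
    | zero => rw [Matrix.mulVec_zero, Matrix.mulVec_zero]
    | add a b _ _ ha hb => rw [Matrix.mulVec_add, Matrix.mulVec_add, ha, hb]
    | smul a b _ hb => rw [Matrix.mulVec_smul, Matrix.mulVec_smul, hb]
  | one => exact ⟨1, by rw [map_one]; rfl⟩
  | mul a b _ _ ha hb =>
    obtain ⟨x, rfl⟩ := ha
    obtain ⟨y, rfl⟩ := hb
    exact ⟨x * y, by rw [map_mul]; rfl⟩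
  | inv a _ ha =>
    obtain ⟨x, rfl⟩ := ha
    exact ⟨x⁻¹, by rw [map_inv]; rfl⟩

end

end CfsgLib.Spor.Fi22OuterInv
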