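/-
The stabiliser of a class of fixed transpositions is the orthogonal group of plus type in dimension eight; the fixed
subgroup of the outer involution is the automorphism group of its derived subgroup.
-/
import Cfsg.Agent.Lib.Spor.Fi22OuterInv.Cent
import Cfsg.Agent.Lib.Spor.Fi22OuterInv.SystemIso
import Cfsg.Agent.Lib.Spor.Fi22OuterInv.PlusChecks
import Cfsg.Agent.Lib.Classical.QuadOrder
import Cfsg.Agent.Lib.Orth.Aut.OutPlusFour
import Cfsg.Agent.Lib.Orth.Centre

set_option autoImplicit false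

namespace CfsgLib.Spor.Fi22OuterInv

open CfsgLib.Spor.TC CfsgLib.Spor.Fi22 CfsgLib.Spor.Fi22Out MulAction

noncomputable section

attribute [local instance] actionH

local notation "Q8" => Cfsg.quadFormPlus 4 (ZMod 2)

theorem plus_add (x y : Fin 4 ⊕ Fin 4 → ZMod 2) : Q8 (x + y) = Q8 x + Q8 y + plusSys.form x y := by
  show _ = _ + plusForm x y
  simp only [Cfsg.quadFormPlus, plusForm, LinearMap.mk₂_apply, Fin.sum_univ_four, Pi.add_apply]
  ring

theorem plus_vec (i : Fin plusSys.D.k) : Q8 (plusSys.vec i) = 1 := plus_quad i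

theorem trp_self (p : Pt) : trp p • p = p := by
  refine trp_inj ?_
  rw [← conj_trp, mul_inv_cancel_right]

theorem plus_mem_iff {x : Pt} : x ∈ plusSys.carrier ↔ compN x.1 = 1 := (shape x).2.2.symm

theorem fixed_of_plus {x : Pt} (hx : x ∈ plusSys.carrier) : compN x.1 ≠ 0 := by
  rw [plus_mem_iff.1 hx]
  exact one_ne_zero

theorem label_plus {x : Pt} (hx : x ∈ plusSys.carrier) : label (fixed_of_plus hx) = 0 :=
  Fin.ext (show compN x.1 - 1 = 0 by rw [plus_mem_iff.1 hx])

theorem plus_ix_inj {x y : plusSys.carrier} (h : plusSys.ix x = plusSys.ix y) : x = y := by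
  have key : ∀ z : plusSys.carrier, plus_reps.getD (plusSys.ix z).1 0 = z.1.1 := fun z => by
    have h := allFrom_spec plus_inj z.1.1 (Nat.zero_le _) (by have := pt_n z.1; omega)
    simp only [Bool.or_eq_true] at h
    exact Nat.eq_of_beq_eq_true (h.resolve_left fun r => z.2 (Nat.eq_of_beq_eq_true r))
  exact Subtype.ext (Fin.ext ((key x).symm.trans ((congrArg (fun i => plus_reps.getD i.1 0) h).trans (key y))))

theorem classHom_zero_iff (g : CS) {x : Pt} (hx : x ∈ plusSys.carrier) :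
    classHom g 0 = 0 ↔ (g : Gp) • x ∈ plusSys.carrier := by
  rw [← label_plus hx, classHom_apply, plus_mem_iff, label_plus hx, Fin.ext_iff]
  show compN ((g : Gp) • x : Pt).1 - 1 = 0 ↔ _
  have := fixed_smul g.2 (fixed_of_plus hx)
  omega

/-- The stabiliser of the first class in the whole group. -/
def K1 : Subgroup Gp := H1.map CS.subtype

theorem mem_K1 {g : Gp} : g ∈ K1 ↔ ∃ hg : g ∈ CS, classHom ⟨g, hg⟩ 0 = 0 := by
  constructor
  · rintro ⟨x, hx, rfl⟩
    exact ⟨x.2, hx⟩
  · rintro ⟨hg, h⟩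
    exact ⟨⟨g, hg⟩, h, rfl⟩

theorem trp_fixes_class {p : Pt} (hp : p ∈ plusSys.carrier) :
    classHom ⟨trp p, trp_mem_CS (fixed_of_plus hp)⟩ 0 = 0 := by
  rw [classHom_zero_iff _ hp]
  show trp p • p ∈ plusSys.carrier
  rwa [trp_self]

theorem plus_acts : plusSys.Acts K1 where
  mem g hg x hx := by
    obtain ⟨hC, h⟩ := mem_K1.1 hg
    exact (classHom_zero_iff ⟨g, hC⟩ hx).1 h
  same g hg x y h := by rw [plus_ix_inj h]

/-- An element fixing the basis members is trivial. -/
theorem plus_rigid {g : Gp} (hg : g ∈ K1) (hb : ∀ c, Sys.perm plus_acts ⟨g, hg⟩ (plusSpan.idx c) = plusSpan.idx c) :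
    g = 1 := by
  obtain ⟨ρ, hρ, -, hker⟩ := Sys.exists_rep plus_acts plusSpan
  have h1 : ρ ⟨g, hg⟩ = 1 := by
    refine Units.ext ?_
    have hl : Matrix.mulVecLin (ρ ⟨g, hg⟩ : Matrix (Fin 4 ⊕ Fin 4) (Fin 4 ⊕ Fin 4) (ZMod 2)) = LinearMap.id :=
      plusSpan.basis.ext fun c => by
        rw [LinearMap.id_apply, Matrix.mulVecLin_apply, ← plusSpan.vec_idx, hρ, hb]
    exact Matrix.ext_iff_mulVec.2 fun x => (LinearMap.congr_fun hl x).trans (Matrix.one_mulVec x).symm
  have hp := (hker _).1 h1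
  refine rigidOne.rigid rigidOne_ok tau_table (fun _ => rfl) tauP_tauP PairAut.tau_outer (mem_K1.1 hg).1 ?_
  intro i hi p hp'
  have hm : p ∈ plusSys.carrier := by
    show plusSys.D.ixN p.1 ≠ 0
    rw [hp']
    exact plusSys.facts.2.2.2.1 i hi
  have h2 := (Sys.perm_ix plus_acts ⟨g, hg⟩ ⟨p, hm⟩).symm.trans (hp _)
  exact congrArg Subtype.val (plus_ix_inj h2)

/-- The stabiliser of the class is the orthogonal group. -/
theorem h1_iso : Nonempty (↥H1 ≃* ↥(Cfsg.isometryGroup (ZMod 2) Q8)) := by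
  obtain ⟨ρ, hρ, hker⟩ := Sys.exists_iso_rep plus_acts plusSpan plus_add plus_vec
  have hin : ∀ i, trp (plusSys.rep i).1 ∈ K1 := fun i =>
    mem_K1.2 ⟨_, trp_fixes_class (plusSys.rep i).2⟩
  have hsurj := Sys.rep_surjective plus_add plus_vec plus_acts plusSpan CfsgLib.Perm.Trans.Quad.quadFormPlus_nd (by simp) (by simp)
    plus_all hin ρ hρ
  have hinj : Function.Injective ρ := by
    rw [injective_iff_map_eq_one]
    intro g hg
    exact Subtype.ext (plus_rigid g.2 fun c => (hker g).1 hg _)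
  exact ⟨(H1.equivMapOfInjective CS.subtype CS.subtype_injective).trans (MulEquiv.ofBijective ρ ⟨hinj, hsurj⟩)⟩

theorem card_iso_eight : Nat.card ↥(Cfsg.isometryGroup (ZMod 2) Q8) = 348364800 := by
  rw [CfsgLib.Classical.card_iso_plus (F := ZMod 2) 3, ZMod.card]
  decide

theorem card_CS : Nat.card CS = 1045094400 := by
  obtain ⟨e⟩ := h1_iso
  rw [← H1.index_mul_card, h1_index, Nat.card_congr e.toEquiv, card_iso_eight]

theorem omega_eight_facts : Nat.card ↥(Cfsg.Omega (ZMod 2) Q8) = 174182400 ∧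
    Subgroup.center ↥(Cfsg.Omega (ZMod 2) Q8) = ⊥ := by
  constructor
  · have h := (Cfsg.Omega (ZMod 2) Q8).index_mul_card
    rw [CfsgLib.Orth.omega_index_two CfsgLib.Perm.Trans.Quad.quadFormPlus_nd (by simp) (Or.inr (by simp)) (by decide),
      card_iso_eight] at h
    omega
  · rw [Subgroup.eq_bot_iff_forall]
    intro z hz
    refine Subtype.ext (Subtype.ext (Units.ext ?_))
    rcases CfsgLib.Orth.omega_center_sign CfsgLib.Perm.Trans.Quad.quadFormPlus_nd (by simp) hz with h | h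
    · exact h
    · rw [h]
      ext i j
      simp only [Matrix.neg_apply]
      exact ZModModule.neg_eq_self _

theorem card_aut_omega_eight : Nat.card (MulAut ↥(Cfsg.Omega (ZMod 2) Q8)) = 1045094400 := by
  obtain ⟨h1, h2⟩ := omega_eight_facts
  let e : Cfsg.POmega (ZMod 2) Q8 ≃* ↥(Cfsg.Omega (ZMod 2) Q8) :=
    (QuotientGroup.quotientMulEquivOfEq h2).trans QuotientGroup.quotientBot
  haveI : Fact (Nat.Prime 2) := ⟨Nat.prime_two⟩
  have h := CfsgLib.Orth.card_mulAut_plus_four (F := ZMod 2) (p := 2) (f := 1) le_rfl (by simp)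
  rw [Nat.card_congr (MulAut.congr e).toEquiv, Nat.card_congr e.toEquiv, h1] at h
  rw [h]
  norm_num

/-- The members of the class all interchange the two other classes. -/
theorem classHom_trp {p : Pt} (hp : p ∈ plusSys.carrier) :
    classHom ⟨trp p, trp_mem_CS (fixed_of_plus hp)⟩ = Equiv.swap 1 2 := by
  have ha : ptA ∈ plusSys.carrier := plus_mem_iff.2 comp_a
  have hA : classHom ⟨trp ptA, trp_mem_CS (fixed_of_plus ha)⟩ = Equiv.swap 1 2 := by
    obtain ⟨t, ht, hta, htp⟩ := fix_gen (i := 0) (by norm_num)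
    have hw : ∀ y : Pt, trp t • y = trp ptA • y := fun y => Fin.ext (by
      rw [hta, ptA_act, show fixGensW.getD 0 [] = aW from rfl])
    refine Equiv.ext fun l => ?_
    have hl : compN (compRep l).1 ≠ 0 := by rw [comp_rep]; exact Nat.succ_ne_zero _
    have e : label hl = l := Fin.ext (show compN (compRep l).1 - 1 = l.1 by rw [comp_rep, Nat.add_sub_cancel])
    conv_lhs => rw [← e, classHom_apply]
    refine Fin.ext ?_
    show compN (trp ptA • compRep l : Pt).1 - 1 = _
    rw [← hw, htp _ hl, comp_rep, Nat.add_sub_cancel]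
    fin_cases l <;> rfl
  obtain ⟨g, hg, hga, -⟩ := exists_move (fixed_of_plus hp)
  have e : (⟨trp p, trp_mem_CS (fixed_of_plus hp)⟩ : CS) =
      ⟨g, hg⟩ * ⟨trp ptA, trp_mem_CS (fixed_of_plus ha)⟩ * ⟨g, hg⟩⁻¹ :=
    Subtype.ext (show trp p = g * trp ptA * g⁻¹ by rw [conj_trp, hga])
  have h0 : classHom ⟨g, hg⟩ 0 = 0 := (classHom_zero_iff _ ha).2 (show g • ptA ∈ _ by rwa [hga])
  rw [e, map_mul, map_mul, map_inv, hA]
  revert h0
  generalize classHom ⟨g, hg⟩ = σ
  revert σ
  decide

/-- Only the identity centralizes the elements respecting every class. -/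
theorem centralizer_ker {g : CS} (hg : ∀ n ∈ classHom.ker, g * n * g⁻¹ = n) : g = 1 := by
  have hb : ∀ c : Fin 8, (g : Gp) • (plusSys.rep (plusSpan.idx c)).1 = (plusSys.rep (plusSpan.idx c)).1 := by
    intro c
    have hi := List.all_eq_true.1 inner_ok c.1 (List.mem_range.2 c.2)
    simp only [innerAt, Bool.and_eq_true, List.all_eq_true] at hi
    obtain ⟨hfix, hsep⟩ := hi
    have hlen : plusSys.D.pts.length = 120 := plus_basic.2
    have hpt : ∀ u, u < 120 → ∃ p : Pt, p.1 = plus_pts.getD u 0 ∧ p ∈ plusSys.carrier ∧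
        ∀ y : Pt, ((trp p • y : Pt) : ℕ) = act1 (plus_words.getD u []) y := fun u hu => by
      obtain ⟨hw, hw0, hlt⟩ := plusSys.facts.2.1 u (hlen ▸ hu)
      refine ⟨⟨_, hlt⟩, rfl, ?_, act1_smul hw hw0⟩
      exact plusSys.facts.2.2.2.1 u (hlen ▸ hu)
    set r := (plusSys.rep (plusSpan.idx c)).1
    have hr : r.1 = plus_pts.getD (plus_bidx.getD c.1 0) 0 := basis_reps c
    have hrf : compN r.1 ≠ 0 := fixed_of_plus (plusSys.rep (plusSpan.idx c)).2
    have h := allFrom_spec hsep ((g : Gp) • r : Pt).1 (Nat.zero_le _) (by have := pt_n ((g : Gp) • r); omega)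
    simp only [Bool.or_eq_true, List.any_eq_true, Bool.not_eq_true'] at h
    rcases h with (h | h) | ⟨e, he, h⟩
    · exact Fin.ext ((Nat.eq_of_beq_eq_true h).trans hr.symm)
    · exact absurd (Nat.eq_of_beq_eq_true h) (fixed_smul g.2 hrf)
    · exfalso
      obtain ⟨⟨h1, h2⟩, h3⟩ := hfix e he
      obtain ⟨p, -, hp, hpa⟩ := hpt e.1 (Nat.le_of_ble_eq_true h1)
      obtain ⟨q, -, hq, hqa⟩ := hpt e.2 (Nat.le_of_ble_eq_true h2)
      let n : CS := ⟨trp p, trp_mem_CS (fixed_of_plus hp)⟩ * ⟨trp q, trp_mem_CS (fixed_of_plus hq)⟩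
      have hn : n ∈ classHom.ker := by
        rw [MonoidHom.mem_ker, map_mul, classHom_trp hp, classHom_trp hq, Equiv.swap_mul_self]
      have hnr : (trp p * trp q) • r = r := Fin.ext (by
        rw [mul_smul, hpa, hqa, hr]; exact Nat.eq_of_beq_eq_true h3)
      have hc : (trp p * trp q) * (g : Gp) = (g : Gp) * (trp p * trp q) := by
        have := congrArg Subtype.val (hg n hn)
        simp only [Subgroup.coe_mul, Subgroup.coe_inv, n] at this
        rw [← mul_inv_eq_iff_eq_mul.1 this]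
      have : act1 (plus_words.getD e.1 []) (act1 (plus_words.getD e.2 []) ((g : Gp) • r : Pt).1) = ((g : Gp) • r : Pt).1 := by
        rw [← hqa, ← hpa, ← mul_smul, ← mul_smul, hc, mul_smul, hnr]
      rw [this, Nat.beq_refl] at h
      exact absurd h (by decide)
  let c0 : Fin plusSys.dim := ⟨0, by decide⟩
  have hmem : (g : Gp) ∈ K1 := mem_K1.2 ⟨g.2, (classHom_zero_iff g (plusSys.rep (plusSpan.idx c0)).2).2 (by
    rw [show (g : Gp) • (plusSys.rep (plusSpan.idx c0)).1 = _ from hb c0]; exact (plusSys.rep (plusSpan.idx c0)).2)⟩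
  refine Subtype.ext (plus_rigid hmem fun c => ?_)
  show plusSys.ix ⟨(g : Gp) • (plusSys.rep (plusSpan.idx c)).1, _⟩ = _
  conv_rhs => rw [← plusSys.ix_rep (plusSpan.idx c)]
  exact congrArg plusSys.ix (Subtype.ext (hb c))

/-- The elements respecting every class form the derived orthogonal group. -/
theorem ker_iso : Nonempty (↥classHom.ker ≃* ↥(Cfsg.Omega (ZMod 2) Q8)) := by
  obtain ⟨e⟩ := h1_iso
  have hle : classHom.ker ≤ H1 := fun g hg => by
    rw [mem_H1, MonoidHom.mem_ker.1 hg]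
    rfl
  let M : Subgroup H1 := classHom.ker.subgroupOf H1
  have hidx : M.index = 2 := by
    have ha : ptA ∈ plusSys.carrier := plus_mem_iff.2 comp_a
    rw [Subgroup.index_eq_two_iff]
    refine ⟨⟨⟨trp ptA, trp_mem_CS (fixed_of_plus ha)⟩, trp_fixes_class ha⟩, fun x => ?_⟩
    show Xor (classHom (x.1 * ⟨trp ptA, trp_mem_CS (fixed_of_plus ha)⟩) = 1) (classHom x.1 = 1)
    rw [map_mul, classHom_trp ha]
    have hx : classHom x.1 0 = 0 := x.2
    revert hx
    generalize classHom x.1 = σ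
    revert σ
    decide
  let M' : Subgroup ↥(Cfsg.isometryGroup (ZMod 2) Q8) := M.map e.toMonoidHom
  have hidx' : M'.index = 2 := (M.index_map_equiv e).trans hidx
  have hcomm : Cfsg.Omega (ZMod 2) Q8 ≤ M' := by
    haveI : M'.Normal := Subgroup.normal_of_index_eq_two hidx'
    rw [← QuotientGroup.ker_mk' M', Cfsg.Omega]
    haveI : Fact (Nat.Prime 2) := ⟨Nat.prime_two⟩
    haveI : IsCyclic (↥(Cfsg.isometryGroup (ZMod 2) Q8) ⧸ M') := isCyclic_of_prime_card (p := 2) hidx'
    letI : CommGroup (↥(Cfsg.isometryGroup (ZMod 2) Q8) ⧸ M') := IsCyclic.commGroup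
    exact Abelianization.commutator_subset_ker _
  have heq : M' = Cfsg.Omega (ZMod 2) Q8 := by
    refine (Subgroup.eq_of_le_of_card_ge hcomm ?_).symm
    have h := M'.index_mul_card
    rw [hidx', card_iso_eight] at h
    rw [omega_eight_facts.1]
    omega
  exact ⟨((Subgroup.subgroupOfEquivOfLe hle).symm.trans (M.equivMapOfInjective e.toMonoidHom e.injective)).trans
    (MulEquiv.subgroupCongr heq)⟩

/-- The fixed subgroup of the outer involution. -/
theorem cs_iso : Nonempty (↥CS ≃* MulAut ↥(Cfsg.Omega (ZMod 2) Q8)) := by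
  obtain ⟨e⟩ := ker_iso
  let f : CS →* MulAut ↥classHom.ker := MulAut.conjNormal
  have hinj : Function.Injective f := by
    rw [injective_iff_map_eq_one]
    intro g hg
    refine centralizer_ker fun n hn => ?_
    have h := congrArg (fun φ : MulAut ↥classHom.ker => ((φ ⟨n, hn⟩ : classHom.ker) : CS)) hg
    simpa [f] using h
  haveI : Finite (MulAut ↥classHom.ker) :=
    Finite.of_injective (fun φ : MulAut ↥classHom.ker => (φ : ↥classHom.ker → ↥classHom.ker))
      fun x y r => MulEquiv.ext (congrFun r)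
  have hcard : Nat.card CS = Nat.card (MulAut ↥classHom.ker) := by
    rw [card_CS, Nat.card_congr (MulAut.congr e).toEquiv, card_aut_omega_eight]
  exact ⟨(MulEquiv.ofBijective f ((Nat.bijective_iff_injective_and_card f).2 ⟨hinj, hcard⟩)).trans (MulAut.congr e)⟩

end

end CfsgLib.Spor.Fi22OuterInv
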