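/-
The kernel and the image of the action on the blocks, and the classes of its odd involutions.
-/
import Cfsg.Agent.Lib.Spor.Fi22OuterInv.Blocks
import Cfsg.Agent.Lib.Spor.Fi22OuterInv.PlusClass
import Cfsg.Agent.Lib.Spor.Tri.MinusSixAut

set_option autoImplicit false

namespace CfsgLib.Spor.Fi22OuterInv

open CfsgLib.Spor.TC CfsgLib.Spor.Fi22 CfsgLib.Spor.Fi22Out MulAction
open CfsgLib.Spor.PairAut (common commonPts commonW partner pp C0 E0 jg eW witW wv PairSplit)

noncomputable section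

attribute [local instance] actionH

theorem genWord_lt {l : List ℕ} (hl : ∀ i ∈ l, i < 6) : ∀ x ∈ genWord l, x < 9 := by
  intro x hx
  obtain ⟨i, hi, hx⟩ := List.mem_flatMap.1 hx
  have h := List.all_eq_true.1 gens_perm i (List.mem_range.2 (hl i hi))
  simp only [Bool.and_eq_true] at h
  exact allBelow_spec h.1.1 x hx

theorem el_wact {w : List ℕ} (hw : ∀ x ∈ w, x < 9) (y : Pt) : ((el w • y : Pt) : ℕ) = ActH.act.wact w y.1 :=
  el_smul (below_K hw) y

theorem gen_mem {i : ℕ} (hi : i < 6) : el (genW.getD i []) ∈ P2 := by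
  have h := List.all_eq_true.1 gens_perm i (List.mem_range.2 hi)
  simp only [Bool.and_eq_true, Bool.or_eq_true] at h
  have hw := allBelow_spec h.1.1
  rcases h.1.2 with ⟨a, b⟩ | ⟨a, b⟩
  · exact Or.inl ⟨Fin.ext ((el_wact hw pt0).trans (Nat.eq_of_beq_eq_true a)),
      Fin.ext ((el_wact hw pp).trans (Nat.eq_of_beq_eq_true b))⟩
  · exact Or.inr ⟨Fin.ext ((el_wact hw pt0).trans (Nat.eq_of_beq_eq_true a)),
      Fin.ext ((el_wact hw pp).trans (Nat.eq_of_beq_eq_true b))⟩

theorem genWord_mem : ∀ {l : List ℕ}, (∀ i ∈ l, i < 6) → el (genWord l) ∈ P2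
  | [], _ => by rw [show genWord [] = [] from rfl, PairAut.el_nil]; exact one_mem _
  | i :: l, h => by
    rw [show genWord (i :: l) = genW.getD i [] ++ genWord l from List.flatMap_cons, PairAut.el_app]
    exact mul_mem (gen_mem (h i List.mem_cons_self)) (genWord_mem fun k hk => h k (List.mem_cons_of_mem _ hk))

theorem gen_map {i : ℕ} (hi : i < 6) (b : Fin 45) :
    (blockHom ⟨_, gen_mem hi⟩ b).1 = dig (genPerm.getD i 0) b.1 := by
  have h := List.all_eq_true.1 gens_perm i (List.mem_range.2 hi)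
  simp only [Bool.and_eq_true] at h
  have h2 := List.all_eq_true.1 h.2 b.1 (List.mem_range.2 b.2)
  show blkN (el (genW.getD i []) • blkPt b : Pt).1 = _
  rw [el_wact (allBelow_spec h.1.1)]
  exact Nat.eq_of_beq_eq_true h2

theorem genWord_map : ∀ {l : List ℕ} (hl : ∀ i ∈ l, i < 6) (b : Fin 45),
    (blockHom ⟨_, genWord_mem hl⟩ b).1 = permW l b.1
  | [], _, b => by
    rw [show (⟨_, genWord_mem (l := []) (by simp)⟩ : P2) = 1 from Subtype.ext PairAut.el_nil, map_one]
    rfl
  | i :: l, h, b => by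
    have hl : ∀ k ∈ l, k < 6 := fun k hk => h k (List.mem_cons_of_mem _ hk)
    have hi := h i List.mem_cons_self
    rw [show (⟨_, genWord_mem h⟩ : P2) = ⟨_, gen_mem hi⟩ * ⟨_, genWord_mem hl⟩ from
      Subtype.ext ((congrArg el List.flatMap_cons).trans (PairAut.el_app _ _)), map_mul, Equiv.Perm.mul_apply, gen_map hi,
      genWord_map hl]
    rfl

/-- An odd element naming one of the two involutions. -/
def repElt (j : Fin 2) : P2 := ⟨el (genWord (repL.getD j.1 [])), genWord_mem (rep_lt j)⟩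
where
  rep_lt : ∀ j : Fin 2, ∀ i ∈ repL.getD j.1 [], i < 6 := by decide +kernel

theorem repElt_flips (j : Fin 2) : (repElt j : Gp) • pt0 = pp := by
  have h := List.all_eq_true.1 rep_ok j.1 (List.mem_range.2 j.2)
  simp only [Bool.and_eq_true, List.all_eq_true] at h
  refine Fin.ext ?_
  show (el (genWord (repL.getD j.1 [])) • pt0 : Pt).1 = partner
  rw [el_wact (genWord_lt fun i hi => Nat.le_of_ble_eq_true (h.1 i hi))]
  exact Nat.eq_of_beq_eq_true h.2

theorem blocks_transitive (b : Fin 45) : ∃ g : P2, blockHom g 0 = b := by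
  obtain ⟨hlen, htree, hcov⟩ := moves_ok
  have key : ∀ t, t < 44 → ∀ b : Fin 45, b.1 = (blkMoves.getD t (0, 0, 0)).1 → ∃ g : P2, blockHom g 0 = b := by
    intro t
    induction t using Nat.strong_induction_on with
    | _ t ih =>
      intro ht b hb
      have he := List.all_eq_true.1 htree t (List.mem_range.2 ht)
      simp only [Bool.and_eq_true, Bool.or_eq_true, List.contains_eq_mem, decide_eq_true_eq] at he
      obtain ⟨⟨⟨⟨-, hi⟩, hp⟩, he4⟩, he5⟩ := he
      let c : Fin 45 := ⟨_, Nat.le_of_ble_eq_true hp⟩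
      obtain ⟨g, hg⟩ : ∃ g : P2, blockHom g 0 = c := by
        rcases he5 with r | r
        · exact ⟨1, by rw [map_one]; exact Fin.ext (Nat.eq_of_beq_eq_true r).symm⟩
        · obtain ⟨e', he', r'⟩ := List.mem_map.1 r
          obtain ⟨q, hq, rfl⟩ := List.mem_iff_getElem.1 he'
          rw [List.length_take] at hq
          refine ih q (by omega) (by omega) c ?_
          show (blkMoves.getD t (0, 0, 0)).2.2 = _
          rw [← r', List.getElem_take, List.getD_eq_getElem _ _ (by omega)]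
      refine ⟨⟨_, gen_mem (Nat.le_of_ble_eq_true hi)⟩ * g, ?_⟩
      rw [map_mul, Equiv.Perm.mul_apply, hg]
      exact Fin.ext ((gen_map (Nat.le_of_ble_eq_true hi) c).trans ((Nat.eq_of_beq_eq_true he4).trans hb.symm))
  have h := List.all_eq_true.1 hcov b.1 (List.mem_range.2 b.2)
  simp only [Bool.or_eq_true, List.contains_eq_mem, decide_eq_true_eq] at h
  rcases h with r | r
  · exact ⟨1, by rw [map_one]; exact Fin.ext (Nat.eq_of_beq_eq_true r).symm⟩
  · obtain ⟨e', he', r'⟩ := List.mem_map.1 r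
    obtain ⟨q, hq, rfl⟩ := List.mem_iff_getElem.1 he'
    exact key q (hlen ▸ hq) b (by rw [← r', List.getD_eq_getElem _ _ hq])

/-- The elements of the stabiliser of the first block, by their numbers. -/
theorem stab_elt : ∀ t, t < 1152 → ∃ g : P2, (∀ b : Fin 45, (blockHom g b).1 = dig (stabP t) b.1) ∧
    ((g : Gp) • pt0 = pp ↔ stabO t = true) := by
  intro t
  induction t using Nat.strong_induction_on with
  | _ t ih =>
    intro ht
    rcases t with _ | t
    · refine ⟨1, fun b => ?_, ?_⟩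
      · rw [map_one]
        exact (Nat.eq_of_beq_eq_true (List.all_eq_true.1 stab_root.1 b.1 (List.mem_range.2 b.2))).symm
      · rw [stab_root.2.1, Subgroup.coe_one, one_smul]
        exact ⟨fun h => absurd h.symm PairAut.pp_ne, fun h => absurd h (by decide)⟩
    have he := allFrom_spec ((allFromS_eq _ _ _).symm.trans stab_tree) t (Nat.zero_le _) (by omega)
    simp only [treeAt, strict_eq, Bool.and_eq_true, beq_iff_eq, List.all_eq_true, List.mem_range] at he
    obtain ⟨⟨⟨h1, h2⟩, h3⟩, h4⟩ := he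
    have h1' := Nat.le_of_ble_eq_true h1
    obtain ⟨g, hg, hgo⟩ := ih (stabPar (t + 1)) (by omega) (by omega)
    have h2' := Nat.le_of_ble_eq_true h2
    have hs := List.all_eq_true.1 stab_gens _ (List.mem_range.2 h2')
    simp only [Bool.and_eq_true, beq_iff_eq, List.all_eq_true, List.mem_range] at hs
    obtain ⟨⟨s1, s2⟩, s3⟩ := hs
    have hl : ∀ i ∈ stabGenL.getD (stabGen (t + 1)) [], i < 6 := fun i hi => Nat.le_of_ble_eq_true (s1 i hi)
    refine ⟨⟨_, genWord_mem hl⟩ * g, fun b => ?_, ?_⟩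
    · rw [map_mul, Equiv.Perm.mul_apply, genWord_map hl, hg]
      refine (Nat.eq_of_beq_eq_true (s3 _ ?_)).trans (Nat.eq_of_beq_eq_true (h4 b.1 b.2)).symm
      rw [← hg]
      exact (blockHom g b).2
    · rw [Subgroup.coe_mul, flips_mul (genWord_mem hl) g.2, hgo, h3]
      have e : el (genWord (stabGenL.getD (stabGen (t + 1)) [])) • pt0 = pp ↔
          stabGenOdd.getD (stabGen (t + 1)) false = true := by
        rw [Fin.ext_iff, el_wact (genWord_lt hl)]
        show ActH.act.wact _ 0 = partner ↔ _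
        rw [s2]
        cases stabGenOdd.getD (stabGen (t + 1)) false
        · simp [pt0, partner]
        · simp
      rw [e]
      cases stabGenOdd.getD (stabGen (t + 1)) false <;>
        cases stabO (stabPar (t + 1)) <;> simp

theorem eq_of_dig {c d : ℕ} (hc : c < 2 ^ 270) (hd : d < 2 ^ 270) (h : ∀ b < 45, dig c b = dig d b) : c = d := by
  refine Nat.eq_of_testBit_eq fun i => ?_
  by_cases hi : i < 270
  · have e := congrArg (fun m => m.testBit (i % 6)) (h (i / 6) (by omega))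
    have h63 : Nat.testBit 63 (i % 6) = true := by
      have : i % 6 < 6 := Nat.mod_lt _ (by norm_num)
      interval_cases (i % 6) <;> decide
    simp only [dig, Nat.testBit_and, Nat.testBit_shiftRight, h63, Bool.and_true] at e
    rwa [Nat.div_add_mod] at e
  · have hp : (2 : ℕ) ^ 270 ≤ 2 ^ i := Nat.pow_le_pow_right (by norm_num) (Nat.not_lt.1 hi)
    rw [Nat.testBit_lt_two_pow (hc.trans_le hp), Nat.testBit_lt_two_pow (hd.trans_le hp)]

variable {F : Type} [Field F] [Fintype F] (hF : Fintype.card F = 4) (hp : PairSplit)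
  (φ : ↥C0 →* MulAut (Cfsg.PSU 4 F 2)) (hφs : Function.Surjective φ) (hφk : Nat.card φ.ker = 1024)

theorem P2_le : P2 ≤ C0 := by
  intro g hg
  rw [PairAut.mem_C0, ← mul_inv_eq_iff_eq_mul]
  have e : g * jg * g⁻¹ = (g * trp pt0 * g⁻¹) * (g * trp pp * g⁻¹) := by
    rw [PairAut.jg_eq, trp_pt0]; group
  rw [e, conj_trp, conj_trp, PairAut.jg_eq]
  rcases hg with ⟨a, b⟩ | ⟨a, b⟩ <;> rw [a, b, trp_pt0]
  exact PairAut.comm_pair.eq.symm

include hp in
theorem le_P2 : C0 ≤ P2 := by
  intro g hg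
  rcases hp g hg with ⟨a, b⟩ | ⟨a, b⟩ <;> rw [← trp_pt0, conj_trp] at a <;> rw [conj_trp] at b
  · exact Or.inl ⟨trp_inj a, trp_inj b⟩
  · exact Or.inr ⟨trp_inj a, trp_inj (b.trans trp_pt0.symm)⟩

theorem E0_blocks : ∀ e ∈ E0, ∃ h : e ∈ P2, blockHom ⟨e, h⟩ = 1 := by
  have hk : ∀ k < 10, ∃ h : el (eW.getD k []) ∈ P2, blockHom ⟨_, h⟩ = 1 := by
    intro k hk
    have h := List.all_eq_true.1 kernel_blocks.1 k (List.mem_range.2 hk)
    simp only [Bool.and_eq_true] at h
    obtain ⟨⟨⟨h1, h2⟩, h3⟩, h4⟩ := h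
    have hw := allBelow_spec h1
    refine ⟨Or.inl ⟨Fin.ext ((el_wact hw pt0).trans (Nat.eq_of_beq_eq_true h2)),
      Fin.ext ((el_wact hw pp).trans (Nat.eq_of_beq_eq_true h3))⟩, Equiv.ext fun b => Fin.ext ?_⟩
    show blkN (el (eW.getD k []) • blkPt b : Pt).1 = b.1
    rw [el_wact hw]
    exact Nat.eq_of_beq_eq_true (List.all_eq_true.1 h4 b.1 (List.mem_range.2 b.2))
  intro e he
  induction he using Subgroup.closure_induction with
  | mem x hx =>
    rcases hx with rfl | ⟨k, rfl⟩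
    · obtain ⟨h0, e0⟩ := hk 0 (by norm_num)
      obtain ⟨h1, e1⟩ := hk 1 (by norm_num)
      have ej : jg = el (eW.getD 0 []) * el (eW.getD 1 []) := by
        rw [PairAut.eq_of_same PairAut.pair_ok.2.2.2.1, PairAut.eq_of_same PairAut.pair_ok.2.2.1, ← PairAut.trp_pp,
          PairAut.el_single, PairAut.let_zero, PairAut.jg_eq]
      refine ⟨ej ▸ mul_mem h0 h1, ?_⟩
      rw [show (⟨jg, ej ▸ mul_mem h0 h1⟩ : P2) = ⟨_, h0⟩ * ⟨_, h1⟩ from Subtype.ext ej, map_mul, e0, e1, one_mul]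
    · exact hk _ (PairAut.eIdx_lt k.2)
  | one =>
    refine ⟨one_mem _, ?_⟩
    rw [show (⟨1, one_mem _⟩ : P2) = 1 from Subtype.ext rfl, map_one]
  | mul x y _ _ hx hy =>
    obtain ⟨a, ha⟩ := hx
    obtain ⟨b, hb⟩ := hy
    refine ⟨mul_mem a b, ?_⟩
    rw [show (⟨x * y, mul_mem a b⟩ : P2) = ⟨x, a⟩ * ⟨y, b⟩ from Subtype.ext rfl, map_mul, ha, hb, one_mul]
  | inv x _ hx =>
    obtain ⟨a, ha⟩ := hx
    refine ⟨inv_mem a, ?_⟩
    rw [show (⟨x⁻¹, inv_mem a⟩ : P2) = ⟨x, a⟩⁻¹ from Subtype.ext rfl, map_inv, ha, inv_one]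

theorem E0_fix {e : Gp} (he : e ∈ E0) : e • pt0 = pt0 := by
  induction he using Subgroup.closure_induction with
  | mem x hx =>
    rcases hx with rfl | ⟨k, rfl⟩
    · rw [PairAut.jg_eq, mul_smul, (trp_fix_comm pp pt0).2 ?_, ← trp_pt0, trp_self]
      exact (commute_trp_iff _ _).1 (trp_pt0.symm ▸ PairAut.comm_pair)
    · have h := List.all_eq_true.1 kernel_blocks.1 _ (List.mem_range.2 (PairAut.eIdx_lt k.2))
      simp only [Bool.and_eq_true] at h
      exact Fin.ext ((el_wact (allBelow_spec h.1.1.1) pt0).trans (Nat.eq_of_beq_eq_true h.1.1.2))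
  | one => exact one_smul _ _
  | mul x y _ _ hx hy => rw [mul_smul, hy, hx]
  | inv x _ hx => exact inv_smul_eq_iff.2 hx.symm

include hF hp hφs hφk in
theorem mem_E0_iff {g : Gp} (hg : g ∈ P2) : blockHom ⟨g, hg⟩ = 1 ↔ g ∈ E0 := by
  refine ⟨fun h => ?_, fun h => (E0_blocks g h).snd⟩
  obtain ⟨hS, hc, hcard⟩ := PairAut.psu4_facts hF
  let ψ : ↥C0 →* Equiv.Perm (Fin 45) := blockHom.comp (Subgroup.inclusion (le_P2 hp))
  have hEK : ∀ e (he : e ∈ E0), (⟨e, PairAut.e0_le he⟩ : ↥C0) ∈ ψ.ker := fun e he => (E0_blocks e he).snd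
  have hle : ψ.ker ≤ φ.ker := by
    rcases PairAut.eq_bot_or_inner_le hc (ψ.ker.map φ) (fun q k hk => by
      obtain ⟨x, hx, rfl⟩ := hk
      obtain ⟨y, hy⟩ := hφs (MulAut.conj q)
      rw [← hy, ← map_mul, ← map_inv, ← map_mul]
      exact ⟨_, (MonoidHom.normal_ker ψ).conj_mem x hx y, rfl⟩) with h2 | h2
    · intro x hx
      have : φ x ∈ ψ.ker.map φ := ⟨x, hx, rfl⟩
      rwa [h2, Subgroup.mem_bot] at this
    · exfalso
      set wc : ↥C0 := ⟨wv, PairAut.hs_le PairAut.wv_mem⟩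
      have hidx : (MulAut.conj : Cfsg.PSU 4 F 2 →* MulAut (Cfsg.PSU 4 F 2)).range.index ≤ 2 := by
        have h1 := (MulAut.conj : Cfsg.PSU 4 F 2 →* MulAut (Cfsg.PSU 4 F 2)).range.card_mul_index
        have h3 := CfsgLib.Spor.Tri.Level.aut_psu4_le (F := F) hF
        rw [PairAut.card_inner hc, hcard] at h1
        omega
      have hw3 : wc ^ 3 = 1 := Subtype.ext PairAut.wv_pow.1
      have hin : φ wc ∈ (MulAut.conj : Cfsg.PSU 4 F 2 →* MulAut (Cfsg.PSU 4 F 2)).range := by
        by_contra hout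
        haveI : (MulAut.conj : Cfsg.PSU 4 F 2 →* MulAut (Cfsg.PSU 4 F 2)).range.Normal :=
          ⟨fun n hn g => by
            obtain ⟨p, rfl⟩ := hn
            exact ⟨g p, (PairAut.aut_conj g p).symm⟩⟩
        have hq : ((φ wc : MulAut (Cfsg.PSU 4 F 2) ⧸ (MulAut.conj : Cfsg.PSU 4 F 2 →* _).range)) ^ 3 = 1 := by
          rw [← QuotientGroup.mk_pow, ← map_pow, hw3, map_one, QuotientGroup.mk_one]
        have hd := orderOf_dvd_of_pow_eq_one hq
        haveI : Finite (MulAut (Cfsg.PSU 4 F 2)) :=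
          Finite.of_injective (fun f : MulAut (Cfsg.PSU 4 F 2) => (f : Cfsg.PSU 4 F 2 → Cfsg.PSU 4 F 2))
            fun x y r => MulEquiv.ext (congrFun r)
        have hpos : 0 < (MulAut.conj : Cfsg.PSU 4 F 2 →* MulAut (Cfsg.PSU 4 F 2)).range.index :=
          Nat.pos_of_ne_zero Subgroup.index_ne_zero_of_finite
        rcases (Nat.dvd_prime Nat.prime_three).1 hd with r | r
        · exact hout ((QuotientGroup.eq_one_iff _).1 (orderOf_eq_one_iff.1 r))
        · have h4 := Nat.le_of_dvd hpos (r ▸ (orderOf_dvd_natCard _).trans (dvd_of_eq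
            (MulAut.conj : Cfsg.PSU 4 F 2 →* MulAut (Cfsg.PSU 4 F 2)).range.index_eq_card.symm))
          omega
      obtain ⟨s, hs, hse⟩ := h2 hin
      have hm : (s : Gp)⁻¹ * wv ∈ E0 := (PairAut.mem_e0_iff hF hp φ hφs hφk
        (mul_mem (inv_mem s.2) wc.2)).1 (by
          rw [show (⟨(s : Gp)⁻¹ * wv, _⟩ : ↥C0) = s⁻¹ * wc from rfl, map_mul, map_inv, hse, inv_mul_cancel])
      have hwK : wc ∈ ψ.ker := by
        have e : wc = s * ⟨_, PairAut.e0_le hm⟩ := Subtype.ext (mul_inv_cancel_left (s : Gp) wv).symm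
        rw [e]
        exact mul_mem hs (hEK _ hm)
      obtain ⟨b, hb, hne⟩ := List.any_eq_true.1 kernel_blocks.2
      have hb' := List.mem_range.1 hb
      rw [Bool.not_eq_true'] at hne
      have e2 : (ψ wc ⟨b, hb'⟩).1 = b := by rw [MonoidHom.mem_ker.1 hwK]; rfl
      have hw : ∀ x ∈ witW, x < 9 := witW_lt
      have e3 : (ψ wc ⟨b, hb'⟩).1 = blkN (ActH.act.wact witW (blkReps.getD b 0)) :=
        congrArg blkN (el_wact hw (blkPt ⟨b, hb'⟩))
      rw [e3] at e2
      rw [e2, Nat.beq_refl] at hne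
      exact absurd hne (by decide)
  exact (PairAut.mem_e0_iff hF hp φ hφs hφk (P2_le hg)).1 (hle (x := ⟨g, P2_le hg⟩) h)
where
  witW_lt : ∀ x ∈ witW, x < 9 := by decide +kernel

include hF hp hφs hφk in
theorem card_image : Nat.card blockHom.range = 51840 := by
  have hC : P2 = C0 := le_antisymm P2_le (le_P2 hp)
  have hk : blockHom.ker = E0.subgroupOf P2 := by
    ext g
    rw [MonoidHom.mem_ker, Subgroup.mem_subgroupOf]
    exact mem_E0_iff hF hp φ hφs hφk g.2
  have h1 : Nat.card blockHom.ker = 1024 := by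
    rw [hk, ← hφk, ← PairAut.e0_eq_ker hF hp φ hφs hφk,
      Nat.card_congr (Subgroup.subgroupOfEquivOfLe (fun x hx => (E0_blocks x hx).fst)).toEquiv,
      Nat.card_congr (Subgroup.subgroupOfEquivOfLe PairAut.e0_le).toEquiv]
  have h2 := blockHom.ker.card_mul_index
  have hPC : Nat.card P2 = Nat.card C0 := by rw [hC]
  rw [Subgroup.index_ker, h1, hPC] at h2
  have h3 := φ.ker.card_mul_index
  rw [Subgroup.index_ker, MonoidHom.range_eq_top.2 hφs, Subgroup.card_top, hφk] at h3
  have hA : Nat.card (MulAut (Cfsg.PSU 4 F 2)) = 51840 := by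
    obtain ⟨e⟩ := CfsgLib.Spor.Tri.Level.minus_six_aut (F := F) hF
    rw [← Nat.card_congr e.toEquiv, CfsgLib.Classical.card_iso_minus (by decide) 2, ZMod.card]
    decide
  omega

include hF hp hφs hφk in
theorem stab_complete {σ : Equiv.Perm (Fin 45)} (hσ : σ ∈ blockHom.range) (h0 : σ 0 = 0) :
    ∃ t < 1152, ∀ b : Fin 45, (σ b).1 = dig (stabP t) b.1 := by
  choose g hg using fun t : Fin 1152 => stab_elt t.1 t.2
  have hroot : ∀ t : Fin 1152, dig (stabP t.1) 0 = 0 ∧ stabOrd (stabRank t.1) = t.1 ∧ stabRank t.1 < 1152 ∧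
      stabP t.1 < 2 ^ 270 := fun t => by
    have h := allFrom_spec ((allFromS_eq _ _ _).symm.trans stab_root.2.2.1) t.1 (Nat.zero_le _) (by omega)
    simp only [Bool.and_eq_true] at h
    exact ⟨Nat.eq_of_beq_eq_true h.1.1.1, Nat.eq_of_beq_eq_true h.1.1.2, Nat.le_of_ble_eq_true h.1.2,
      Nat.le_of_ble_eq_true h.2⟩
  have hg0 : ∀ t, blockHom (g t) 0 = 0 := fun t => Fin.ext (((hg t).1 0).trans (hroot t).1)
  let S := MulAction.stabilizer blockHom.range (0 : Fin 45)
  let f : Fin 1152 → S := fun t => ⟨⟨blockHom (g t), ⟨g t, rfl⟩⟩, hg0 t⟩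
  have hS : Nat.card S = 1152 := by
    have h := S.index_mul_card
    rw [card_image hF hp φ hφs hφk, MulAction.index_stabilizer,
      show MulAction.orbit blockHom.range (0 : Fin 45) = Set.univ from Set.eq_univ_of_forall fun b => by
        obtain ⟨k, hk⟩ := blocks_transitive b
        exact ⟨⟨blockHom k, k, rfl⟩, hk⟩, Set.ncard_univ, Nat.card_fin] at h
    omega
  have hinj : Function.Injective f := fun t u h => by
    have e : blockHom (g t) = blockHom (g u) := congrArg (fun z : S => (z.1.1 : Equiv.Perm (Fin 45))) h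
    have he : stabP t.1 = stabP u.1 :=
      eq_of_dig (hroot t).2.2.2 (hroot u).2.2.2 fun b hb => by
        rw [← (hg t).1 ⟨b, hb⟩, ← (hg u).1 ⟨b, hb⟩, e]
    have hmono : ∀ r s, r < s → s < 1152 →
        stabP (stabOrd r) < stabP (stabOrd s) := by
      intro r s hrs hs
      induction s with
      | zero => omega
      | succ m ih =>
        have hstep : stabP (stabOrd m) < stabP (stabOrd (m + 1)) :=
          Nat.le_of_ble_eq_true (allFrom_spec ((allFromS_eq _ _ _).symm.trans stab_root.2.2.2) m (Nat.zero_le _) (by omega))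
        rcases Nat.lt_or_ge r m with r' | r'
        · exact (ih r' (by omega)).trans hstep
        · obtain rfl : r = m := by omega
          exact hstep
    have et := (hroot t).2.1
    have eu := (hroot u).2.1
    rw [← et, ← eu] at he
    rcases Nat.lt_trichotomy (stabRank t.1) (stabRank u.1) with r | r | r
    · exact absurd he (hmono _ _ r (hroot u).2.2.1).ne
    · exact Fin.ext (et.symm.trans ((congrArg (fun z => stabOrd z) r).trans eu))
    · exact absurd he (hmono _ _ r (hroot t).2.2.1).ne'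
  haveI : Finite S := Nat.finite_of_card_ne_zero (by rw [hS]; norm_num)
  obtain ⟨t, ht⟩ := ((Nat.bijective_iff_injective_and_card f).2 ⟨hinj, by rw [hS, Nat.card_fin]⟩).2 ⟨⟨σ, hσ⟩, h0⟩
  refine ⟨t.1, t.2, fun b => ?_⟩
  rw [← (hg t).1 b]
  exact congrArg (fun z : S => ((z.1.1 : Equiv.Perm (Fin 45)) b).1) ht.symm

include hF hp hφs hφk in
/-- An odd element acting as an involution is conjugate to one of the two, up to the kernel. -/
theorem exists_block_conj {c : P2} (hc : (c : Gp) • pt0 = pp) (h2 : blockHom c * blockHom c = 1) :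
    ∃ (x : P2) (j : Fin 2), blockHom (x * c * x⁻¹) = blockHom (repElt j) := by
  obtain ⟨b, hb⟩ := Equiv.Perm.exists_fixed_point_of_prime (p := 2) (n := 1) (hp := ⟨Nat.prime_two⟩)
    (by simp) (σ := blockHom c) (by rw [pow_one, pow_two, h2])
  obtain ⟨g, hg⟩ := blocks_transitive b
  let d : P2 := g⁻¹ * c * g
  have hd0 : blockHom d 0 = 0 := by
    simp only [d, map_mul, map_inv, Equiv.Perm.mul_apply, hg, hb]
    rw [← hg, Equiv.Perm.inv_def, Equiv.symm_apply_apply]
  obtain ⟨t, ht, hdt⟩ := stab_complete hF hp φ hφs hφk ⟨d, rfl⟩ hd0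
  have hd2 : ∀ b, blockHom d (blockHom d b) = b := fun b => by
    rw [← Equiv.Perm.mul_apply, ← map_mul, show d * d = g⁻¹ * (c * c) * g by simp only [d]; group, map_mul, map_mul,
      map_mul, h2, mul_one, ← map_mul, inv_mul_cancel, map_one, Equiv.Perm.one_apply]
  have hodd : stabO t = true := by
    obtain ⟨k, hk, hko⟩ := stab_elt t ht
    rw [← hko]
    have e : blockHom (d⁻¹ * k) = 1 := by
      rw [map_mul, map_inv, inv_mul_eq_one]
      exact Equiv.ext fun b => Fin.ext ((hdt b).trans (hk b).symm)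
    have hE := (mem_E0_iff hF hp φ hφs hφk (d⁻¹ * k).2).1 e
    have hEf : ∀ e ∈ E0, e • pt0 = pt0 := fun e he => E0_fix he
    have hdf : (d : Gp) • pt0 = pp := by
      show ((g⁻¹ * c * g : P2) : Gp) • pt0 = pp
      rw [Subgroup.coe_mul, Subgroup.coe_mul, flips_mul (mul_mem (g⁻¹).2 c.2) g.2, flips_mul (g⁻¹).2 c.2,
        iff_true_right hc]
      have hi : ((g⁻¹ : P2) : Gp) • pt0 = pp ↔ (g : Gp) • pt0 = pp := by
        rcases g.2 with ⟨a, b⟩ | ⟨a, b⟩
        · simp [inv_smul_eq_iff, a, b, PairAut.pp_ne.symm]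
        · simp [inv_smul_eq_iff, a, b]
      rw [hi]
      exact not_iff_self
    calc (k : Gp) • pt0 = (d : Gp) • ((d⁻¹ * k : P2) : Gp) • pt0 := by
          rw [← mul_smul, ← Subgroup.coe_mul, mul_inv_cancel_left]
      _ = pp := by rw [hEf _ hE, hdf]
  have h := allFrom_spec ((allFromS_eq _ _ _).symm.trans stab_conj) t (Nat.zero_le _) (by omega)
  simp only [conjAt, strict_eq, hodd, Bool.not_true, Bool.false_or, Bool.or_eq_true] at h
  rcases h with h | h
  · exfalso
    obtain ⟨a, ha, hne⟩ := List.any_eq_true.1 h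
    rw [Bool.not_eq_true'] at hne
    have e := congrArg Fin.val (hd2 ⟨a, List.mem_range.1 ha⟩)
    rw [hdt, hdt] at e
    rw [e, Nat.beq_refl] at hne
    exact absurd hne (by decide)
  obtain ⟨e, -, he⟩ := List.any_eq_true.1 h
  simp only [Bool.and_eq_true, List.all_eq_true, List.mem_range] at he
  obtain ⟨⟨⟨-, hj⟩, hx⟩, heq⟩ := he
  let j : Fin 2 := ⟨_, Nat.le_of_ble_eq_true hj⟩
  have hl : ∀ i ∈ e.2.2, i < 6 := fun i hi => Nat.le_of_ble_eq_true (hx i hi)
  let y : P2 := ⟨_, genWord_mem hl⟩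
  refine ⟨y * g⁻¹, j, ?_⟩
  rw [show y * g⁻¹ * c * (y * g⁻¹)⁻¹ = y * d * y⁻¹ by simp only [d]; group, map_mul, map_inv, mul_inv_eq_iff_eq_mul,
    map_mul]
  refine Equiv.ext fun b => Fin.ext ?_
  rw [Equiv.Perm.mul_apply, Equiv.Perm.mul_apply]
  show (blockHom y (blockHom d b)).1 = (blockHom (repElt j) (blockHom y b)).1
  rw [genWord_map hl, hdt, show repElt j = ⟨_, genWord_mem (repElt.rep_lt j)⟩ from rfl, genWord_map (repElt.rep_lt j),
    genWord_map hl]
  exact Nat.eq_of_beq_eq_true (heq b.1 b.2)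

end

end CfsgLib.Spor.Fi22OuterInv
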