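/-
The fixed points of the third involution, by kernel evaluation.
-/
import Cfsg.Agent.Lib.Spor.Fi22OuterInv.CentChecks

set_option autoImplicit false
set_option maxRecDepth 100000
set_option maxHeartbeats 0

namespace CfsgLib.Spor.Fi22OuterInv

open CfsgLib.Spor.TC

/-- The table of the third involution. -/
noncomputable def fTwo (c : ℕ) : ℕ := tauN (act1 aW (act1 bW c))

theorem fTwo_invol : allFrom (fun c => Nat.beq (fTwo (fTwo c)) c &&
    (Nat.beq (fTwo c) c == !Nat.beq (minus_tbl.get 16 c) 0)) 0 3510 = true := by decide +kernel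

/-- The rigid set of the third involution. -/
noncomputable def rigidTwo : RigidData :=
  ⟨minus_pts, minus_words, qsTwo, qsWTwo, qsLinkTwo, qsGensTwo, qsPatTwo, fTwo⟩

theorem rigidTwo_ok : rigidTwo.ok = true := by decide +kernel

/-- The other member of a fibre. -/
def mateN (i : ℕ) : ℕ := minus_pts.getD (2 * i + 1) 0

theorem fibre_ok : allFrom (fun c => Nat.beq (minus_tbl.get 16 c) 0 ||
    Nat.beq (minus_reps.getD (minus_tbl.get 16 c - 1) 0) c || Nat.beq (mateN (minus_tbl.get 16 c - 1)) c) 0 3510 = true ∧
    ((List.range 36).all fun i => Nat.blt (mateN i) 3510 && Nat.beq (minus_tbl.get 16 (mateN i)) (i + 1) &&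
      !Nat.beq (mateN i) (minus_reps.getD i 0)) = true := by decide +kernel

theorem minus_com : ((List.range 72).all fun u => (List.range 72).all fun v =>
    let q := minus_pts.getD v 0
    Nat.beq (act1 (minus_words.getD u []) q) q ==
      !minusB (minus_codes.getD (minus_tbl.get 16 (minus_pts.getD u 0) - 1) 0) (minus_codes.getD (minus_tbl.get 16 q - 1) 0))
      = true ∧ minus_pts.length = 72 := by decide +kernel

theorem starts_basis : ∀ j ∈ minus_starts, ∃ c : Fin 6, minus_bidx.getD c.1 0 = j := by decide +kernel

theorem basis_move : ((List.range 6).all fun d => (List.range 6).all fun c =>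
    let i := minus_bidx.getD d 0
    let q := minus_reps.getD (minus_bidx.getD c 0) 0
    Nat.beq (minus_pts.getD (2 * i) 0) (minus_reps.getD i 0) && Nat.blt (2 * i + 1) 72 &&
      (!minusB (minus_codes.getD i 0) (minus_codes.getD (minus_bidx.getD c 0) 0) ||
        !Nat.beq (act1 (minus_words.getD (2 * i) []) q) (act1 (minus_words.getD (2 * i + 1) []) q))) = true := by
  decide +kernel

end CfsgLib.Spor.Fi22OuterInv
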