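/-
The fixed points of the second involution, by kernel evaluation.
-/
import Cfsg.Agent.Lib.Spor.Fi22OuterInv.CentChecks

set_option autoImplicit false
set_option maxRecDepth 100000
set_option maxHeartbeats 0

namespace CfsgLib.Spor.Fi22OuterInv

open CfsgLib.Spor.TC

/-- The table of the second involution. -/
noncomputable def fOne (c : ℕ) : ℕ := tauN (act1 aW c)

theorem symp_fixed : allFrom (fun c => (Nat.beq (fOne c) c == (Nat.beq c aPt || !Nat.beq (symp_tbl.get 16 c) 0)) &&
    (Nat.beq (symp_tbl.get 16 c) 0 || (Nat.beq (compN c) 1 && Nat.beq (act1 aW c) c && !Nat.beq c aPt))) 0 3510 = true := by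
  decide +kernel

theorem symp_noncentral : ((List.range 63).all fun i => (List.range 63).any fun j =>
    !Nat.beq (act1 (symp_words.getD j []) (symp_reps.getD i 0)) (symp_reps.getD i 0)) = true ∧ symp_pts.length = 63 := by
  decide +kernel

theorem mid_ok : Nat.blt midPt 3510 = true ∧ Nat.beq (plus_tbl.get 16 midPt) 0 = false ∧
    Nat.beq (act1 aW midPt) midPt = false ∧
    ((List.range 8).all fun c => let q := plus_reps.getD (plus_bidx.getD c 0) 0
      Nat.beq q aPt || Nat.beq q midPt || !Nat.beq (symp_tbl.get 16 q) 0) = true := by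
  decide +kernel

/-- Whether two points commute in the same way with a member. -/
noncomputable def sameCom (w : List ℕ) (x y : ℕ) : Bool := Nat.beq (act1 w x) x == Nat.beq (act1 w y) y

theorem mid_pair : allFrom (fun c => Nat.beq (plus_tbl.get 16 c) 0 || Nat.beq c midPt || Nat.beq c (act1 aW midPt) ||
    !(sameCom aW c midPt && (List.range 63).all fun j => sameCom (symp_words.getD j []) c midPt)) 0 3510 = true := by
  decide +kernel

end CfsgLib.Spor.Fi22OuterInv
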