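/-
The numbers of points fixed by the three involutions, by kernel evaluation.
-/
import Cfsg.Agent.Lib.Spor.Fi22OuterInv.SympChecks
import Cfsg.Agent.Lib.Spor.Fi22OuterInv.MinusChecks

set_option autoImplicit false
set_option maxRecDepth 100000
set_option maxHeartbeats 0

namespace CfsgLib.Spor.Fi22OuterInv

open CfsgLib.Spor.TC

/-- The number of points fixed by a table. -/
noncomputable def fixCount (f : ℕ → ℕ) : ℕ := ((List.range 3510).filter fun c => Nat.beq (f c) c).length

theorem fix_counts : fixCount tauN = 360 ∧ fixCount fOne = 64 ∧ fixCount fTwo = 72 := by decide +kernel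

end CfsgLib.Spor.Fi22OuterInv
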