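/-
The second involution: its fixed subgroup is the centralizer of a fixed transposition, a product of a group of
order two and the symplectic group in dimension six.
-/
import Cfsg.Agent.Lib.Spor.Fi22OuterInv.PlusClass
import Cfsg.Agent.Lib.Spor.Fi22OuterInv.SympChecks
import Cfsg.Agent.Lib.Classical.SpOrder
import Cfsg.Agent.Lib.Sp.AutFour

set_option autoImplicit false

namespace CfsgLib.Spor.Fi22OuterInv

open CfsgLib.Spor.TC CfsgLib.Spor.Fi22 CfsgLib.Spor.Fi22Out MulAction

noncomputable section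

attribute [local instance] actionH

/-- The outer involution composed with an inner automorphism. -/
def outerAut (g : Gp) : MulAut Gp := PairAut.tau * MulAut.conj g

theorem outerAut_table (g : Gp) : HasTable (outerAut g) fun x => tauP (g • x) := fun x => by
  show PairAut.tau (g * trp x * g⁻¹) = _
  rw [conj_trp, tau_trp]

theorem ptA_carrier : ptA ∈ plusSys.carrier := plus_mem_iff.2 comp_a

theorem trp_a_CS : trp ptA ∈ CS := trp_mem_CS (fixed_of_plus ptA_carrier)

theorem fOne_spec (x : Pt) : (tauP (trp ptA • x)).1 = fOne x.1 := by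
  show tauN (trp ptA • x : Pt).1 = _
  rw [ptA_act]
  rfl

theorem symp_facts (x : Pt) : (tauP (trp ptA • x) = x ↔ x = ptA ∨ x ∈ sympSys.carrier) ∧
    (x ∈ sympSys.carrier → x ∈ plusSys.carrier ∧ trp ptA • x = x ∧ x ≠ ptA) := by
  have h := allFrom_spec symp_fixed x.1 (Nat.zero_le _) (by have := pt_n x; omega)
  simp only [Bool.and_eq_true, beq_iff_eq] at h
  obtain ⟨h1, h2⟩ := h
  constructor
  · rw [Fin.ext_iff, fOne_spec, Fin.ext_iff, ptA_val]
    show _ ↔ _ ∨ symp_tbl.get 16 x.1 ≠ 0
    rw [← Nat.beq_eq, h1]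
    simp only [Bool.or_eq_true, Nat.beq_eq, Bool.not_eq_true', ← Bool.not_eq_true]
  · intro hx
    have e : Nat.beq (symp_tbl.get 16 x.1) 0 = false := Bool.eq_false_iff.2 fun r => hx (Nat.eq_of_beq_eq_true r)
    simp only [e, Bool.false_or, Bool.and_eq_true, Bool.not_eq_true'] at h2
    refine ⟨plus_mem_iff.2 (Nat.eq_of_beq_eq_true h2.1.1), Fin.ext ?_, fun r => ?_⟩
    · rw [ptA_act]; exact Nat.eq_of_beq_eq_true h2.1.2
    · rw [r, ptA_val, Nat.beq_refl] at h2
      exact absurd h2.2 (by decide)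

theorem symp_noncentral_pt {x : Pt} (hx : x ∈ sympSys.carrier) :
    ∃ y ∈ sympSys.carrier, trp y • x ≠ x := by
  have hi := List.all_eq_true.1 symp_noncentral.1 (sympSys.ix ⟨x, hx⟩).1 (List.mem_range.2 (sympSys.ix ⟨x, hx⟩).2)
  simp only [List.any_eq_true, List.mem_range, Bool.not_eq_true'] at hi
  obtain ⟨j, hj, hne⟩ := hi
  have hj' : j < sympSys.D.pts.length := symp_noncentral.2.symm ▸ hj
  obtain ⟨hw, hw0, hlt⟩ := sympSys.facts.2.1 j hj'
  refine ⟨⟨_, hlt⟩, sympSys.facts.2.2.2.1 j hj', fun h => ?_⟩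
  have hrep : symp_reps.getD (sympSys.ix ⟨x, hx⟩).1 0 = x.1 := by
    have h2 := allFrom_spec symp_inj x.1 (Nat.zero_le _) (by have := pt_n x; omega)
    simp only [Bool.or_eq_true] at h2
    exact Nat.eq_of_beq_eq_true (h2.resolve_left fun r => hx (Nat.eq_of_beq_eq_true r))
  have e : act1 (symp_words.getD j []) x.1 = x.1 := (act1_smul hw hw0 x).symm.trans (congrArg Fin.val h)
  rw [hrep, e, Nat.beq_refl] at hne
  exact absurd hne (by decide)

/-- The fixed subgroup of the second involution. -/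
theorem fix_one (g : Gp) : outerAut (trp ptA) g = g ↔ g ∈ CS ⊓ Subgroup.centralizer ({trp ptA} : Set Gp) := by
  have hT := outerAut_table (trp ptA)
  constructor
  · intro hg
    have hf := (hT.fix_iff g).1 hg
    have hF : ∀ {x : Pt}, (x = ptA ∨ x ∈ sympSys.carrier) → (g • x = ptA ∨ g • x ∈ sympSys.carrier) := fun {x} hx => by
      rw [← (symp_facts _).1] at hx ⊢
      rw [hf x, hx]
    have hga : g • ptA = ptA := by
      rcases hF (x := ptA) (Or.inl rfl) with h | h
      · exact h
      exfalso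
      obtain ⟨y, hy, hne⟩ := symp_noncentral_pt h
      apply hne
      have hinv : outerAut (trp ptA) g⁻¹ = g⁻¹ := by rw [map_inv, hg]
      have hf' := (hT.fix_iff g⁻¹).1 hinv
      have hy' : g⁻¹ • y = ptA ∨ g⁻¹ • y ∈ sympSys.carrier := by
        have := (symp_facts y).1.2 (Or.inr hy)
        rw [← (symp_facts _).1, hf' y, this]
      have hcom : trp (g⁻¹ • y) • ptA = ptA := by
        rcases hy' with e | e
        · rw [e, trp_self]
        · obtain ⟨-, h2, -⟩ := (symp_facts _).2 e
          refine trp_inj ?_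
          rw [← conj_trp]
          have h3 : trp ptA * trp (g⁻¹ • y) = trp (g⁻¹ • y) * trp ptA := by
            rw [← mul_inv_eq_iff_eq_mul, conj_trp, h2]
          rw [mul_inv_eq_iff_eq_mul, h3]
      rw [← smul_inv_smul g y, trp_fix_smul, hcom]
    have hcom : g * trp ptA * g⁻¹ = trp ptA := by rw [conj_trp, hga]
    refine ⟨?_, Subgroup.mem_centralizer_singleton_iff.2 (mul_inv_eq_iff_eq_mul.1 hcom)⟩
    show PairAut.tau g = g
    have e : trp ptA * g * (trp ptA)⁻¹ = g := by
      rw [mul_inv_eq_iff_eq_mul]; exact (mul_inv_eq_iff_eq_mul.1 hcom).symm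
    have h2 : PairAut.tau (trp ptA * g * (trp ptA)⁻¹) = g := hg
    rwa [e] at h2
  · rintro ⟨h1, h2⟩
    show PairAut.tau (trp ptA * g * (trp ptA)⁻¹) = g
    rw [show trp ptA * g * (trp ptA)⁻¹ = g by
      rw [mul_inv_eq_iff_eq_mul]; exact (Subgroup.mem_centralizer_singleton_iff.1 h2).symm]
    exact h1

/-- The stabiliser of the chosen point in the stabiliser of its class. -/
def K2 : Subgroup Gp := (MulAction.stabilizer K1 ptA).map K1.subtype

theorem mem_K2 {g : Gp} : g ∈ K2 ↔ g ∈ CS ∧ g • ptA = ptA := by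
  constructor
  · rintro ⟨x, hx, rfl⟩
    exact ⟨(mem_K1.1 x.2).1, hx⟩
  · rintro ⟨hg, hga⟩
    exact ⟨⟨g, mem_K1.2 ⟨hg, (classHom_zero_iff ⟨g, hg⟩ ptA_carrier).2 (by
      show g • ptA ∈ _
      rw [hga]; exact ptA_carrier)⟩⟩, hga, rfl⟩

theorem K2_eq : K2 = CS ⊓ Subgroup.centralizer ({trp ptA} : Set Gp) := by
  ext g
  rw [mem_K2, Subgroup.mem_inf, Subgroup.mem_centralizer_singleton_iff]
  refine and_congr_right fun _ => ⟨fun h => ?_, fun h => trp_inj ?_⟩
  · rw [← mul_inv_eq_iff_eq_mul, conj_trp, h]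
  · rw [← conj_trp, mul_inv_eq_iff_eq_mul]; exact h

theorem card_K2 : Nat.card K2 = 2903040 := by
  have hbij : Function.Bijective plusSys.ix :=
    ⟨fun x y h => plus_ix_inj h, fun i => ⟨plusSys.rep i, plusSys.ix_rep i⟩⟩
  have horb : MulAction.orbit K1 ptA = plusSys.carrier := by
    refine Set.ext fun x => ⟨?_, fun hx => ?_⟩
    · rintro ⟨g, rfl⟩
      exact plus_acts.mem g g.2 _ ptA_carrier
    · obtain ⟨g, hg, hga, -⟩ := exists_move (fixed_of_plus hx)
      exact ⟨⟨g, mem_K1.2 ⟨hg, (classHom_zero_iff ⟨g, hg⟩ ptA_carrier).2 (by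
        show g • ptA ∈ _
        rw [hga]; exact hx)⟩⟩, hga⟩
  have h := (MulAction.stabilizer K1 ptA).index_mul_card
  rw [MulAction.index_stabilizer, horb, ← Nat.card_coe_set_eq, Nat.card_eq_of_bijective _ hbij, Nat.card_fin] at h
  obtain ⟨e⟩ := h1_iso
  have hK1 : Nat.card K1 = 348364800 := by
    rw [K1, Nat.card_congr (H1.equivMapOfInjective CS.subtype CS.subtype_injective).symm.toEquiv,
      Nat.card_congr e.toEquiv, card_iso_eight]
  rw [hK1, show plusSys.D.k = 120 from rfl] at h
  rw [K2, Nat.card_congr ((MulAction.stabilizer K1 ptA).equivMapOfInjective K1.subtype K1.subtype_injective).symm.toEquiv]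
  omega

theorem symp_ix_inj {x y : sympSys.carrier} (h : sympSys.ix x = sympSys.ix y) : x = y := by
  have key : ∀ z : sympSys.carrier, symp_reps.getD (sympSys.ix z).1 0 = z.1.1 := fun z => by
    have h := allFrom_spec symp_inj z.1.1 (Nat.zero_le _) (by have := pt_n z.1; omega)
    simp only [Bool.or_eq_true] at h
    exact Nat.eq_of_beq_eq_true (h.resolve_left fun r => z.2 (Nat.eq_of_beq_eq_true r))
  exact Subtype.ext (Fin.ext ((key x).symm.trans ((congrArg (fun i => symp_reps.getD i.1 0) h).trans (key y))))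

theorem symp_acts : sympSys.Acts K2 where
  mem g hg x hx := by
    have hga := (mem_K2.1 hg).2
    rw [K2_eq, ← fix_one] at hg
    have hf := ((outerAut_table (trp ptA)).fix_iff g).1 hg
    have h1 : g • x = ptA ∨ g • x ∈ sympSys.carrier := by
      rw [← (symp_facts _).1, hf x, (symp_facts x).1.2 (Or.inr hx)]
    refine h1.resolve_left fun e => ((symp_facts x).2 hx).2.2 ?_
    exact smul_left_cancel g (e.trans hga.symm)
  same g hg x y h := by rw [symp_ix_inj h]

theorem symp_dot (x y : Fin 3 ⊕ Fin 3 → ZMod 2) :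
    sympForm6 x y = dotProduct x ((Matrix.J (Fin 3) (ZMod 2)).mulVec y) := by
  simp only [sympForm6, LinearMap.mk₂_apply, Matrix.J, dotProduct, Matrix.mulVec, Fintype.sum_sum_type,
    Matrix.fromBlocks_apply₁₁, Matrix.fromBlocks_apply₁₂, Matrix.fromBlocks_apply₂₁, Matrix.fromBlocks_apply₂₂,
    Matrix.zero_apply, Matrix.neg_apply, Matrix.one_apply, Fin.sum_univ_three]
  simp [ZModModule.neg_eq_self]
  ring

theorem mem_sp_of_form {A : Matrix (Fin 3 ⊕ Fin 3) (Fin 3 ⊕ Fin 3) (ZMod 2)}
    (h : ∀ x y, sympForm6 (A.mulVec x) (A.mulVec y) = sympForm6 x y) : A ∈ Matrix.symplecticGroup (Fin 3) (ZMod 2) := by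
  rw [SymplecticGroup.mem_iff']
  refine Matrix.ext fun i j => ?_
  have h2 := h (Pi.single i 1) (Pi.single j 1)
  rw [symp_dot, symp_dot] at h2
  simp only [Matrix.mulVec_single_one, single_one_dotProduct] at h2
  refine Eq.trans ?_ h2
  rw [Matrix.mul_assoc]
  rfl

/-- The fixed subgroup of the second involution. -/
theorem one_iso : Nonempty (↥K2 ≃* Multiplicative (ZMod 2) × Cfsg.PSp 3 (ZMod 2)) := by
  obtain ⟨ρ, hρ, hform, hker⟩ := Sys.exists_rep symp_acts sympSpan
  let φ : ↥K2 →* Matrix.symplecticGroup (Fin 3) (ZMod 2) :=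
    ((Units.coeHom (Matrix (Fin 3 ⊕ Fin 3) (Fin 3 ⊕ Fin 3) (ZMod 2))).comp ρ).codRestrict
      (Matrix.symplecticGroup (Fin 3) (ZMod 2)) fun g => mem_sp_of_form (hform g)
  let χ : ↥K2 →* ℤˣ := Equiv.Perm.sign.comp (classHom.comp (Subgroup.inclusion (fun g hg => (mem_K2.1 hg).1)))
  let ψ : ↥K2 →* ℤˣ × Matrix.symplecticGroup (Fin 3) (ZMod 2) := χ.prod φ
  have hinj : Function.Injective ψ := by
    rw [injective_iff_map_eq_one]
    rintro ⟨g, hg⟩ hψ
    obtain ⟨hC, hga⟩ := mem_K2.1 hg
    have hχ : Equiv.Perm.sign (classHom ⟨g, hC⟩) = 1 := congrArg Prod.fst hψ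
    have hρ1 : ρ ⟨g, hg⟩ = 1 := Units.ext (congrArg (fun z => (Prod.snd z).1) hψ)
    have hsfix : ∀ x ∈ sympSys.carrier, g • x = x := fun x hx => by
      have h2 := (Sys.perm_ix symp_acts ⟨g, hg⟩ ⟨x, hx⟩).symm.trans ((hker _).1 hρ1 _)
      exact congrArg Subtype.val (symp_ix_inj h2)
    -- the element or its product with the transposition fixes the further point
    obtain ⟨hlt, hm1, hm2, hbas⟩ := mid_ok
    let m : Pt := ⟨midPt, Nat.le_of_ble_eq_true hlt⟩
    have hm : m ∈ plusSys.carrier := fun r => by rw [show plus_tbl.get 16 midPt = 0 from r] at hm1; simp at hm1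
    have hgK : g ∈ K1 := mem_K1.2 ⟨hC, (classHom_zero_iff ⟨g, hC⟩ ptA_carrier).2 (by
      show g • ptA ∈ _
      rw [hga]; exact ptA_carrier)⟩
    have hcases : g • m = m ∨ g • m = trp ptA • m := by
      have h := allFrom_spec mid_pair (g • m : Pt).1 (Nat.zero_le _) (by have := pt_n (g • m); omega)
      simp only [Bool.or_eq_true, Bool.not_eq_true'] at h
      rcases h with ((r | r) | r) | r
      · exact absurd (Nat.eq_of_beq_eq_true r) (plus_acts.mem g hgK m hm)
      · exact Or.inl (Fin.ext (Nat.eq_of_beq_eq_true r))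
      · exact Or.inr (Fin.ext ((Nat.eq_of_beq_eq_true r).trans (ptA_act m).symm))
      · exfalso
        rw [Bool.eq_false_iff] at r
        apply r
        simp only [Bool.and_eq_true, List.all_eq_true, List.mem_range, sameCom, beq_iff_eq]
        refine ⟨?_, fun j hj => ?_⟩
        · have key := trp_fix_smul g ptA m
          rw [hga] at key
          have ca : ∀ y : Pt, Nat.beq (act1 aW y) y = true ↔ trp ptA • y = y := fun y => by
            rw [← ptA_act, Nat.beq_eq, Fin.ext_iff]
          rw [Bool.eq_iff_iff, show midPt = m.1 from rfl, ca, ca]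
          exact key
        · have hj' : j < sympSys.D.pts.length := symp_noncentral.2.symm ▸ hj
          obtain ⟨hw, hw0, hl⟩ := sympSys.facts.2.1 j hj'
          let p : Pt := ⟨_, hl⟩
          have key := trp_fix_smul g p m
          rw [hsfix p (sympSys.facts.2.2.2.1 j hj')] at key
          rw [Bool.eq_iff_iff, show midPt = m.1 from rfl]
          exact (com_iff (p := p) hw hw0 _).trans (key.trans (com_iff (p := p) hw hw0 m).symm)
    have main : ∀ k ∈ K1, k • ptA = ptA → (∀ x ∈ sympSys.carrier, k • x = x) → k • m = m → k = 1 := by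
      intro k hk hka hks hkm
      refine plus_rigid hk fun c => ?_
      have h := List.all_eq_true.1 hbas c.1 (List.mem_range.2 c.2)
      simp only [Bool.or_eq_true, Bool.not_eq_true'] at h
      have hfix : k • (plusSys.rep (plusSpan.idx c)).1 = (plusSys.rep (plusSpan.idx c)).1 := by
        rcases h with (r | r) | r
        · rw [show (plusSys.rep (plusSpan.idx c)).1 = ptA from Fin.ext ((Nat.eq_of_beq_eq_true r).trans ptA_val.symm), hka]
        · rw [show (plusSys.rep (plusSpan.idx c)).1 = m from Fin.ext (Nat.eq_of_beq_eq_true r), hkm]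
        · exact hks _ fun e => by
            rw [show symp_tbl.get 16 (plus_reps.getD (plus_bidx.getD c.1 0) 0) = 0 from e] at r
            simp at r
      show plusSys.ix ⟨k • (plusSys.rep (plusSpan.idx c)).1, _⟩ = _
      conv_rhs => rw [← plusSys.ix_rep (plusSpan.idx c)]
      exact congrArg plusSys.ix (Subtype.ext hfix)
    rcases hcases with hgm | hgm
    · exact Subtype.ext (main g hgK hga hsfix hgm)
    · exfalso
      have haK : trp ptA ∈ K1 := mem_K1.2 ⟨trp_a_CS, trp_fixes_class ptA_carrier⟩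
      have e := main (trp ptA * g) (mul_mem haK hgK) (by rw [mul_smul, hga, trp_self])
        (fun x hx => by rw [mul_smul, hsfix x hx, ((symp_facts x).2 hx).2.1]) (by rw [mul_smul, hgm, ← mul_smul, trp_sq, one_smul])
      have e2 : g = trp ptA := by rw [eq_inv_of_mul_eq_one_right e, inv_eq_of_mul_eq_one_right (trp_sq ptA)]
      subst e2
      rw [show (⟨trp ptA, hC⟩ : CS) = ⟨trp ptA, trp_mem_CS (fixed_of_plus ptA_carrier)⟩ from rfl,
        classHom_trp ptA_carrier, Equiv.Perm.sign_swap (by decide)] at hχ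
      exact absurd hχ (by decide)
  have hsp : Nat.card (Matrix.symplecticGroup (Fin 3) (ZMod 2)) = 1451520 := by
    rw [CfsgLib.Classical.card_symplectic, ZMod.card]
    decide
  haveI : Finite (Matrix.symplecticGroup (Fin 3) (ZMod 2)) := Nat.finite_of_card_ne_zero (by rw [hsp]; norm_num)
  have hbij : Function.Bijective ψ := (Nat.bijective_iff_injective_and_card ψ).2 ⟨hinj, by
    rw [card_K2, Nat.card_prod, hsp, Nat.card_eq_fintype_card, Fintype.card_units_int]⟩
  have hPSp : Nat.card (Cfsg.PSp 3 (ZMod 2)) = 1451520 := by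
    have h := CfsgLib.Sp.card_sp_eq_gcd_mul (F := ZMod 2) (m := 3) (by norm_num)
    rw [hsp, ZMod.card] at h
    simpa using h.symm
  let q : Matrix.symplecticGroup (Fin 3) (ZMod 2) ≃* Cfsg.PSp 3 (ZMod 2) :=
    MulEquiv.ofBijective (QuotientGroup.mk' _) ((Nat.bijective_iff_surjective_and_card _).2
      ⟨QuotientGroup.mk'_surjective _, hsp.trans hPSp.symm⟩)
  haveI : Fact (Nat.Prime 2) := ⟨Nat.prime_two⟩
  let z : ℤˣ ≃* Multiplicative (ZMod 2) := mulEquivOfPrimeCardEq (p := 2)
    (by rw [Nat.card_eq_fintype_card, Fintype.card_units_int]) (by simp)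
  exact ⟨(MulEquiv.ofBijective ψ hbij).trans (z.prodCongr q)⟩

end

end CfsgLib.Spor.Fi22OuterInv
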