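/-
The third involution: its fixed subgroup is an extension of an elementary abelian group of order sixty four by the
orthogonal group of minus type in dimension six.
-/
import Cfsg.Agent.Lib.Spor.Fi22OuterInv.SympStab
import Cfsg.Agent.Lib.Spor.Fi22OuterInv.MinusChecks
import Cfsg.Agent.Lib.Spor.Tri.MinusSixAut
import Cfsg.Agent.Lib.Spor.PairAut.AutSimple
import Cfsg.Agent.Lib.PGroup.Basic
import Cfsg.Prelude.Def_Transfer

set_option autoImplicit false

namespace CfsgLib.Spor.Fi22OuterInv

open CfsgLib.Spor.TC CfsgLib.Spor.Fi22 CfsgLib.Spor.Fi22Out MulAction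

noncomputable section

attribute [local instance] actionH

local notation "Q6" => Cfsg.quadFormMinus 2 (ZMod 2) 1 1
local notation "V6" => ((Fin 2 ⊕ Fin 2) ⊕ Fin 2 → ZMod 2)

/-- The second chosen fixed point. -/
def ptB : Pt := Classical.choose (wordPt_spec named_ok.2.1)

theorem ptB_act (y : Pt) : ((trp ptB • y : Pt) : ℕ) = act1 bW y :=
  act1_smul (Classical.choose_spec (wordPt_spec named_ok.2.1)).2.1 (Classical.choose_spec (wordPt_spec named_ok.2.1)).2.2 y

/-- The fixed subgroup of the third involution. -/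
def K3 : Subgroup Gp := fixSub (outerAut (trp ptA * trp ptB))

/-- The table of the third involution as a map of points. -/
def fTwoP (x : Pt) : Pt := tauP ((trp ptA * trp ptB) • x)

theorem fTwoP_val (x : Pt) : (fTwoP x).1 = fTwo x.1 := by
  show tauN ((trp ptA * trp ptB) • x : Pt).1 = _
  rw [mul_smul, ptA_act, ptB_act]
  rfl

theorem fTwoP_facts (x : Pt) : fTwoP (fTwoP x) = x ∧ (fTwoP x = x ↔ x ∈ minusSys.carrier) := by
  have h := allFrom_spec fTwo_invol x.1 (Nat.zero_le _) (by have := pt_n x; omega)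
  simp only [Bool.and_eq_true, beq_iff_eq] at h
  refine ⟨Fin.ext (by rw [fTwoP_val, fTwoP_val]; exact Nat.eq_of_beq_eq_true h.1), ?_⟩
  rw [Fin.ext_iff, fTwoP_val]
  show _ ↔ minus_tbl.get 16 x.1 ≠ 0
  rw [← Nat.beq_eq, h.2, Bool.not_eq_true', ← Bool.not_eq_true, Nat.beq_eq]

theorem minus_add (x y : V6) : Q6 (x + y) = Q6 x + Q6 y + minusSys.form x y := by
  show _ = _ + minusForm x y
  simp only [Cfsg.quadFormMinus, minusForm, LinearMap.mk₂_apply, Fin.sum_univ_two, Pi.add_apply]
  have h2 : (2 : ZMod 2) = 0 := rfl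
  linear_combination (x (Sum.inr 0) * y (Sum.inr 0) + x (Sum.inr 1) * y (Sum.inr 1)) * h2

theorem minus_vec (i : Fin minusSys.D.k) : Q6 (minusSys.vec i) = 1 := minus_quad i

/-- Members commute exactly when their vectors are orthogonal. -/
theorem minus_com_iff (x y : minusSys.carrier) :
    trp x.1 • y.1 = y.1 ↔ minusSys.form (minusSys.vec (minusSys.ix x)) (minusSys.vec (minusSys.ix y)) = 0 := by
  obtain ⟨u, hu, eu⟩ := minusSys.mem_pts x.2
  obtain ⟨v, hv, ev⟩ := minusSys.mem_pts y.2
  obtain ⟨hw, hw0, -⟩ := minusSys.facts.2.1 u hu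
  have h := List.all_eq_true.1 (List.all_eq_true.1 minus_com.1 u (List.mem_range.2 (minus_com.2 ▸ hu))) v
    (List.mem_range.2 (minus_com.2 ▸ hv))
  simp only [beq_iff_eq] at h
  rw [minusSys.form_vec, ← com_iff hw (hw0.trans eu) y.1]
  change Nat.beq (act1 (minus_words.getD u []) y.1.1) y.1.1 = true ↔
    (if minusB (minus_codes.getD (minus_tbl.get 16 x.1.1 - 1) 0) (minus_codes.getD (minus_tbl.get 16 y.1.1 - 1) 0)
      then (1 : ZMod 2) else 0) = 0
  change minus_pts.getD u 0 = _ at eu
  change minus_pts.getD v 0 = _ at ev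
  rw [eu, ev] at h
  rw [h]
  cases minusB (minus_codes.getD (minus_tbl.get 16 x.1.1 - 1) 0) (minus_codes.getD (minus_tbl.get 16 y.1.1 - 1) 0) <;> simp

theorem minus_fibre (x : minusSys.carrier) :
    x.1.1 = minus_reps.getD (minusSys.ix x).1 0 ∨ x.1.1 = mateN (minusSys.ix x).1 := by
  have h := allFrom_spec fibre_ok.1 x.1.1 (Nat.zero_le _) (by have := pt_n x.1; omega)
  simp only [Bool.or_eq_true] at h
  rcases h with (h | h) | h
  · exact absurd (Nat.eq_of_beq_eq_true h) x.2
  · exact Or.inl (Nat.eq_of_beq_eq_true h).symm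
  · exact Or.inr (Nat.eq_of_beq_eq_true h).symm

/-- Three members of a fibre are not distinct. -/
theorem fibre_two {x y z : minusSys.carrier} (h1 : minusSys.ix x = minusSys.ix y) (h2 : minusSys.ix y = minusSys.ix z)
    (hxy : x ≠ y) (hxz : x ≠ z) : y = z := by
  have hne : x.1.1 ≠ y.1.1 := fun r => hxy (Subtype.ext (Fin.ext r))
  have hne' : x.1.1 ≠ z.1.1 := fun r => hxz (Subtype.ext (Fin.ext r))
  refine Subtype.ext (Fin.ext ?_)
  have a := minus_fibre x
  have b := minus_fibre y
  have c := minus_fibre z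
  rw [h1, h2] at a
  rw [h2] at b
  omega

/-- The other member of a fibre. -/
def mate (i : Fin minusSys.D.k) : minusSys.carrier :=
  ⟨⟨mateN i.1, by
    have h := List.all_eq_true.1 fibre_ok.2 i.1 (List.mem_range.2 i.2)
    simp only [Bool.and_eq_true] at h
    exact Nat.le_of_ble_eq_true h.1.1⟩, by
    have h := List.all_eq_true.1 fibre_ok.2 i.1 (List.mem_range.2 i.2)
    simp only [Bool.and_eq_true] at h
    show minus_tbl.get 16 (mateN i.1) ≠ 0
    rw [Nat.eq_of_beq_eq_true h.1.2]
    exact Nat.succ_ne_zero _⟩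

theorem mate_spec (i : Fin minusSys.D.k) : minusSys.ix (mate i) = i ∧ mate i ≠ minusSys.rep i := by
  have h := List.all_eq_true.1 fibre_ok.2 i.1 (List.mem_range.2 i.2)
  simp only [Bool.and_eq_true, Bool.not_eq_true'] at h
  refine ⟨Fin.ext ?_, fun r => ?_⟩
  · show minus_tbl.get 16 (mateN i.1) - 1 = i.1
    rw [Nat.eq_of_beq_eq_true h.1.2, Nat.add_sub_cancel]
  · have e : mateN i.1 = minus_reps.getD i.1 0 := congrArg (fun z : minusSys.carrier => z.1.1) r
    rw [e, Nat.beq_refl] at h
    exact absurd h.2 (by decide)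

theorem trp_mem_K3 (x : minusSys.carrier) : trp x.1 ∈ K3 := by
  show outerAut (trp ptA * trp ptB) (trp x.1) = trp x.1
  rw [outerAut_table _ x.1]
  exact congrArg trp ((fTwoP_facts x.1).2.2 x.2)

theorem K3_smul {g : Gp} (hg : g ∈ K3) (x : minusSys.carrier) : g • x.1 ∈ minusSys.carrier := by
  rw [← (fTwoP_facts _).2]
  show tauP ((trp ptA * trp ptB) • g • x.1) = g • x.1
  rw [((outerAut_table _).fix_iff g).1 hg x.1]
  exact congrArg (g • ·) ((fTwoP_facts x.1).2.2 x.2)

theorem minus_acts : minusSys.Acts K3 where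
  mem g hg x hx := K3_smul hg ⟨x, hx⟩
  same g hg x y h := by
    set X : minusSys.carrier := ⟨g • x.1, K3_smul hg x⟩
    set Y : minusSys.carrier := ⟨g • y.1, K3_smul hg y⟩
    refine minusSys.vec_inj (sub_eq_zero.1 (minusSys.nondeg _ fun w => ?_))
    induction minusSpan.basis.mem_span w using Submodule.span_induction with
    | mem w hw =>
      obtain ⟨c, rfl⟩ := hw
      rw [← minusSpan.vec_idx, ← minusSys.ix_rep (minusSpan.idx c), map_sub, LinearMap.sub_apply, sub_eq_zero]
      set z := minusSys.rep (minusSpan.idx c)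
      have hz : g⁻¹ • z.1 ∈ minusSys.carrier := K3_smul (inv_mem hg) z
      have e : ∀ p : Pt, trp (g • p) • z.1 = z.1 ↔ trp p • (g⁻¹ • z.1) = g⁻¹ • z.1 := fun p => by
        have := trp_fix_smul g p (g⁻¹ • z.1)
        rwa [smul_inv_smul] at this
      have h2 : trp X.1 • z.1 = z.1 ↔ trp Y.1 • z.1 = z.1 := by
        rw [e x.1, e y.1, minus_com_iff x ⟨_, hz⟩, minus_com_iff y ⟨_, hz⟩, h]
      rw [minus_com_iff, minus_com_iff] at h2
      revert h2
      generalize minusSys.form (minusSys.vec (minusSys.ix X)) (minusSys.vec (minusSys.ix z)) = a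
      generalize minusSys.form (minusSys.vec (minusSys.ix Y)) (minusSys.vec (minusSys.ix z)) = b
      revert a b
      decide
    | zero => simp
    | add a b _ _ ha hb => rw [map_add, ha, hb, add_zero]
    | smul a b _ hb => rw [map_smul, hb, smul_zero]

/-- Both transpositions of a fibre move a member differently. -/
theorem move_basis (d c : Fin minusSys.dim)
    (he : minusSys.form (minusSys.vec (minusSys.ix (minusSys.rep (minusSpan.idx d))))
      (minusSys.vec (minusSys.ix (minusSys.rep (minusSpan.idx c)))) = 1) :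
    trp (minusSys.rep (minusSpan.idx d)).1 • (minusSys.rep (minusSpan.idx c)).1 ≠
      trp (mate (minusSpan.idx d)).1 • (minusSys.rep (minusSpan.idx c)).1 := by
  intro h
  have hd := List.all_eq_true.1 (List.all_eq_true.1 basis_move d.1 (List.mem_range.2 d.2)) c.1 (List.mem_range.2 c.2)
  simp only [Bool.and_eq_true, Bool.or_eq_true, Bool.not_eq_true'] at hd
  obtain ⟨⟨hd1, hd2⟩, hd3⟩ := hd
  have h2 : 2 * minus_bidx.getD d.1 0 + 1 < minusSys.D.pts.length := minus_com.2.symm ▸ Nat.le_of_ble_eq_true hd2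
  rcases hd3 with r | r
  · rw [minusSys.ix_rep, minusSys.ix_rep, minusSys.form_vec] at he
    change (if minusB (minus_codes.getD (minus_bidx.getD d.1 0) 0) (minus_codes.getD (minus_bidx.getD c.1 0) 0) then
      (1 : ZMod 2) else 0) = 1 at he
    rw [r] at he
    exact absurd he (by decide)
  · obtain ⟨hw0, h00, hl0⟩ := minusSys.facts.2.1 (2 * minus_bidx.getD d.1 0) (by omega)
    obtain ⟨hw1, h11, hl1⟩ := minusSys.facts.2.1 (2 * minus_bidx.getD d.1 0 + 1) h2
    have e := congrArg Fin.val h
    rw [act1_smul (p := (minusSys.rep (minusSpan.idx d)).1) hw0 (h00.trans (Nat.eq_of_beq_eq_true hd1)),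
      act1_smul (p := (mate (minusSpan.idx d)).1) hw1 h11] at e
    change act1 (minus_words.getD (2 * minus_bidx.getD d.1 0) []) (minus_reps.getD (minus_bidx.getD c.1 0) 0) = _ at e
    rw [e] at r
    exact absurd ((Nat.beq_refl _).symm.trans r) (by decide)

/-- Fixing every fibre and a member of each basis fibre leaves the identity only. -/
theorem minus_trivial {g : Gp} (hg : g ∈ K3) (hfib : ∀ i, Sys.perm minus_acts ⟨g, hg⟩ i = i)
    (hb : ∀ c, g • (minusSys.rep (minusSpan.idx c)).1 = (minusSys.rep (minusSpan.idx c)).1) : g = 1 := by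
  have hix : ∀ x : minusSys.carrier, minusSys.ix ⟨g • x.1, K3_smul hg x⟩ = minusSys.ix x := fun x =>
    (Sys.perm_ix minus_acts ⟨g, hg⟩ x).symm.trans (hfib _)
  -- one fixed member fixes the fibre
  have hone : ∀ x y : minusSys.carrier, minusSys.ix x = minusSys.ix y → g • x.1 = x.1 → g • y.1 = y.1 := by
    intro x y he hx
    by_cases hxy : x = y
    · rwa [← hxy]
    have h2 : x ≠ ⟨g • y.1, K3_smul hg y⟩ := fun r => hxy (Subtype.ext (smul_left_cancel g (hx.trans (congrArg Subtype.val r))))
    exact (congrArg Subtype.val (fibre_two he (hix y).symm hxy h2)).symm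
  have hP : ∀ i, g • (minusSys.rep i).1 = (minusSys.rep i).1 := by
    refine minusSys.frame_reach minusSpan {i | g • (minusSys.rep i).1 = (minusSys.rep i).1} (fun i hi => ?_)
      fun e he h1 h2 => ?_
    · obtain ⟨j, hj, hji⟩ := List.mem_filterMap.1 hi
      obtain ⟨c, hc⟩ := starts_basis j hj
      have e : minusSpan.idx c = i := by
        have hlt : j < minusSys.D.k := minusSpan.starts_lt j hj
        rw [dif_pos hlt] at hji
        rw [← Option.some.inj hji]
        exact Fin.ext hc
      show g • (minusSys.rep i).1 = (minusSys.rep i).1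
      rw [← e]
      exact hb c
    · have ht : e.1 = minusSys.op e.2.1 e.2.2 := minusSys.frame_tree minusSpan e he
      refine hone ⟨_, (minusSys.transvection (minusSys.rep e.2.1).2 (minusSys.rep e.2.2).2).fst⟩ _
        ((minusSys.ix_rep e.1).trans ht).symm ?_
      show g • trp (minusSys.rep e.2.1).1 • (minusSys.rep e.2.2).1 = _
      rw [← mul_smul, show g * trp (minusSys.rep e.2.1).1 = trp (minusSys.rep e.2.1).1 * g from
        mul_inv_eq_iff_eq_mul.1 ((conj_trp g _).trans (congrArg trp h1)), mul_smul, h2]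
  refine rigidTwo.rigid rigidTwo_ok (outerAut_table _) fTwoP_val (fun x => (fTwoP_facts x).1) ?_ hg ?_
  · intro k hk
    refine PairAut.tau_outer (k * (trp ptA * trp ptB)⁻¹) ?_
    rw [map_mul, hk, map_inv, outerAut, mul_inv_cancel_right]
  · intro i hi p hp
    have hm : p ∈ minusSys.carrier := by
      show minusSys.D.ixN p.1 ≠ 0
      rw [hp]
      exact minusSys.facts.2.2.2.1 i hi
    exact hone (minusSys.rep (minusSys.ix ⟨p, hm⟩)) ⟨p, hm⟩ (minusSys.ix_rep _) (hP _)

theorem card_psu_not_two : ∀ n : ℕ, 2 ^ n ≠ 25920 := fun n h => by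
  have h3 : 3 ∣ 2 ^ n := h ▸ by norm_num
  have := (Nat.prime_dvd_prime_iff_eq Nat.prime_three Nat.prime_two).1 (Nat.prime_three.dvd_of_dvd_pow h3)
  norm_num at this

theorem minus_no_normal_two (N : Subgroup ↥(Cfsg.isometryGroup (ZMod 2) Q6)) [N.Normal] (hN : IsPGroup 2 ↥N) : N = ⊥ := by
  haveI : Fact (Nat.Prime 2) := ⟨Nat.prime_two⟩
  haveI : Fintype (GaloisField 2 2) := Fintype.ofFinite _
  have h4 : Fintype.card (GaloisField 2 2) = 4 := by
    rw [← Nat.card_eq_fintype_card, GaloisField.card 2 2 two_ne_zero]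
    rfl
  obtain ⟨e⟩ := CfsgLib.Spor.Tri.Level.minus_six_aut (F := GaloisField 2 2) h4
  obtain ⟨hs, hc, hcard⟩ := PairAut.psu4_facts (F := GaloisField 2 2) h4
  haveI := hs
  haveI hN' : (N.map e.toMonoidHom).Normal := Subgroup.Normal.map inferInstance _ e.surjective
  rcases PairAut.eq_bot_or_inner_le hc (N.map e.toMonoidHom) (fun p k hk => hN'.conj_mem k hk _) with h | h
  · exact (Subgroup.map_eq_bot_iff_of_injective N (f := e.toMonoidHom) e.injective).1 h
  · exfalso
    obtain ⟨n, hn⟩ := IsPGroup.iff_card.1 ((hN.map e.toMonoidHom).to_le h)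
    rw [PairAut.card_inner hc, hcard] at hn
    exact card_psu_not_two n hn.symm

/-- The fixed subgroup of the third involution. -/
theorem two_iso : ∃ O : Subgroup ↥K3, O = Cfsg.pCore 2 ↥K3 ∧ Cfsg.IsElementaryAbelian 2 O ∧ Nat.card O = 64 ∧
    ∃ ρ : ↥K3 →* ↥(Cfsg.isometryGroup (ZMod 2) Q6), Function.Surjective ρ ∧ ρ.ker = O := by
  obtain ⟨ρ, hρ, hker⟩ := Sys.exists_iso_rep minus_acts minusSpan minus_add minus_vec
  have hsurj := Sys.rep_surjective minus_add minus_vec minus_acts minusSpan
    (CfsgLib.Perm.Trans.Quad.quadFormMinus_nd (m := 2) (1 : ZMod 2) 1 (by decide)) (by simp) (by simp)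
    minus_all (fun i => trp_mem_K3 _) ρ hρ
  let r : Fin minusSys.dim → minusSys.carrier := fun c => minusSys.rep (minusSpan.idx c)
  have hfix : ∀ g ∈ ρ.ker, ∀ x : minusSys.carrier, minusSys.ix ⟨(g : Gp) • x.1, K3_smul g.2 x⟩ = minusSys.ix x :=
    fun g hg x => (Sys.perm_ix minus_acts g x).symm.trans ((hker g).1 (MonoidHom.mem_ker.1 hg) _)
  have htwo : ∀ g ∈ ρ.ker, ∀ h ∈ ρ.ker, ∀ c, (g : Gp) • (h : Gp) • (r c).1 = (r c).1 ↔
      ((g : Gp) • (r c).1 = (r c).1 ↔ (h : Gp) • (r c).1 = (r c).1) := by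
    intro g hg h hh c
    by_cases hc : (h : Gp) • (r c).1 = (r c).1
    · rw [hc]
      simp
    simp only [hc, iff_false]
    constructor
    · intro e e'
      exact hc (smul_left_cancel (g : Gp) (e.trans e'.symm))
    · intro e
      have h1 := hfix h hh (r c)
      have h2 := hfix g hg (r c)
      have e2 := congrArg Subtype.val (fibre_two (x := r c) (y := ⟨_, K3_smul h.2 (r c)⟩) (z := ⟨_, K3_smul g.2 (r c)⟩)
        h1.symm (h1.trans h2.symm) (fun r => hc (congrArg Subtype.val r).symm) (fun r => e (congrArg Subtype.val r).symm))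
      dsimp only at e2
      rw [e2]
      by_contra hne
      have h3 := hfix g hg ⟨_, K3_smul g.2 (r c)⟩
      have e3 := congrArg Subtype.val (fibre_two (x := r c) (y := ⟨_, K3_smul g.2 (r c)⟩)
        (z := ⟨_, K3_smul g.2 ⟨_, K3_smul g.2 (r c)⟩⟩) h2.symm h3.symm (fun r => e (congrArg Subtype.val r).symm)
        (fun r => hne (congrArg Subtype.val r).symm))
      exact e (smul_left_cancel (g : Gp) e3.symm)
  let χ : ↥ρ.ker →* Multiplicative (Fin minusSys.dim → ZMod 2) :=
    MonoidHom.mk' (fun g => Multiplicative.ofAdd fun c => if (g.1 : Gp) • (r c).1 = (r c).1 then 0 else 1)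
      fun g h => by
        refine congrArg Multiplicative.ofAdd (funext fun c => ?_)
        have := htwo g.1 g.2 h.1 h.2 c
        show (if ((g.1 : Gp) * (h.1 : Gp)) • (r c).1 = (r c).1 then (0 : ZMod 2) else 1) =
          (if (g.1 : Gp) • (r c).1 = (r c).1 then (0 : ZMod 2) else 1) +
            (if (h.1 : Gp) • (r c).1 = (r c).1 then (0 : ZMod 2) else 1)
        rw [mul_smul]
        by_cases a : (g.1 : Gp) • (r c).1 = (r c).1 <;> by_cases b : (h.1 : Gp) • (r c).1 = (r c).1
        · rw [if_pos (this.2 (iff_of_true a b)), if_pos a, if_pos b]; rfl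
        · rw [if_neg (fun e => b ((this.1 e).1 a)), if_pos a, if_neg b]; rfl
        · rw [if_neg (fun e => a ((this.1 e).2 b)), if_neg a, if_pos b]; rfl
        · rw [if_pos (this.2 (iff_of_false a b)), if_neg a, if_neg b]; rfl
  have hinj : Function.Injective χ := by
    rw [injective_iff_map_eq_one]
    intro g hg
    refine Subtype.ext (Subtype.ext (minus_trivial g.1.2 ((hker g.1).1 g.2) fun c => ?_))
    have h := congrFun (congrArg Multiplicative.toAdd hg) c
    by_contra hne
    rw [show Multiplicative.toAdd (χ g) c = if (g.1 : Gp) • (r c).1 = (r c).1 then 0 else 1 from rfl, if_neg hne] at h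
    exact one_ne_zero h
  have hsurjχ : Function.Surjective χ := by
    let v : Fin minusSys.dim → V6 := fun c => minusSys.vec (minusSys.ix (r c))
    have hv : ∀ c, v c = minusSpan.basis c := fun c => by
      show minusSys.vec (minusSys.ix (r c)) = _
      rw [minusSys.ix_rep, minusSpan.vec_idx]
    let Λ : V6 →ₗ[ZMod 2] (Fin minusSys.dim → ZMod 2) := LinearMap.pi fun c => minusSys.form.flip (v c)
    have hΛ : Function.Injective Λ := by
      rw [← LinearMap.ker_eq_bot, LinearMap.ker_eq_bot']
      intro x hx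
      refine minusSys.nondeg x fun y => ?_
      have e : minusSys.form x = 0 := minusSpan.basis.ext fun c => by
        rw [← hv]; exact congrFun hx c
      rw [e]; rfl
    haveI : FiniteDimensional (ZMod 2) V6 := Module.Finite.of_basis minusSpan.basis
    have hΛs : Function.Surjective Λ :=
      (LinearMap.injective_iff_surjective_of_finrank_eq_finrank (by
        rw [Module.finrank_eq_card_basis minusSpan.basis, Module.finrank_fintype_fun_eq_card])).1 hΛ
    intro y
    obtain ⟨x, hx⟩ := hΛs (Multiplicative.toAdd y)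
    suffices key : ∃ g, χ g = Multiplicative.ofAdd (Λ x) by
      obtain ⟨g, hg⟩ := key
      exact ⟨g, by rw [hg, hx, ofAdd_toAdd]⟩
    induction minusSpan.basis.mem_span x using Submodule.span_induction generalizing y with
    | mem w hw =>
      obtain ⟨d, rfl⟩ := hw
      set x0 := r d
      set x1 := mate (minusSpan.idx d)
      have hx01 : minusSys.ix x1 = minusSys.ix x0 := (mate_spec _).1.trans (minusSys.ix_rep _).symm
      let t : ↥K3 := ⟨trp x1.1, trp_mem_K3 x1⟩ * ⟨trp x0.1, trp_mem_K3 x0⟩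
      have ht : t ∈ ρ.ker := by
        rw [MonoidHom.mem_ker, hker]
        intro i
        rw [Sys.perm_mul]
        have hx : ∀ (z : minusSys.carrier) j,
            Sys.perm minus_acts ⟨trp z.1, trp_mem_K3 z⟩ j = minusSys.op (minusSys.ix z) j := fun z j => by
          conv_rhs => rw [← minusSys.ix_rep j]
          exact minusSys.op_ix z (minusSys.rep j) _
        rw [hx, hx, hx01]
        refine minusSys.vec_inj ?_
        rw [minusSys.op_vec, minusSys.op_vec, map_add, map_smul]
        have hz : minusSys.form (minusSys.vec (minusSys.ix x0)) (minusSys.vec (minusSys.ix x0)) = 0 :=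
          (minus_com_iff x0 x0).1 (trp_self _)
        rw [hz, smul_zero, add_zero, add_assoc, ← add_smul, ZModModule.add_self, zero_smul, add_zero]
      refine ⟨⟨t, ht⟩, congrArg Multiplicative.ofAdd (funext fun c => ?_)⟩
      show (if (trp x1.1 * trp x0.1) • (r c).1 = (r c).1 then (0 : ZMod 2) else 1) = minusSys.form (minusSpan.basis d) (v c)
      have hd : minusSpan.basis d = minusSys.vec (minusSys.ix x0) := (hv d).symm
      rw [hd]
      by_cases hc : trp x0.1 • (r c).1 = (r c).1
      · have e := (minus_com_iff x0 (r c)).1 hc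
        have hc1 : trp x1.1 • (r c).1 = (r c).1 := (minus_com_iff x1 (r c)).2 (by rw [hx01]; exact e)
        rw [mul_smul, hc, hc1, if_pos rfl, e]
      · have e : minusSys.form (minusSys.vec (minusSys.ix x0)) (v c) = 1 := by
          have h0 := fun r' => hc ((minus_com_iff x0 (r c)).2 r')
          revert h0
          generalize minusSys.form (minusSys.vec (minusSys.ix x0)) (v c) = a
          revert a
          decide
        rw [e, if_neg]
        intro h
        have h' : trp x0.1 • (r c).1 = trp x1.1 • (r c).1 := by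
          rw [mul_smul] at h
          conv_rhs => rw [← h, ← mul_smul, trp_sq, one_smul]
        exact move_basis d c e h'
    | zero => exact ⟨1, by rw [map_one, map_zero]; rfl⟩
    | add a b _ _ ha hb =>
      obtain ⟨g, hg⟩ := ha (Multiplicative.ofAdd (Λ a)) rfl
      obtain ⟨h, hh⟩ := hb (Multiplicative.ofAdd (Λ b)) rfl
      exact ⟨g * h, by rw [map_mul, hg, hh, map_add]; rfl⟩
    | smul a b _ hb =>
      rcases (by decide : ∀ a : ZMod 2, a = 0 ∨ a = 1) a with rfl | rfl
      · exact ⟨1, by rw [map_one, zero_smul, map_zero]; rfl⟩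
      · obtain ⟨g, hg⟩ := hb (Multiplicative.ofAdd (Λ b)) rfl
        exact ⟨g, by rw [one_smul]; exact hg⟩
  have hcard : Nat.card ↥ρ.ker = 64 := by
    rw [Nat.card_eq_of_bijective χ ⟨hinj, hsurjχ⟩, Nat.card_eq_fintype_card, Fintype.card_multiplicative]
    rfl
  have hea : Cfsg.IsElementaryAbelian 2 ρ.ker := by
    refine ⟨⟨⟨fun a b => hinj (by rw [map_mul, map_mul, mul_comm])⟩⟩, fun a ha => ?_⟩
    have h : (⟨a, ha⟩ : ↥ρ.ker) ^ 2 = 1 := hinj (by
      rw [map_pow, map_one, pow_two]
      exact congrArg Multiplicative.ofAdd (funext fun c => ZModModule.add_self _))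
    exact congrArg Subtype.val h
  have hp : IsPGroup 2 ↥ρ.ker := IsPGroup.of_card (n := 6) (by rw [hcard]; norm_num)
  refine ⟨ρ.ker, le_antisymm (CfsgLib.PGroup.le_pCore inferInstance hp) ?_, hea, hcard, ρ, hsurj, rfl⟩
  haveI := CfsgLib.Coprime.pCore_normal' (G := ↥K3) 2
  haveI : ((Cfsg.pCore 2 ↥K3).map ρ).Normal := Subgroup.Normal.map inferInstance _ hsurj
  rw [← MonoidHom.comap_bot, ← minus_no_normal_two ((Cfsg.pCore 2 ↥K3).map ρ)
    ((CfsgLib.PGroup.isPGroup_pCore 2 _).map _)]
  exact Subgroup.le_comap_map _ _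

end

end CfsgLib.Spor.Fi22OuterInv
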