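/-
The three involutions are not conjugate in the automorphism group.
-/
import Cfsg.Agent.Lib.Spor.Fi22OuterInv.MinusStab
import Cfsg.Agent.Lib.Spor.Fi22OuterInv.DistinctChecks

set_option autoImplicit false

namespace CfsgLib.Spor.Fi22OuterInv

open CfsgLib.Spor.TC CfsgLib.Spor.Fi22 CfsgLib.Spor.Fi22Out MulAction

noncomputable section

attribute [local instance] actionH

/-- The number of transpositions fixed by an automorphism. -/
def fixedCard (α : MulAut Gp) : ℕ := {u : Gp | u ∈ Set.range trp ∧ α u = u}.ncard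

theorem fixedCard_conj {α β : MulAut Gp} (h : IsConj α β) : fixedCard α = fixedCard β := by
  obtain ⟨c, rfl⟩ := isConj_iff.1 h
  have e : {u : Gp | u ∈ Set.range trp ∧ (c * α * c⁻¹) u = u} = c '' {u : Gp | u ∈ Set.range trp ∧ α u = u} := by
    ext u
    constructor
    · rintro ⟨⟨x, rfl⟩, hu⟩
      obtain ⟨y, hy⟩ := image_trp c⁻¹ x
      refine ⟨c⁻¹ (trp x), ⟨⟨y, hy.symm⟩, ?_⟩, MulAut.apply_inv_self _ c _⟩
      have h2 := congrArg (c⁻¹ : MulAut Gp) hu
      simpa only [MulAut.mul_apply, MulAut.inv_apply_self] using h2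
    · rintro ⟨v, ⟨⟨x, rfl⟩, hv⟩, rfl⟩
      obtain ⟨y, hy⟩ := image_trp c x
      refine ⟨⟨y, hy.symm⟩, ?_⟩
      show c (α (c⁻¹ (c (trp x)))) = c (trp x)
      rw [MulAut.inv_apply_self, hv]
  unfold fixedCard
  rw [e, Set.ncard_image_of_injective _ c.injective]

theorem fixedCard_table {α : MulAut Gp} {f : Pt → Pt} (hf : HasTable α f) (fN : ℕ → ℕ)
    (hfN : ∀ x : Pt, (f x).1 = fN x.1) : fixedCard α = fixCount fN := by
  have e : {u : Gp | u ∈ Set.range trp ∧ α u = u} = trp '' {x : Pt | fN x.1 = x.1} := by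
    ext u
    constructor
    · rintro ⟨⟨x, rfl⟩, hu⟩
      rw [hf] at hu
      exact ⟨x, (hfN x).symm.trans (congrArg Fin.val (trp_inj hu)), rfl⟩
    · rintro ⟨x, hx, rfl⟩
      exact ⟨⟨x, rfl⟩, (hf x).trans (congrArg trp (Fin.ext ((hfN x).trans hx)))⟩
  unfold fixedCard fixCount
  rw [e, Set.ncard_image_of_injective _ fun a b => trp_inj, ← List.toFinset_card_of_nodup (List.nodup_range.filter _),
    ← Set.ncard_coe_finset, ← Set.ncard_image_of_injective _ (Fin.val_injective (n := _))]
  congr 1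
  ext c
  simp only [Set.mem_image, Set.mem_ofPred_eq, List.coe_toFinset, List.mem_filter, List.mem_range, Nat.beq_eq]
  constructor
  · rintro ⟨x, hx, rfl⟩
    exact ⟨pt_n x, hx⟩
  · rintro ⟨hc, hx⟩
    exact ⟨⟨c, hc⟩, hx, rfl⟩

theorem count_zero : fixedCard PairAut.tau = 360 := by
  rw [fixedCard_table tau_table tauN fun x => rfl]
  exact fix_counts.1

theorem count_one : fixedCard (outerAut (trp ptA)) = 64 := by
  rw [fixedCard_table (outerAut_table _) fOne fOne_spec]
  exact fix_counts.2.1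

theorem count_two : fixedCard (outerAut (trp ptA * trp ptB)) = 72 := by
  rw [fixedCard_table (outerAut_table _) fTwo fTwoP_val]
  exact fix_counts.2.2

theorem distinct : ¬ IsConj PairAut.tau (outerAut (trp ptA)) ∧
    ¬ IsConj PairAut.tau (outerAut (trp ptA * trp ptB)) ∧
    ¬ IsConj (outerAut (trp ptA)) (outerAut (trp ptA * trp ptB)) := by
  refine ⟨fun h => ?_, fun h => ?_, fun h => ?_⟩ <;>
  · have := fixedCard_conj h
    simp only [count_zero, count_one, count_two] at this
    omega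

end

end CfsgLib.Spor.Fi22OuterInv
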