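/-
The twisted involutions above two permutations of blocks, found by a computer search.
-/
import Cfsg.Agent.Lib.Spor.TC.Steps

set_option autoImplicit false
set_option maxRecDepth 100000

namespace CfsgLib.Spor.Fi22OuterInv

open CfsgLib.Spor.TC

/-- The twisted images of the generators. -/
def twistA : List (List ℕ) := [[1, 514, 290, 814, 770, 20, 122, 642, 530, 512], [1, 784, 997, 489, 270, 449, 904, 677, 268, 512]]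

/-- The twisted squares. -/
def twistSq : List ℕ := [58, 730]

/-- Each twisted involution but some as the conjugate of an earlier one. -/
def twistTree : List (List (ℕ × ℕ × ℕ)) := [[(870, 2, 64), (338, 4, 64), (116, 5, 64), (122, 6, 64), (66, 7, 64), (628, 4, 870), (850, 5, 870), (860, 6, 870), 
    (868, 7, 870), (358, 5, 338), (360, 6, 338), (336, 7, 338), (78, 6, 116), (118, 7, 116), (632, 7, 122), (576, 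
    5, 628), (590, 6, 628), (630, 7, 628), (872, 6, 850), (848, 7, 850), (350, 7, 860), (348, 6, 358), (356, 7, 
    358), (874, 7, 360), (588, 7, 78), (634, 6, 576), (578, 7, 576), (76, 7, 590), (362, 7, 872), (862, 7, 348), 
    (120, 7, 634), (871, 2, 65), (339, 4, 65), (117, 5, 65), (123, 6, 65), (67, 7, 65), (629, 4, 871), (851, 5, 
    871), (861, 6, 871), (869, 7, 871), (359, 5, 339), (361, 6, 339), (337, 7, 339), (79, 6, 117), (119, 7, 117), 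
    (633, 7, 123), (577, 5, 629), (591, 6, 629), (631, 7, 629), (873, 6, 851), (849, 7, 851), (351, 7, 861), (349, 
    6, 359), (357, 7, 359), (875, 7, 361), (589, 7, 79), (635, 6, 577), (579, 7, 577), (77, 7, 591), (363, 7, 873), 
    (863, 7, 349), (121, 7, 635)], [(848, 1, 66), (419, 2, 66), (348, 4, 66), (394, 6, 66), (103, 7, 66), (590, 
    8, 66), (177, 2, 848), (664, 6, 848), (373, 7, 848), (701, 4, 419), (107, 6, 419), (390, 7, 419), (943, 8, 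
    419), (660, 6, 348), (377, 7, 348), (849, 1, 67), (418, 2, 67), (349, 4, 67), (395, 6, 67), (102, 7, 67), (591, 
    8, 67), (176, 2, 849), (665, 6, 849), (372, 7, 849), (700, 4, 418), (106, 6, 418), (391, 7, 418), (942, 8, 
    418), (661, 6, 349), (376, 7, 349), (860, 1, 78), (431, 2, 78), (336, 4, 78), (902, 6, 78), (619, 7, 78), (578, 
    8, 78), (189, 2, 860), (148, 6, 860), (889, 7, 860), (689, 4, 431), (615, 6, 431), (906, 7, 431), (931, 8, 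
    431), (152, 6, 336), (885, 7, 336), (861, 1, 79), (430, 2, 79), (337, 4, 79), (903, 6, 79), (618, 7, 79), (579, 
    8, 79), (188, 2, 861), (149, 6, 861), (888, 7, 861), (688, 4, 430), (614, 6, 430), (907, 7, 430), (930, 8, 
    430), (153, 6, 337), (884, 7, 337)]]

/-- The others, with conjugators to the three involutions. -/
def twistReps : List (List (ℕ × ℕ × List ℕ)) := [[(64, 1, [6, 4, 5, 3, 4, 2, 3, 1, 2, 0, 1, 5, 3, 4, 2, 3, 1, 2, 0, 1, 0, 1, 0, 2, 1, 3, 2, 4, 3, 5, 8, 3, 7, 4, 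
    3, 1, 2, 0, 1, 0, 1, 0, 2, 1, 3, 4, 7, 3, 8, 1, 2, 3, 7, 4, 3, 2, 1, 0, 1, 2, 3, 4, 7, 3, 2, 1, 6, 5, 4, 2, 
    3, 1, 2, 0, 1, 0, 1, 0, 2, 1, 3, 2, 4, 5, 6, 7, 8, 3, 7, 5, 4, 3, 1, 2, 0, 1, 0, 1, 0, 2, 1, 3, 4, 5, 7, 3, 
    8, 7]), (65, 2, [5, 3, 4, 2, 3, 1, 2, 0, 1, 7, 3, 1, 2, 0, 1, 0, 1, 0, 2, 1, 3, 7, 6, 5, 4, 2, 3, 1, 2, 0, 
    1, 0, 1, 0, 2, 1, 3, 2, 4, 5, 6, 1, 2, 3, 7, 5, 4, 3, 2, 1, 0, 1, 2, 3, 4, 5, 7, 3, 2, 1, 8, 7, 4, 3, 1, 2, 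
    0, 1, 0, 1, 0, 2, 1, 3, 4, 7, 8, 1, 2, 3, 7, 4, 3, 2, 1, 0, 1, 2, 3, 4, 7, 3, 0, 1, 7, 8, 1, 2, 3, 7, 4, 3, 
    2, 1, 0, 1, 2, 3, 4, 7, 3, 2, 1, 8, 7])], [(66, 1, [1, 3, 7, 5, 4, 3, 1, 2, 0, 1, 0, 1, 0, 2, 1, 3, 4, 5, 7, 
    3, 1, 2, 3, 7, 4, 3, 2, 1, 0, 1, 2, 3, 4, 7, 3, 2, 1, 6, 5, 4, 3, 1, 2, 0, 1, 0, 1, 0, 2, 1, 3, 4, 5, 6, 8, 
    7, 4, 3, 1, 2, 0, 1, 0, 1, 0, 2, 1, 3, 4, 7, 8, 7, 8, 3, 7, 5, 4, 3, 1, 2, 0, 1, 0, 1, 0, 2, 1, 3, 4, 5, 7, 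
    3, 8, 7, 1, 2, 0, 1, 7, 8, 1, 2, 3, 7, 4, 3, 2, 1, 0, 1, 2, 3, 4, 7, 3, 2, 1, 8, 7]), (67, 2, [3, 4, 2, 3, 
    7, 8, 3, 4, 5, 2, 3, 4, 1, 2, 3, 7, 6, 5, 4, 3, 2, 1, 8, 3, 7, 4, 3, 1, 2, 0, 1, 0, 1, 0, 2, 1, 3, 4, 7, 3, 
    8, 1, 2, 3, 7, 4, 3, 2, 1, 0, 1, 2, 3, 4, 7, 3, 2, 1, 8, 7, 5, 4, 3, 1, 2, 0, 1, 0, 1, 0, 2, 1, 3, 4, 5, 7, 
    8, 6, 5, 4, 3, 1, 2, 0, 1, 0, 1, 0, 2, 1, 3, 4, 5, 6, 3, 4, 2, 3, 7, 8, 1, 2, 3, 7, 4, 3, 2, 1, 0, 1, 2, 3, 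
    4, 7, 3, 2, 1, 8, 7, 3, 2, 4, 3, 7, 8, 3, 7, 5, 4, 3, 1, 2, 0, 1, 0, 1, 0, 2, 1, 3, 4, 5, 7, 3, 8, 7, 1, 2, 
    0, 1, 7, 8, 1, 2, 3, 7, 4, 3, 2, 1, 0, 1, 2, 3, 4, 7, 3, 2, 1, 8, 7, 5, 3, 4, 2, 3, 7, 8, 5, 4, 1, 2, 3, 7, 
    6, 5, 4, 3, 2, 1, 0, 1, 2, 3, 4, 5, 6, 7, 3, 2, 1, 4, 5, 8, 7, 3, 2, 4, 3, 5, 7, 8, 3, 7, 5, 4, 3, 1, 2, 0, 
    1, 0, 1, 0, 2, 1, 3, 4, 5, 7, 3, 8, 7]), (78, 1, [4, 3, 7, 8, 7, 4, 5, 3, 4, 2, 3, 7, 6, 5, 4, 7, 5, 4, 3, 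
    2, 1, 0, 1, 2, 3, 4, 5, 7, 3, 2, 1, 5, 4, 2, 3, 1, 2, 0, 1, 0, 1, 0, 2, 1, 3, 2, 4, 5, 4, 3, 1, 2, 0, 1, 0, 
    1, 0, 2, 1, 3, 4, 7, 8, 1, 2, 3, 7, 4, 3, 2, 1, 0, 1, 2, 3, 4, 7, 3, 2, 1, 3, 7, 5, 4, 3, 1, 2, 0, 1, 0, 1, 
    0, 2, 1, 3, 4, 5, 7, 3, 8, 7, 1, 2, 0, 1, 5, 3, 4, 2, 3, 7, 8, 5, 4, 1, 2, 3, 7, 6, 5, 4, 3, 2, 1, 0, 1, 2, 
    3, 4, 5, 6, 7, 3, 2, 1, 4, 5, 8, 7, 3, 2, 4, 3, 5, 7, 8, 3, 7, 5, 4, 3, 1, 2, 0, 1, 0, 1, 0, 2, 1, 3, 4, 5, 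
    7, 3, 8, 7, 4, 3, 7, 6, 5, 4, 3, 1, 2, 0, 1, 0, 1, 0, 2, 1, 3, 4, 5, 6, 7, 3, 4, 3, 7, 5, 4, 3, 1, 2, 0, 1, 
    0, 1, 0, 2, 1, 3, 4, 5, 7, 3]), (79, 0, [3, 7, 4, 5, 2, 3, 4, 0, 1, 2, 3, 7, 8, 7, 5, 3, 4, 1, 2, 3, 7, 6, 
    5, 4, 7, 4, 3, 2, 1, 0, 1, 2, 3, 4, 7, 3, 2, 1, 6, 5, 4, 3, 1, 2, 0, 1, 0, 1, 0, 2, 1, 3, 4, 5, 6, 8, 1, 2, 
    3, 7, 6, 5, 4, 3, 2, 1, 0, 1, 2, 3, 4, 5, 6, 7, 3, 2, 1, 4, 1, 2, 3, 7, 5, 4, 3, 2, 1, 0, 1, 2, 3, 4, 5, 7, 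
    3, 2, 1, 4, 8])]]

end CfsgLib.Spor.Fi22OuterInv
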