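/-
Codes for the kernel of the action on the blocks and their products.
-/
import Cfsg.Agent.Lib.Spor.Fi22OuterInv.TwistValues
import Cfsg.Agent.Lib.Spor.Fi22OuterInv.BlockDefs
import Cfsg.Agent.Lib.Spor.Fi22OuterInv.CentValues
import Cfsg.Agent.Lib.Spor.TC.Strict

set_option autoImplicit false

namespace CfsgLib.Spor.Fi22OuterInv

open CfsgLib.Spor.TC CfsgLib.Spor.Fi22 CfsgLib.Spor.Fi22Out
open CfsgLib.Spor.PairAut (cBit eIdx eW jW zW tW trW)

noncomputable section

/-- The commutator bits. -/
def tab9 (i k : Fin 9) : Bool := cBit i.1 k.1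

/-- The sign of a product over a list. -/
def coc (a b : Fin 9 → Bool) : List (Fin 9) → Bool
  | [] => false
  | i :: l => xor (b i && l.foldr (fun k r => xor (a k && tab9 k i) r) false) (coc a b l)

/-- The bits of a code. -/
def bitsC (c : ℕ) (k : Fin 9) : Bool := c.testBit k.1

/-- The product of codes. -/
def mulC (a b : ℕ) : ℕ :=
  ((a ^^^ b) % 1024) ^^^ (if coc (bitsC a) (bitsC b) (List.finRange 9) then 512 else 0)

/-- The twisted image of a code. -/
def alphaC (j c : ℕ) : ℕ :=
  strict (if c.testBit 9 then (twistA.getD j []).getD 9 0 else 0) fun a =>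
    strict ((List.finRange 9).foldr (fun k r => strict (if bitsC c k then (twistA.getD j []).getD k.1 0 else 0) fun a =>
      strict r fun r => mulC a r) 0) fun r => mulC a r

/-- The word of a code. -/
def codeWord (c : ℕ) : List ℕ :=
  zW (c.testBit 9) ++ (List.finRange 9).flatMap fun k => if bitsC c k then eW.getD (eIdx k.1) [] else []

/-- The word of the odd involution of a class. -/
def repWord (j : ℕ) : List ℕ := genWord (repL.getD j [])

/-- A code of a twisted involution. -/
def twistOK (j e : ℕ) : Bool :=
  strict (alphaC j e) fun a => strict (mulC e a) fun b => strict (twistSq.getD j 0) fun c => Nat.beq (mulC b c) 0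

/-- The code of a generator. -/
def genCode (k : ℕ) : ℕ := 2 ^ k

/-- The words of the inner parts of the three involutions. -/
def targetW (t : ℕ) : List ℕ := if t == 0 then [] else if t == 1 then trW aW else trW aW ++ trW bW

end

end CfsgLib.Spor.Fi22OuterInv
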