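/-
The twisted involutions, by kernel evaluation.
-/
import Cfsg.Agent.Lib.Spor.Fi22OuterInv.TwistDefs

set_option autoImplicit false
set_option maxRecDepth 100000
set_option maxHeartbeats 0

namespace CfsgLib.Spor.Fi22OuterInv

open CfsgLib.Spor.TC CfsgLib.Spor.Fi22 CfsgLib.Spor.Fi22Out
open CfsgLib.Spor.PairAut (cBit eIdx eW eSq jW zW tW trW same)

theorem squares_false : ∀ k : Fin 9, eSq.getD (eIdx k.1) false = false := by decide +kernel

theorem twist_gens : ((List.range 2).all fun j => ((List.range 9).all fun k =>
      same (repWord j ++ tW (eW.getD (eIdx k) []) ++ (repWord j).reverse) (codeWord ((twistA.getD j []).getD k 0))) &&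
    same (repWord j ++ jW ++ (repWord j).reverse) (codeWord ((twistA.getD j []).getD 9 0)) &&
    same (repWord j ++ tW (repWord j)) (codeWord (twistSq.getD j 0))) = true := by decide +kernel

theorem twist_cover : ((List.range 2).all fun j => (List.range 1024).all fun e => !twistOK j e ||
    ((twistTree.getD j []).any fun x => Nat.beq x.1 e) || ((twistReps.getD j []).any fun x => Nat.beq x.1 e)) = true := by
  decide +kernel

theorem twist_tree : ((List.range 2).all fun j => (List.range (twistTree.getD j []).length).all fun i =>
    let e := (twistTree.getD j []).getD i (0, 0, 0)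
    Nat.blt e.2.1 10 && Nat.beq (mulC (mulC (genCode e.2.1) e.2.2) (alphaC j (genCode e.2.1))) e.1 &&
      (((twistReps.getD j []).map Prod.fst).contains e.2.2 ||
        (((twistTree.getD j []).take i).map Prod.fst).contains e.2.2)) = true := by decide +kernel

theorem twist_reps : ((List.range 2).all fun j => (twistReps.getD j []).all fun e =>
    Nat.blt e.2.1 3 && allBelow 9 e.2.2 &&
      same (e.2.2 ++ codeWord e.1 ++ repWord j ++ (tW e.2.2).reverse) (targetW e.2.1)) = true := by decide +kernel

end CfsgLib.Spor.Fi22OuterInv
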