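/-
Every twisted involution above one of the two permutations gives one of the three outer involutions.
-/
import Cfsg.Agent.Lib.Spor.Fi22OuterInv.BlockClasses
import Cfsg.Agent.Lib.Spor.Fi22OuterInv.TwistChecks
import Cfsg.Agent.Lib.Spor.Fi22OuterInv.Distinct

set_option autoImplicit false

namespace CfsgLib.Spor.Fi22OuterInv

open CfsgLib.Spor.TC CfsgLib.Spor.Fi22 CfsgLib.Spor.Fi22Out MulAction
open CfsgLib.Spor.PairAut (cBit eIdx eIdx_lt eW eSq jW zW tW trW jg gv zp Gens lprod span E0 C0)

noncomputable section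

attribute [local instance] actionH

theorem gens9 : Gens jg gv (fun _ => false) tab9 where
  zz := PairAut.jg_sq
  ne := PairAut.jg_ne
  comm := PairAut.gv_comm
  square k := by rw [PairAut.gv_sq, squares_false]
  conj := PairAut.gv_conj

theorem lprod_mul (a b : Fin 9 → Bool) : ∀ l : List (Fin 9),
    lprod gv a l * lprod gv b l = zp jg (coc a b l) * lprod gv (fun k => xor (a k) (b k)) l
  | [] => by simp [lprod, coc, zp]
  | i :: l => by
    have hc : ∀ e : Fin 9 → Bool, lprod gv e (i :: l) = (if e i then gv i else 1) * lprod gv e l :=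
      fun e => List.prod_cons
    have ih := lprod_mul a b l
    have hr := gens9.conj_lprod a i l
    rw [hc, hc, hc, coc]
    generalize l.foldr (fun k r => xor (a k && tab9 k i) r) false = r at hr ⊢
    rw [mul_inv_eq_iff_eq_mul] at hr
    cases hb : b i
    · simp only [Bool.false_and, Bool.false_xor, Bool.xor_false, Bool.false_eq_true, if_false, one_mul]
      rw [mul_assoc, ih, ← mul_assoc, ← mul_assoc]
      congr 1
      split <;> [exact (gens9.zp_comm _ i).symm; simp]
    · simp only [if_true, Bool.true_and, Bool.xor_true]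
      rw [mul_assoc, ← mul_assoc (lprod gv a l), hr]
      cases ha : a i
      · simp only [Bool.not_false, Bool.false_eq_true, if_false, if_true, one_mul]
        rw [mul_assoc, ih, ← gens9.zp_mul, ← gens9.zp_comm r i, mul_assoc, ← mul_assoc (gv i), ← gens9.zp_comm, mul_assoc,
          mul_assoc]
      · simp only [Bool.not_true, Bool.false_eq_true, if_false, if_true, one_mul]
        rw [mul_assoc (gv i * zp jg r), ih, ← mul_assoc, ← mul_assoc (gv i),
          show gv i * gv i = 1 from gens9.square i, one_mul, ← mul_assoc, gens9.zp_mul]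

/-- The element of a code. -/
def cEl (c : ℕ) : Gp := zp jg (c.testBit 9) * lprod gv (bitsC c) (List.finRange 9)

theorem bitsC_mul (a b : ℕ) : bitsC (mulC a b) = (fun k => xor (bitsC a k) (bitsC b k)) ∧
    (mulC a b).testBit 9 = xor (coc (bitsC a) (bitsC b) (List.finRange 9)) (xor (a.testBit 9) (b.testBit 9)) := by
  have h512 : ∀ i, (512 : ℕ).testBit i = decide (9 = i) := fun i => Nat.testBit_two_pow (n := 9) (m := i)
  constructor
  · funext k
    have hk : k.1 < 9 := k.2
    unfold bitsC mulC
    rw [show (1024 : ℕ) = 2 ^ 10 from rfl, Nat.testBit_xor, Nat.testBit_mod_two_pow, Nat.testBit_xor]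
    rw [decide_eq_true (by omega : k.1 < 10), Bool.true_and]
    cases coc (bitsC a) (bitsC b) (List.finRange 9)
    · simp
    · simp [h512, decide_eq_false (show ¬ 9 = k.1 by omega)]
  · unfold mulC
    rw [show (1024 : ℕ) = 2 ^ 10 from rfl, Nat.testBit_xor, Nat.testBit_mod_two_pow, Nat.testBit_xor]
    cases coc (bitsC a) (bitsC b) (List.finRange 9)
    · simp
    · cases a.testBit 9 <;> cases b.testBit 9 <;> simp [h512]

theorem mulC_lt (a b : ℕ) : mulC a b < 1024 := by
  unfold mulC
  refine Nat.xor_lt_two_pow (n := 10) (Nat.mod_lt _ (by norm_num)) ?_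
  split <;> norm_num

theorem cEl_mul (a b : ℕ) : cEl a * cEl b = cEl (mulC a b) := by
  obtain ⟨e1, e2⟩ := bitsC_mul a b
  unfold cEl
  rw [e1, e2, ← gens9.zp_mul, ← gens9.zp_mul, ← mul_assoc, mul_assoc (zp jg (a.testBit 9)), ← gens9.zp_lprod,
    mul_assoc, mul_assoc, lprod_mul, ← mul_assoc, ← mul_assoc, gens9.zp_mul, gens9.zp_mul, gens9.zp_mul]
  congr 2
  cases a.testBit 9 <;> cases b.testBit 9 <;> cases coc (bitsC a) (bitsC b) (List.finRange 9) <;> rfl

theorem cEl_zero : cEl 0 = 1 := by
  have h : lprod gv (bitsC 0) (List.finRange 9) = 1 := by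
    unfold lprod
    exact List.prod_eq_one fun x hx => by
      obtain ⟨i, -, rfl⟩ := List.mem_map.1 hx
      simp [bitsC]
  unfold cEl
  rw [h, Nat.zero_testBit]
  simp [zp]

theorem el_flat (c : ℕ) : ∀ l : List (Fin 9),
    el (l.flatMap fun k => if bitsC c k then eW.getD (eIdx k.1) [] else []) = lprod gv (bitsC c) l
  | [] => rfl
  | i :: l => by
    rw [List.flatMap_cons, PairAut.el_app, el_flat c l, show lprod gv (bitsC c) (i :: l) =
      (if bitsC c i then gv i else 1) * lprod gv (bitsC c) l from List.prod_cons]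
    congr 1
    split <;> [rfl; exact PairAut.el_nil]

theorem el_codeWord (c : ℕ) : el (codeWord c) = cEl c := by
  rw [codeWord, PairAut.el_app, PairAut.el_zW, el_flat]
  rfl

theorem cEl_surj {e : Gp} (he : e ∈ E0) : ∃ c < 1024, cEl c = e := by
  haveI := PairAut.finiteGp
  obtain ⟨ε, f, rfl⟩ := gens9.rep (show e ∈ span jg gv from he)
  let g : Fin 10 → Bool := fun k => if h : k.1 < 9 then f ⟨k.1, h⟩ else ε
  refine ⟨Nat.ofBits g, Nat.ofBits_lt_two_pow g, ?_⟩
  unfold cEl
  rw [Nat.testBit_ofBits_lt g 9 (by norm_num), show bitsC (Nat.ofBits g) = f from funext fun k => by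
    unfold bitsC
    rw [Nat.testBit_ofBits_lt g k.1 (by omega)]
    simp [g, k.2]]
  simp [g]

theorem cEl_mem (c : ℕ) : cEl c ∈ E0 := by
  unfold cEl lprod
  refine mul_mem (PairAut.zp_mem _) (Subgroup.list_prod_mem _ fun x hx => ?_)
  obtain ⟨i, -, rfl⟩ := List.mem_map.1 hx
  split <;> [exact PairAut.gv_mem i; exact one_mem _]

theorem cEl_eq_one {c : ℕ} (hc : c < 1024) (h : cEl c = 1) : c = 0 := by
  haveI := PairAut.finiteGp
  let f : Fin 1024 → E0 := fun k => ⟨cEl k.1, cEl_mem _⟩
  have hs : Function.Surjective f := fun e => by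
    obtain ⟨k, hk, hke⟩ := cEl_surj e.2
    exact ⟨⟨k, hk⟩, Subtype.ext hke⟩
  have hb := hs.bijective_of_nat_card_le (by rw [Nat.card_fin]; exact PairAut.e0_card.2)
  exact congrArg Fin.val (hb.1 (a₁ := ⟨c, hc⟩) (a₂ := ⟨0, by norm_num⟩) (Subtype.ext (h.trans cEl_zero.symm)))

theorem eW_lt' (i : ℕ) : ∀ x ∈ eW.getD i [], x < 9 := PairAut.eW_lt i

theorem repWord_eq (j : Fin 2) : (repElt j : Gp) = el (repWord j.1) := rfl

theorem repWord_lt (j : Fin 2) : ∀ x ∈ repWord j.1, x < 9 := genWord_lt (repElt.rep_lt j)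

/-- The twisted map on the kernel is read off the codes. -/
theorem alpha_spec (j : Fin 2) (c : ℕ) :
    (repElt j : Gp) * PairAut.tau (cEl c) * (repElt j : Gp)⁻¹ = cEl (alphaC j.1 c) := by
  have h := List.all_eq_true.1 twist_gens j.1 (List.mem_range.2 j.2)
  simp only [Bool.and_eq_true, List.all_eq_true, List.mem_range] at h
  obtain ⟨⟨h1, h2⟩, -⟩ := h
  let φ : Gp →* Gp := (MulAut.conj (repElt j : Gp) * PairAut.tau : MulAut Gp).toMonoidHom
  show φ (cEl c) = _
  have hk : ∀ k : Fin 9, φ (gv k) = cEl ((twistA.getD j.1 []).getD k.1 0) := fun k => by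
    show (repElt j : Gp) * PairAut.tau (gv k) * (repElt j : Gp)⁻¹ = _
    rw [← el_codeWord, ← PairAut.eq_of_same (h1 k.1 k.2), PairAut.el_app, PairAut.el_app, el_reverse (repWord_lt j),
      ← PairAut.tau_el (PairAut.eW_lt _), repWord_eq]
    rfl
  have hj : φ jg = cEl ((twistA.getD j.1 []).getD 9 0) := by
    show (repElt j : Gp) * PairAut.tau jg * (repElt j : Gp)⁻¹ = _
    rw [← el_codeWord, ← PairAut.eq_of_same h2, PairAut.el_app, PairAut.el_app, el_reverse (repWord_lt j),
      PairAut.tau_jg, repWord_eq]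
    rfl
  have hl : ∀ l : List (Fin 9), φ (lprod gv (bitsC c) l) =
      cEl (l.foldr (fun k r => mulC (if bitsC c k then (twistA.getD j.1 []).getD k.1 0 else 0) r) 0) := by
    intro l
    induction l with
    | nil => rw [List.foldr_nil, cEl_zero, show lprod gv (bitsC c) [] = 1 from rfl, map_one]
    | cons i l ih =>
      rw [List.foldr_cons, ← cEl_mul, ← ih, show lprod gv (bitsC c) (i :: l) =
        (if bitsC c i then gv i else 1) * lprod gv (bitsC c) l from List.prod_cons, map_mul]
      congr 1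
      split <;> [exact hk i; rw [map_one, cEl_zero]]
  simp only [alphaC, strict_eq]
  rw [← cEl_mul, ← hl, cEl, map_mul]
  congr 1
  cases c.testBit 9
  · show φ 1 = cEl 0
    rw [map_one, cEl_zero]
  · exact hj

theorem genCode_inv {k : ℕ} (hk : k < 10) : cEl (genCode k) * cEl (genCode k) = 1 := by
  rw [cEl_mul, show mulC (genCode k) (genCode k) = 0 from sq_code ⟨k, hk⟩, cEl_zero]
where
  sq_code : ∀ k : Fin 10, mulC (genCode k.1) (genCode k.1) = 0 := by decide +kernel

/-- The inner parts of the three involutions. -/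
def target (t : Fin 3) : Gp := if t = 0 then 1 else if t = 1 then trp ptA else trp ptA * trp ptB

theorem target_word (t : Fin 3) : el (targetW t.1) = target t := by
  have ea : el (trW aW) = trp ptA := by
    obtain ⟨hw, hw0⟩ := (Classical.choose_spec (wordPt_spec named_ok.1)).2
    exact (trp_word (p := ptA) hw hw0).symm
  have eb : el (trW bW) = trp ptB := by
    obtain ⟨hw, hw0⟩ := (Classical.choose_spec (wordPt_spec named_ok.2.1)).2
    exact (trp_word (p := ptB) hw hw0).symm
  fin_cases t
  · exact PairAut.el_nil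
  · exact ea
  · show el (trW aW ++ trW bW) = trp ptA * trp ptB
    rw [PairAut.el_app, ea, eb]

/-- A twisted involution above a representative is conjugate to one of the three. -/
theorem twisted_class (j : Fin 2) {e : Gp} (he : e ∈ E0)
    (h : e * repElt j * PairAut.tau (e * repElt j) = 1) :
    ∃ (x : Gp) (t : Fin 3), x * (e * repElt j) * (PairAut.tau x)⁻¹ = target t := by
  obtain ⟨c, hc, rfl⟩ := cEl_surj he
  have hok : twistOK j.1 c = true := by
    have hsq : (repElt j : Gp) * PairAut.tau (repElt j : Gp) = cEl (twistSq.getD j.1 0) := by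
      have h2 := List.all_eq_true.1 twist_gens j.1 (List.mem_range.2 j.2)
      simp only [Bool.and_eq_true] at h2
      rw [← el_codeWord, ← PairAut.eq_of_same h2.2, PairAut.el_app, ← PairAut.tau_el (repWord_lt j), repWord_eq]
    have e : cEl c * (repElt j : Gp) * PairAut.tau (cEl c * (repElt j : Gp)) =
        cEl (mulC (mulC c (alphaC j.1 c)) (twistSq.getD j.1 0)) := by
      rw [← cEl_mul, ← cEl_mul, ← hsq, ← alpha_spec, map_mul]
      group
    simp only [twistOK, strict_eq]
    rw [cEl_eq_one (mulC_lt _ _) (e.symm.trans h)]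
    rfl
  have hrep : ∀ x ∈ twistReps.getD j.1 [], ∃ (g : Gp) (t : Fin 3),
      g * (cEl x.1 * repElt j) * (PairAut.tau g)⁻¹ = target t := fun x hx => by
    have h2 := List.all_eq_true.1 twist_reps j.1 (List.mem_range.2 j.2)
    simp only [List.all_eq_true, Bool.and_eq_true] at h2
    obtain ⟨⟨h3, h4⟩, h5⟩ := h2 x hx
    refine ⟨el x.2.2, ⟨x.2.1, Nat.le_of_ble_eq_true h3⟩, ?_⟩
    rw [← target_word, ← PairAut.eq_of_same h5, PairAut.el_app, PairAut.el_app, PairAut.el_app,
      el_reverse (PairAut.tW_lt _), el_codeWord, PairAut.tau_el (allBelow_spec h4), repWord_eq]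
    simp only [mul_assoc]
  have key : ∀ i, i < (twistTree.getD j.1 []).length → ∃ (g : Gp) (t : Fin 3),
      g * (cEl ((twistTree.getD j.1 []).getD i (0, 0, 0)).1 * repElt j) * (PairAut.tau g)⁻¹ = target t := by
    intro i
    induction i using Nat.strong_induction_on with
    | _ i ih =>
      intro hi
      have h2 := List.all_eq_true.1 (List.all_eq_true.1 twist_tree j.1 (List.mem_range.2 j.2)) i (List.mem_range.2 hi)
      simp only [Bool.and_eq_true, Bool.or_eq_true, List.contains_eq_mem, decide_eq_true_eq] at h2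
      obtain ⟨⟨h3, h4⟩, h5⟩ := h2
      set x := ((twistTree.getD j.1 []).getD i (0, 0, 0))
      obtain ⟨g, t, hg⟩ : ∃ (g : Gp) (t : Fin 3), g * (cEl x.2.2 * repElt j) * (PairAut.tau g)⁻¹ = target t := by
        rcases h5 with r | r
        · obtain ⟨y, hy, hyx⟩ := List.mem_map.1 r
          rw [← hyx]
          exact hrep y hy
        · obtain ⟨y, hy, hyx⟩ := List.mem_map.1 r
          obtain ⟨q, hq, rfl⟩ := List.mem_iff_getElem.1 hy
          rw [List.length_take] at hq
          have := ih q (by omega) (by omega)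
          rw [← hyx, List.getElem_take]
          rwa [List.getD_eq_getElem _ _ (by omega)] at this
      set k := cEl (genCode x.2.1)
      have hk : k * k = 1 := genCode_inv (Nat.le_of_ble_eq_true h3)
      refine ⟨g * k, t, ?_⟩
      rw [← hg, ← Nat.eq_of_beq_eq_true h4, ← cEl_mul, ← cEl_mul, ← alpha_spec, map_mul]
      calc g * k * (k * cEl x.2.2 * ((repElt j : Gp) * PairAut.tau k * (repElt j : Gp)⁻¹) * repElt j) *
            (PairAut.tau g * PairAut.tau k)⁻¹
          = g * (k * k) * (cEl x.2.2 * repElt j) * (PairAut.tau k * (PairAut.tau k)⁻¹) * (PairAut.tau g)⁻¹ := by group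
        _ = g * (cEl x.2.2 * repElt j) * (PairAut.tau g)⁻¹ := by rw [hk, mul_inv_cancel, mul_one, mul_one]
  have h2 := List.all_eq_true.1 (List.all_eq_true.1 twist_cover j.1 (List.mem_range.2 j.2)) c (List.mem_range.2 hc)
  simp only [hok, Bool.not_true, Bool.false_or, Bool.or_eq_true, List.any_eq_true] at h2
  rcases h2 with ⟨x, hx, hxc⟩ | ⟨x, hx, hxc⟩
  · obtain ⟨i, hi, rfl⟩ := List.mem_iff_getElem.1 hx
    rw [← Nat.eq_of_beq_eq_true hxc, ← List.getD_eq_getElem _ (0, 0, 0) hi]
    exact key i hi
  · rw [← Nat.eq_of_beq_eq_true hxc]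
    exact hrep x hx

end

end CfsgLib.Spor.Fi22OuterInv
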