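/-
Every non-inner automorphism of order two is conjugate to one of the three involutions.
-/
import Cfsg.Agent.Lib.Spor.Fi22OuterInv.Twist

set_option autoImplicit false

namespace CfsgLib.Spor.Fi22OuterInv

open CfsgLib.Spor.TC CfsgLib.Spor.Fi22 CfsgLib.Spor.Fi22Out MulAction
open CfsgLib.Spor.PairAut (pp C0 E0 PairSplit uW)

noncomputable section

attribute [local instance] actionH

theorem named_b : tauN bPt = bPt ∧ act1 aW bPt = bPt ∧ aPt ≠ bPt := by decide +kernel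

theorem ptB_val : ptB.1 = bPt := (Classical.choose_spec (wordPt_spec named_ok.2.1)).1

theorem tau_a : PairAut.tau (trp ptA) = trp ptA := trp_a_CS

theorem tau_b : PairAut.tau (trp ptB) = trp ptB := by
  rw [tau_trp]
  exact congrArg trp (Fin.ext (by rw [show (tauP ptB).1 = tauN ptB.1 from rfl, ptB_val, named_b.1]))

theorem ab_ne : trp ptA ≠ trp ptB := fun h =>
  named_b.2.2 (ptA_val.symm.trans ((congrArg Fin.val (trp_inj h)).trans ptB_val))

theorem ab_comm : Commute (trp ptA) (trp ptB) :=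
  (commute_trp_iff _ _).2 (Fin.ext (by rw [ptA_act, ptB_val, named_b.2.1]))

/-- The three involutions. -/
theorem target_fixed (t : Fin 3) : PairAut.tau (target t) = target t := by
  fin_cases t
  · exact map_one _
  · exact tau_a
  · show PairAut.tau (trp ptA * trp ptB) = trp ptA * trp ptB
    rw [map_mul, tau_a, tau_b]

theorem conj_tau_conj (x c : Gp) :
    MulAut.conj x * (MulAut.conj c * PairAut.tau) * (MulAut.conj x)⁻¹ =
      MulAut.conj (x * c * (PairAut.tau x)⁻¹) * PairAut.tau := by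
  rw [map_mul, map_mul, mul_assoc, mul_assoc, mul_assoc, mul_assoc, ← map_inv MulAut.conj x, PairAut.conj_mul_tau,
    map_inv]

/-- The neighbours of the first point are odd in number. -/
theorem card_nb : Nat.card {x : Pt // x ≠ pt0 ∧ zee • x = x} = 693 := by
  show Nat.card ↥{x : Pt | x ≠ pt0 ∧ zee • x = x} = 693
  rw [Nat.card_coe_set_eq, ← Set.ncard_image_of_injective _ (Fin.val_injective (n := _))]
  refine Eq.trans ?_ neighbours.2
  rw [← List.toFinset_card_of_nodup (List.nodup_range.filter _), ← Set.ncard_coe_finset]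
  refine congrArg Set.ncard (Set.ext fun c => ?_)
  simp only [Set.mem_image, Set.mem_ofPred_eq, List.coe_toFinset, List.mem_filter, List.mem_range, Bool.and_eq_true,
    Bool.not_eq_true']
  constructor
  · rintro ⟨x, ⟨h0, hz⟩, rfl⟩
    refine ⟨pt_lt x, Bool.eq_false_iff.2 fun r => h0 (Fin.ext (Nat.eq_of_beq_eq_true r)), ?_⟩
    rw [Nat.beq_eq, ← PairAut.zee_smul, hz]
  · rintro ⟨hc, h0, hz⟩
    refine ⟨⟨c, hc⟩, ⟨fun r => ?_, Fin.ext ?_⟩, rfl⟩
    · have e : c = 0 := congrArg Fin.val r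
      rw [e] at h0
      exact absurd h0 (by decide)
    · rw [PairAut.zee_smul]; exact Nat.eq_of_beq_eq_true hz

theorem move_neighbour {q : Pt} (h0 : q ≠ pt0) (hq : zee • q = q) : ∃ g : Gp, g • pt0 = pt0 ∧ g • pp = q := by
  have key : ∀ {q : Pt}, q ≠ pt0 → zee • q = q → ∃ g : Gp, g • pt0 = pt0 ∧ g • gpt 6 = q := by
    intro q h0 hq
    have h := allFrom_spec neighbours.1 q.1 (Nat.zero_le _) (by have := pt_lt q; omega)
    simp only [Bool.or_eq_true, Bool.not_eq_true'] at h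
    rcases h with (r | r) | r
    · exact absurd (Fin.ext (Nat.eq_of_beq_eq_true r)) h0
    · rw [← PairAut.zee_smul, hq, Nat.beq_refl] at r
      exact absurd r (by decide)
    · obtain ⟨g, hg, hgq⟩ := trans0 q r
      have := hg 0 List.mem_cons_self
      rw [gpt_zero] at this
      exact ⟨g, this, hgq⟩
  obtain ⟨g1, a1, b1⟩ := key h0 hq
  obtain ⟨g2, a2, b2⟩ := key PairAut.pp_ne (by
    have h := (commute_trp_iff zee pp).1 PairAut.comm_pair
    exact h)
  refine ⟨g1 * g2⁻¹, ?_, ?_⟩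
  · rw [mul_smul, inv_smul_eq_iff.2 a2.symm, a1]
  · rw [mul_smul, ← b2, inv_smul_smul, b1]

variable {F : Type} [Field F] [Fintype F] (hF : Fintype.card F = 4) (hp : PairSplit)
  (φ : ↥C0 →* MulAut (Cfsg.PSU 4 F 2)) (hφs : Function.Surjective φ) (hφk : Nat.card φ.ker = 1024)

include hF hp hφs hφk in
theorem classify_fixed {t : MulAut Gp} (ht : t * t = 1) (hout : t ∉ (MulAut.conj : Gp →* MulAut Gp).range)
    (h0 : t (trp pt0) = trp pt0) (h1 : t (trp pp) = trp pp) :
    ∃ a : Fin 3, IsConj t (PairAut.tau * MulAut.conj (target a)) := by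
  obtain ⟨g, hg | hg⟩ := Fi22Out.classify t
  · exact absurd ⟨g⁻¹, by rw [map_inv, eq_inv_of_mul_eq_one_right hg]⟩ hout
  obtain ⟨c, rfl⟩ : ∃ c, t = MulAut.conj c * PairAut.tau := by
    refine ⟨g⁻¹ * (el uW)⁻¹, ?_⟩
    rw [map_mul, map_inv, map_inv, PairAut.tau, mul_assoc, inv_mul_cancel_left, ← hg, inv_mul_cancel_left]
  obtain ⟨e0, e1⟩ := tauP_pair
  have hc0 : c • pt0 = pp := trp_inj (by
    rw [← conj_trp]
    rw [MulAut.mul_apply, MulAut.conj_apply, tau_trp, e1] at h1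
    exact h1)
  have hc1 : c • pp = pt0 := trp_inj (by
    rw [← conj_trp]
    rw [MulAut.mul_apply, MulAut.conj_apply, tau_trp, e0] at h0
    exact h0)
  let cc : P2 := ⟨c, Or.inr ⟨hc0, hc1⟩⟩
  have hct : c * PairAut.tau c = 1 := by
    refine PairAut.conj_inj ?_
    rw [map_one, ← ht, mul_assoc, ← mul_assoc PairAut.tau, PairAut.conj_mul_tau, mul_assoc (MulAut.conj (PairAut.tau c)),
      PairAut.tau_sq, mul_one, map_mul]
  have hsq : blockHom cc * blockHom cc = 1 := by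
    have e : cc * ⟨PairAut.tau c, tau_P2 cc.2⟩ = 1 := Subtype.ext hct
    conv_lhs => arg 2; rw [← blockHom_tau cc]
    rw [← map_mul, e, map_one]
  obtain ⟨x, j, hx⟩ := exists_block_conj hF hp φ hφs hφk hc0 hsq
  let d : P2 := x * cc * ⟨PairAut.tau x, tau_P2 x.2⟩⁻¹
  have hd : blockHom d = blockHom (repElt j) := by
    rw [← hx]
    simp only [d, map_mul, map_inv, blockHom_tau]
  have he : ((d : Gp) * (repElt j : Gp)⁻¹) ∈ E0 := by
    refine (mem_E0_iff hF hp φ hφs hφk (mul_mem d.2 (inv_mem (repElt j).2))).1 ?_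
    rw [show (⟨(d : Gp) * (repElt j : Gp)⁻¹, mul_mem d.2 (inv_mem (repElt j).2)⟩ : P2) = d * (repElt j)⁻¹ from
      Subtype.ext rfl, map_mul, map_inv, hd, mul_inv_cancel]
  have hde : (d : Gp) = (x : Gp) * c * (PairAut.tau x)⁻¹ := rfl
  obtain ⟨y, a, hy⟩ := twisted_class j he (by
    rw [inv_mul_cancel_right, hde, map_mul, map_mul, map_inv, PairAut.tau_tau]
    calc (x : Gp) * c * (PairAut.tau (x : Gp))⁻¹ * (PairAut.tau (x : Gp) * PairAut.tau c * (x : Gp)⁻¹)
        = (x : Gp) * (c * PairAut.tau c) * (x : Gp)⁻¹ := by group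
      _ = 1 := by rw [hct, mul_one, mul_inv_cancel])
  refine ⟨a, isConj_iff.2 ⟨MulAut.conj (y * (x : Gp)), ?_⟩⟩
  rw [conj_tau_conj, PairAut.conj_mul_tau, target_fixed, ← hy, inv_mul_cancel_right, hde, map_mul PairAut.tau]
  congr 2
  group

include hF hp hφs hφk in
theorem complete (hfix : ∀ t : MulAut Gp, t * t = 1 → ∃ p : Pt, t (trp p) = trp p) {t : MulAut Gp}
    (ht : t * t = 1) (hout : t ∉ (MulAut.conj : Gp →* MulAut Gp).range) :
    ∃ a : Fin 3, IsConj t (PairAut.tau * MulAut.conj (target a)) := by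
  classical
  have hstep : ∀ (u : Gp) {s : MulAut Gp}, s * s = 1 → s ∉ (MulAut.conj : Gp →* MulAut Gp).range →
      ((MulAut.conj u)⁻¹ * s * MulAut.conj u) * ((MulAut.conj u)⁻¹ * s * MulAut.conj u) = 1 ∧
      (MulAut.conj u)⁻¹ * s * MulAut.conj u ∉ (MulAut.conj : Gp →* MulAut Gp).range ∧
      (∀ p, s (trp (u • p)) = trp (u • p) → ((MulAut.conj u)⁻¹ * s * MulAut.conj u) (trp p) = trp p) ∧
      IsConj s ((MulAut.conj u)⁻¹ * s * MulAut.conj u) := by
    intro u s hs hso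
    refine ⟨?_, ?_, fun p hp' => ?_, isConj_iff.2 ⟨(MulAut.conj u)⁻¹, by rw [inv_inv]⟩⟩
    · calc (MulAut.conj u)⁻¹ * s * MulAut.conj u * ((MulAut.conj u)⁻¹ * s * MulAut.conj u)
          = (MulAut.conj u)⁻¹ * (s * s) * MulAut.conj u := by group
        _ = 1 := by rw [hs, mul_one, inv_mul_cancel]
    · rintro ⟨k, hk⟩
      refine hso ⟨u * k * u⁻¹, ?_⟩
      rw [map_mul, map_mul, hk, map_inv]
      group
    · show (MulAut.conj u)⁻¹ (s (MulAut.conj u (trp p))) = trp p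
      rw [MulAut.conj_apply, conj_trp, hp', ← conj_trp, ← MulAut.conj_apply, MulAut.inv_apply_self]
  obtain ⟨p, hp0⟩ := hfix t ht
  obtain ⟨u, rfl⟩ := trans_pt p
  obtain ⟨hs, hso, hsf, hsc⟩ := hstep u ht hout
  set s := (MulAut.conj u)⁻¹ * t * MulAut.conj u
  have hs0 := hsf pt0 hp0
  choose f hf using image_trp s
  have hff : ∀ x, f (f x) = x := fun x => trp_inj (by rw [← hf, ← hf, ← MulAut.mul_apply, hs, MulAut.one_apply])
  let N := {x : Pt // x ≠ pt0 ∧ zee • x = x}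
  have hN : ∀ x : Pt, x ≠ pt0 ∧ zee • x = x → f x ≠ pt0 ∧ zee • f x = f x := fun x hx => by
    have hf0 : f pt0 = pt0 := trp_inj ((hf pt0).symm.trans hs0)
    refine ⟨fun r => hx.1 (by rw [← hff x, r, hf0]), (commute_trp_iff _ _).1 ?_⟩
    have h2 := ((commute_trp_iff zee x).2 hx.2).map s.toMonoidHom
    rw [show s.toMonoidHom zee = zee from trp_pt0 ▸ hs0, show s.toMonoidHom (trp x) = trp (f x) from hf x] at h2
    exact h2
  let σ : Equiv.Perm N := ⟨fun x => ⟨f x.1, hN _ x.2⟩, fun x => ⟨f x.1, hN _ x.2⟩,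
    fun x => Subtype.ext (hff x.1), fun x => Subtype.ext (hff x.1)⟩
  obtain ⟨⟨q, hq0, hq⟩, hqf⟩ := Equiv.Perm.exists_fixed_point_of_prime (p := 2) (n := 1) (hp := ⟨Nat.prime_two⟩)
    (show ¬ 2 ∣ Fintype.card N by rw [← Nat.card_eq_fintype_card, card_nb]; norm_num) (σ := σ) (by
      rw [pow_one, pow_two]
      exact Equiv.ext fun x => Subtype.ext (hff x.1))
  obtain ⟨g, g0, g1⟩ := move_neighbour hq0 hq
  obtain ⟨hr, hro, hrf, hrc⟩ := hstep g hs hso
  have hq' : s (trp q) = trp q := (hf q).trans (congrArg (fun z : N => trp z.1) hqf)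
  obtain ⟨a, ha⟩ := classify_fixed hF hp φ hφs hφk hr hro (hrf pt0 (by rw [g0]; exact hs0))
    (hrf pp (by rw [g1]; exact hq'))
  exact ⟨a, hsc.trans (hrc.trans ha)⟩

end

end CfsgLib.Spor.Fi22OuterInv
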