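/-
The outer involutions of a group of type M(22).
-/
import Cfsg.Agent.Lib.Spor.Fi22OuterInv.Complete
import Cfsg.Agent.Lib.Spor.PairAut.Transport
import Cfsg.Agent.Lib.Spor.Tri.InvolFixed

set_option autoImplicit false

namespace CfsgLib.Spor.Fi22OuterInv

open CfsgLib.Spor.TC CfsgLib.Spor.Fi22 CfsgLib.Spor.Fi22Out CfsgLib.Spor.Tri
open CfsgLib.Spor.PairAut (pp pp_ne jg jg_eq C0 mem_C0 PairSplit comm_pair map_centralizer_singleton)

noncomputable section

attribute [local instance] actionH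

variable {G : Type*} [Group G] [Finite G] {D : Set G}

/-- The centralizer of the product of the pair, in the model. -/
theorem model_pair (hD : Cfsg.IsThreeTranspositionGroup D) (hprim : Cfsg.IsPrimitiveUnderConj D)
    (h22 : Cfsg.IsOfTypeM22 G D) (e : Gp ≃* G) (hmem : ∀ p : Pt, e (trp p) ∈ D) :
    PairSplit ∧ ∃ (F : Type) (_ : Field F) (_ : Fintype F), Fintype.card F = 4 ∧
      ∃ φ : ↥C0 →* MulAut (Cfsg.PSU 4 F 2), Function.Surjective φ ∧ Nat.card φ.ker = 1024 := by
  have h := Level.hyp_of_prim hD hprim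
  set d₁ := e (trp pt0)
  set d₂ := e (trp pp)
  have he1 : e zee = d₁ := congrArg e trp_pt0.symm
  have he2 : e (trp pp) = d₂ := rfl
  have he3 : e jg = d₁ * d₂ := by rw [jg_eq, map_mul, he1]
  have hb : d₂ ∈ perp D d₁ := ⟨hmem pp, fun r => pp_ne (trp_inj (e.injective r)),
    (trp_pt0 ▸ comm_pair : Commute (trp pt0) (trp pp)).map e.toMonoidHom⟩
  obtain ⟨-, -, E, -, hEC, -, hEcard, -, -, -, hEN, F, hFf, hFt, hF, ⟨Φ⟩⟩ :=
    Level.pair_structure h hprim h22 (hmem pt0) hb
  have hsplit : PairSplit := by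
    intro c hc'
    obtain ⟨d, W⟩ := Level.local22 h hprim h22
    have hcc : e c ∈ Subgroup.centralizer ({d₁ * d₂} : Set G) := by
      rw [Subgroup.mem_centralizer_singleton_iff, ← he3, ← map_mul, ← map_mul, mem_C0.1 hc']
    rcases Level.pair_cases h W.norel (hmem pt0) hb hcc with r | ⟨r1, r2⟩
    · obtain ⟨r1, r2⟩ : Commute (e c) d₁ ∧ Commute (e c) d₂ :=
        ⟨(Subgroup.mem_centralizer_iff.1 r d₁ (by simp [d₁, d₂])).symm, (Subgroup.mem_centralizer_iff.1 r d₂ (by simp [d₁, d₂])).symm⟩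
      refine Or.inl ⟨e.injective ?_, e.injective ?_⟩
      · rw [map_mul, map_mul, map_inv, he1, r1.eq, mul_inv_cancel_right]
      · rw [map_mul, map_mul, map_inv, he2, r2.eq, mul_inv_cancel_right]
    · refine Or.inr ⟨e.injective ?_, e.injective ?_⟩
      · rw [map_mul, map_mul, map_inv, he1, he2, r1]
      · rw [map_mul, map_mul, map_inv, he1, he2, r2]
  let k : ↥C0 ≃* ↥(Subgroup.centralizer ({d₁ * d₂} : Set G)) :=
    (C0.equivMapOfInjective e.toMonoidHom e.injective).trans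
      (MulEquiv.subgroupCongr (by rw [map_centralizer_singleton, he3]))
  let φ : ↥C0 →* MulAut (Cfsg.PSU 4 F 2) :=
    (Φ.toMonoidHom.comp (QuotientGroup.mk' _)).comp k.toMonoidHom
  refine ⟨hsplit, F, hFf, hFt, hF, φ, (Φ.surjective.comp (QuotientGroup.mk'_surjective _)).comp k.surjective, ?_⟩
  have hk : φ.ker = (E.subgroupOf (Subgroup.centralizer ({d₁ * d₂} : Set G))).comap k.toMonoidHom := by
    ext x
    rw [MonoidHom.mem_ker, Subgroup.mem_comap, ← QuotientGroup.eq_one_iff]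
    exact Φ.map_eq_one_iff
  rw [hk, Subgroup.comap_equiv_eq_map_symm', Subgroup.card_map_of_injective k.symm.injective,
    Nat.card_congr (Subgroup.subgroupOfEquivOfLe hEC).toEquiv, hEcard]
  norm_num

theorem congr_apply {A B : Type*} [Group A] [Group B] (e : A ≃* B) (α : MulAut A) (y : B) :
    MulAut.congr e α y = e (α (e.symm y)) := rfl

theorem congr_conj {A B : Type*} [Group A] [Group B] (e : A ≃* B) (x : A) :
    MulAut.congr e (MulAut.conj x) = MulAut.conj (e x) := by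
  ext y
  rw [congr_apply, MulAut.conj_apply, MulAut.conj_apply, map_mul, map_mul, map_inv, e.apply_symm_apply]

theorem mem_map_iso {A B : Type*} [Group A] [Group B] (e : A ≃* B) (K : Subgroup A) (y : B) :
    y ∈ K.map e.toMonoidHom ↔ e.symm y ∈ K := Subgroup.mem_map_equiv

/-- The outer involutions of a group of type M(22). -/
theorem outer_involutions (hD : Cfsg.IsThreeTranspositionGroup D) (hprim : Cfsg.IsPrimitiveUnderConj D)
    (h22 : Cfsg.IsOfTypeM22 G D) : ∃ (s : MulAut G) (a b : G) (Cs : Subgroup G), orderOf s = 2 ∧ s ∉ (MulAut.conj : G →* MulAut G).range ∧ (∀ g : G, g ∈ Cs ↔ s g = g) ∧ Nonempty (↥Cs ≃* MulAut (Cfsg.Omega (ZMod 2) (Cfsg.quadFormPlus 4 (ZMod 2)))) ∧ a ∈ D ∧ b ∈ D ∧ a ≠ b ∧ Commute a b ∧ s a = a ∧ s b = b ∧ (∀ t : MulAut G, orderOf t = 2 → t ∉ (MulAut.conj : G →* MulAut G).range → (IsConj t s ∨ IsConj t (s * MulAut.conj a) ∨ IsConj t (s * MulAut.conj (a * b)))) ∧ ¬ IsConj s (s * MulAut.conj a) ∧ ¬ IsConj s (s * MulAut.conj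 (a * b)) ∧ ¬ IsConj (s * MulAut.conj a) (s * MulAut.conj (a * b)) ∧ (∀ g : G, (s * MulAut.conj a) g = g ↔ g ∈ Cs ⊓ Subgroup.centralizer ({a} : Set G)) ∧ Nonempty (↥(Cs ⊓ Subgroup.centralizer ({a} : Set G)) ≃* Multiplicative (ZMod 2) × Cfsg.PSp 3 (ZMod 2)) ∧ ∃ Csab O : Subgroup G, (∀ g : G, g ∈ Csab ↔ (s * MulAut.conj (a * b)) g = g) ∧ O = (Cfsg.pCore 2 ↥Csab).map Csab.subtype ∧ Cfsg.IsElementaryAbelian 2 O ∧ Nat.card O = 64 ∧ ∃ _ : (O.subgroupOf Csab).Normal, Nonempty (↥Csab ⧸ O.subgroupOf Csab ≃* Cfsg.isometryGroup (ZMod 2) (Cfsg.quadFormMinus 2 (ZMod 2) 1 1)) := by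
  have h := Level.hyp_of_prim hD hprim
  obtain ⟨e, he⟩ := Fi22Model.exists_iso hD hprim h22
  have hmem : ∀ p : Pt, e (trp p) ∈ D := fun p => he ▸ ⟨_, Fi22Model.trp_mem p, rfl⟩
  obtain ⟨hsplit, F, hFf, hFt, hF, φ, hφs, hφk⟩ := model_pair hD hprim h22 e hmem
  let A : MulAut Gp ≃* MulAut G := MulAut.congr e
  have hA1 : A (outerAut (trp ptA)) = A PairAut.tau * MulAut.conj (e (trp ptA)) := by
    rw [outerAut, map_mul, congr_conj]
  have hA2 : A (outerAut (trp ptA * trp ptB)) = A PairAut.tau * MulAut.conj (e (trp ptA) * e (trp ptB)) := by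
    rw [outerAut, map_mul, congr_conj, map_mul]
  have hfixA : ∀ (α : MulAut Gp) (g : G), A α g = g ↔ α (e.symm g) = e.symm g := fun α g => by
    rw [congr_apply]
    exact ⟨fun r => e.injective (by rw [r, e.apply_symm_apply]), fun r => by rw [r, e.apply_symm_apply]⟩
  have hinner : ∀ α : MulAut Gp, A α ∈ (MulAut.conj : G →* MulAut G).range → α ∈ (MulAut.conj : Gp →* MulAut Gp).range := by
    rintro α ⟨g, hg⟩
    refine ⟨e.symm g, A.injective ?_⟩
    rw [congr_conj, e.apply_symm_apply, hg]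
  have hcent : (CS ⊓ Subgroup.centralizer ({trp ptA} : Set Gp)).map e.toMonoidHom =
      CS.map e.toMonoidHom ⊓ Subgroup.centralizer ({e (trp ptA)} : Set G) := by
    rw [Subgroup.map_inf _ _ _ e.injective, map_centralizer_singleton]
  have hnc : ∀ {α β : MulAut Gp}, IsConj (A α) (A β) → IsConj α β := fun {α β} r => by
    have := A.symm.toMonoidHom.map_isConj r
    simpa using this
  refine ⟨A PairAut.tau, e (trp ptA), e (trp ptB), CS.map e.toMonoidHom, ?_, ?_, ?_, ?_, hmem _, hmem _,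
    fun r => ab_ne (e.injective r), ab_comm.map e.toMonoidHom, ?_, ?_, ?_, ?_, ?_, ?_, ?_, ?_, ?_⟩
  · rw [A.orderOf_eq]
    haveI : Fact (Nat.Prime 2) := ⟨Nat.prime_two⟩
    exact orderOf_eq_prime (by rw [pow_two]; exact PairAut.tau_sq) fun r => PairAut.tau_outer 1 (by rw [map_one, r])
  · intro r
    obtain ⟨k, hk⟩ := hinner _ r
    exact PairAut.tau_outer k hk
  · intro g
    rw [mem_map_iso, hfixA]
    rfl
  · obtain ⟨i⟩ := cs_iso
    exact ⟨(CS.equivMapOfInjective e.toMonoidHom e.injective).symm.trans i⟩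
  · rw [congr_apply, e.symm_apply_apply, tau_a]
  · rw [congr_apply, e.symm_apply_apply, tau_b]
  · intro t ht hout
    have ht2 : A.symm t * A.symm t = 1 := by
      rw [← map_mul, ← pow_two, ← ht, pow_orderOf_eq_one, map_one]
    have hout' : A.symm t ∉ (MulAut.conj : Gp →* MulAut Gp).range := by
      rintro ⟨k, hk⟩
      exact hout ⟨e k, by rw [← congr_conj, hk]; exact A.apply_symm_apply t⟩
    obtain ⟨i, hi⟩ := complete hF hsplit φ hφs hφk (fun u hu => by
      obtain ⟨d, hd, hfix⟩ := Tri.InvolFixed.exists_fixed h hprim h22 (A u) (by rw [← map_mul, hu, map_one])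
      rw [← he] at hd
      obtain ⟨x, ⟨p, rfl⟩, rfl⟩ := hd
      refine ⟨p, ?_⟩
      rwa [congr_apply, e.symm_apply_apply, e.injective.eq_iff] at hfix) ht2 hout'
    have hi' := A.toMonoidHom.map_isConj hi
    simp only [MulEquiv.coe_toMonoidHom, A.apply_symm_apply] at hi'
    fin_cases i
    · left
      simpa [target] using hi'
    · right; left
      rw [← hA1]
      exact hi'
    · right; right
      rw [← hA2]
      exact hi'
  · intro r
    rw [← hA1] at r
    exact distinct.1 (hnc r)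
  · intro r
    rw [← hA2] at r
    exact distinct.2.1 (hnc r)
  · intro r
    rw [← hA1, ← hA2] at r
    exact distinct.2.2 (hnc r)
  · intro g
    rw [← hA1, hfixA, fix_one, ← hcent, mem_map_iso]
  · obtain ⟨i⟩ := one_iso
    rw [← hcent]
    exact ⟨((CS ⊓ Subgroup.centralizer ({trp ptA} : Set Gp)).equivMapOfInjective e.toMonoidHom e.injective).symm.trans
      ((MulEquiv.subgroupCongr K2_eq.symm).trans i)⟩
  · obtain ⟨O, hO, ⟨hcomm, hsq⟩, hcard, ρ, hρ, hker⟩ := two_iso
    let m : ↥K3 ≃* ↥(K3.map e.toMonoidHom) := K3.equivMapOfInjective e.toMonoidHom e.injective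
    have hcore : Cfsg.pCore 2 ↥(K3.map e.toMonoidHom) = O.map m.toMonoidHom := by
      rw [hO, CfsgLib.Coprime.map_pCore_equiv]
    refine ⟨K3.map e.toMonoidHom, (Cfsg.pCore 2 ↥(K3.map e.toMonoidHom)).map (K3.map e.toMonoidHom).subtype, ?_, rfl,
      ⟨?_, ?_⟩, ?_, ?_⟩
    · intro g
      rw [mem_map_iso, ← hA2, hfixA]
      rfl
    · refine ⟨⟨fun x y => Subtype.ext ?_⟩⟩
      obtain ⟨_, ⟨u0, hu0, rfl⟩⟩ := x
      obtain ⟨_, ⟨v0, hv0, rfl⟩⟩ := y
      have hu1 : u0 ∈ O.map m.toMonoidHom := hcore ▸ hu0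
      have hv1 : v0 ∈ O.map m.toMonoidHom := hcore ▸ hv0
      obtain ⟨u, hu, rfl⟩ := hu1
      obtain ⟨v, hv, rfl⟩ := hv1
      have r : u * v = v * u := congrArg Subtype.val (hcomm.is_comm.comm ⟨u, hu⟩ ⟨v, hv⟩)
      show ((m u : ↥(K3.map e.toMonoidHom)) : G) * (m v : G) = (m v : G) * (m u : G)
      rw [← Subgroup.coe_mul, ← Subgroup.coe_mul, ← map_mul, ← map_mul, r]
    · rintro _ ⟨u, hu, rfl⟩
      rw [hcore] at hu
      obtain ⟨u, hu, rfl⟩ := hu
      rw [← map_pow, ← map_pow, hsq u hu, map_one, map_one]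
    · rw [Subgroup.card_map_of_injective (Subgroup.subtype_injective _), hcore,
        Subgroup.card_map_of_injective m.injective, hcard]
    · have hsub : ((Cfsg.pCore 2 ↥(K3.map e.toMonoidHom)).map (K3.map e.toMonoidHom).subtype).subgroupOf
          (K3.map e.toMonoidHom) = O.map m.toMonoidHom := by
        rw [Subgroup.subgroupOf, Subgroup.comap_map_eq_self_of_injective (Subgroup.subtype_injective _), hcore]
      let π : ↥(K3.map e.toMonoidHom) →* ↥(Cfsg.isometryGroup (ZMod 2) (Cfsg.quadFormMinus 2 (ZMod 2) 1 1)) :=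
        ρ.comp m.symm.toMonoidHom
      have hπ : π.ker = O.map m.toMonoidHom := by
        ext x
        rw [MonoidHom.mem_ker, Subgroup.mem_map_equiv, ← hker, MonoidHom.mem_ker]
        rfl
      have hN : (((Cfsg.pCore 2 ↥(K3.map e.toMonoidHom)).map (K3.map e.toMonoidHom).subtype).subgroupOf
          (K3.map e.toMonoidHom)).Normal := by
        rw [hsub, ← hπ]; infer_instance
      refine ⟨hN, ⟨?_⟩⟩
      haveI := hN
      exact (QuotientGroup.quotientMulEquivOfEq (hsub.trans hπ.symm)).trans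
        (QuotientGroup.quotientKerEquivOfSurjective π (hρ.comp m.symm.surjective))

end

end CfsgLib.Spor.Fi22OuterInv
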